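import Cfsg.Agent.H69.Std3
import Cfsg.Agent.H69.Std2

/-! Tower STD: the fourth power argument, evaluation of words on a base, lists closed under
conjugation. -/

set_option autoImplicit false
set_option linter.unusedSectionVars false

namespace H69.Std

open Cfsg Subgroup H14 H98 H1.Gold

universe u

section
variable {X Y : Type*} [Group X] [Group Y] {t : X}

/-- No cyclic subgroup of order four is normal up to its own involution. -/
def NoZ4 (t : X) : Prop := ∀ l : X, l ^ 4 = 1 → l * l = 1 ∨ l * l = t ∨ ∃ b, Commute b (l * l) ∧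
  b * l * b⁻¹ * l⁻¹ * (b * l * b⁻¹ * l⁻¹) = 1 ∧ b * l * b⁻¹ * l⁻¹ ≠ 1 ∧
    b * l * b⁻¹ * l⁻¹ ≠ l * l ∧ b * l * b⁻¹ * l⁻¹ ≠ t * (l * l)

/-- `t` is the only involution that is not a fourth power. -/
def PW (t : X) : Prop := (∀ s : X, s * s = 1 → s = 1 ∨ s = t ∨ ∃ z, z ^ 4 = s) ∧ ∀ x, x ^ 4 ≠ t

theorem NoZ4.of_equiv (e : X ≃* Y) (h : NoZ4 (e t)) : NoZ4 t := fun l hl => by
  rcases h (e l) (by rw [← map_pow, hl, map_one]) with h | h | ⟨b, h⟩
  · exact Or.inl (e.injective (by rw [map_mul, h, map_one]))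
  · exact Or.inr (Or.inl (e.injective (by rw [map_mul, h])))
  · obtain ⟨b, rfl⟩ := e.surjective b
    simp only [← map_mul, ← map_inv, Commute, SemiconjBy, ne_eq, EmbeddingLike.apply_eq_iff_eq,
      EmbeddingLike.map_eq_one_iff] at h
    exact Or.inr (Or.inr ⟨b, h⟩)

theorem PW.of_equiv (e : X ≃* Y) (h : PW (e t)) : PW t := by
  refine ⟨fun s hs => ?_, fun x hx => h.2 (e x) (by rw [← map_pow, hx])⟩
  rcases h.1 (e s) (by rw [← map_mul, hs, map_one]) with h | h | ⟨z, h⟩
  · exact Or.inl (e.injective (by rw [h, map_one]))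
  · exact Or.inr (Or.inl (e.injective h))
  · exact Or.inr (Or.inr ⟨e.symm z, e.injective (by rw [map_pow, e.apply_symm_apply, h])⟩)

end

section
variable {G : Type u} [Group G] [Finite G] {L L' : Subgroup G} {s t : G}

theorem Pair.thin_of_noZ4 (p : Pair L L' t s) (hU : Uniq L t) (hs : s ∈ L)
    (hin : ∀ f, Commute f t → f * f = s → ∃ k ∈ cen L, ∃ l ∈ L, f = k * l)
    (h : NoZ4 (⟨t, p.e.mem⟩ : L)) : Thin L t := fun k hk h4 => by
  have sq : ∀ a : G, a ^ 4 = a * a * (a * a) := fun a => by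
    rw [show 4 = 2 + 2 from rfl, pow_add, pow_two]
  rcases hU _ (mul_mem hk hk) (by rw [← sq, h4]) with e | e
  · exact hU k hk e
  obtain ⟨f, hf, ht, f4, f2⟩ := p.exists_four hk (comm_of_cen hk hs) e
  have hU' := p.uniq' hU
  have fs : f * f = s := (hU' _ (mul_mem hf hf) (by rw [← sq, f4])).resolve_left f2
  obtain ⟨a, ha, l, hl, rfl⟩ := hin f ht fs
  rw [(comm_of_cen ha hl).symm.mul_mul_mul_comm] at fs
  have h1 : l * l = s ∨ t * (l * l) = s := by
    rcases (p.e.zc (a * a) (by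
      rw [eq_mul_inv_of_mul_eq fs]; exact mul_mem hs (inv_mem (mul_mem hl hl)))).mp
      (mul_mem ha ha) with e | e <;> rw [e] at fs
    exacts [Or.inl (by rwa [one_mul] at fs), Or.inr fs]
  exfalso
  rcases h ⟨l, hl⟩ (Subtype.ext (by
      show l ^ 4 = 1
      rw [sq]
      rcases h1 with e | e
      · rw [e, p.e'.tt]
      · rw [eq_inv_mul_of_mul_eq e, ← mul_assoc, mul_assoc _ s, p.comm.inv_right.eq, ← mul_assoc,
          mul_assoc _ s, p.e'.tt, mul_one, ← mul_inv_rev, p.e.tt, inv_one])) with e | e | ⟨b, h⟩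
  · have e : l * l = 1 := congrArg Subtype.val e
    rw [e, mul_one] at h1
    exact h1.elim (fun e => p.e'.ne_one e.symm) fun e => p.ne e.symm
  · have e : l * l = t := congrArg Subtype.val e
    rw [e, p.e.tt] at h1
    exact h1.elim (fun e => p.ne e.symm) fun e => p.e'.ne_one e.symm
  obtain ⟨b, hb⟩ := b
  simp only [Commute, SemiconjBy, ne_eq, Subtype.ext_iff, coe_mul, coe_inv, coe_one] at h
  obtain ⟨c0, c1, c2, c3, c4⟩ := h
  have bs : Commute b s := by
    rcases h1 with e | e <;> rw [← e]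
    exacts [c0, (p.e.commL hb).mul_right c0]
  have m : b * l * b⁻¹ * l⁻¹ ∈ cen L' := by
    have := mul_mem (p.e'.conj_memK bs hf) (inv_mem hf)
    rwa [← mul_assoc b, ← (comm_of_cen ha hb).eq, mul_inv_rev, mul_assoc a, mul_assoc a,
      mul_assoc a, ← mul_assoc _ l⁻¹, ← mul_assoc a, (comm_of_cen ha (mul_mem (mul_mem (mul_mem hb
        hl) (inv_mem hb)) (inv_mem hl))).eq, mul_inv_cancel_right] at this
  rcases hU' _ m c1 with e | e
  · exact c2 e
  · exact h1.elim (fun h => c3 (e.trans h.symm)) fun h => c4 (e.trans h.symm)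

/-- The fourth power argument. -/
theorem EZ.normal_of_pw (e : EZ L t) (hO : oddCore G = ⊥) (hU : Uniq L t)
    (hin : ∀ x, Commute x t → ∃ k ∈ cen L, ∃ l ∈ L, x = k * l)
    (h1 : NoZ4 (⟨t, e.mem⟩ : L)) (h2 : PW (⟨t, e.mem⟩ : L)) : L.Normal := by
  by_contra hn
  obtain ⟨g, p⟩ := e.exists_pair hO hn
  have hs := p.mem_of_uniq hU fun f _ hf _ _ => hin f hf
  have hT := p.thin_of_noZ4 hU hs (fun f hf _ => hin f hf) h1
  rcases h2.1 ⟨_, hs⟩ (Subtype.ext p.e'.tt) with h | h | ⟨z, h⟩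
  · exact p.e'.ne_one (congrArg Subtype.val h)
  · exact p.ne (congrArg Subtype.val h)
  have h : (g⁻¹ * z * g) ^ 4 = t := by
    have : (z : G) ^ 4 = g * t * g⁻¹ := congrArg Subtype.val h
    rw [show g⁻¹ * z * g = g⁻¹ * z * g⁻¹⁻¹ by rw [inv_inv], conj_pow, this]; group
  obtain ⟨k, hk, l, hl, e1⟩ := hin (g⁻¹ * z * g) (h ▸ (Commute.refl _).pow_right 4)
  rw [e1] at h
  exact h2.2 ⟨_, hT.mem_of_pow e hk hl (n := 3) (by
    rw [show 2 ^ 3 = 4 * 2 from rfl, pow_mul, h, pow_two, e.tt])⟩ (Subtype.ext h)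

/-- Trivial outer automorphism group: the centraliser of `t` is `C(L) L`. -/
theorem EZ.inner_of_out (e : EZ L t) {M : Type*} [Group M] (E : L ⧸ center L ≃* M)
    (hM : ∀ φ : MulAut M, ∃ m, φ = MulAut.conj m) (hc : center M = ⊥) {x : G} (hx : Commute x t) :
    ∃ k ∈ cen L, ∃ l ∈ L, x = k * l := by
  obtain ⟨r, R, -⟩ := e.exists_rep (M0 := ⊤) (E.toMonoidHom.comp (QuotientGroup.mk' _)) (fun l => by
      show E _ = 1 ↔ _
      rw [EmbeddingLike.map_eq_one_iff, QuotientGroup.mk'_apply, QuotientGroup.eq_one_iff,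
        mem_center_iff]
      exact ⟨fun h y hy => congrArg Subtype.val (h ⟨y, hy⟩), fun h y => Subtype.ext (h y y.2)⟩)
    (MonoidHom.range_eq_top.mpr (E.surjective.comp (QuotientGroup.mk'_surjective _)))
    (fun φ => by
      obtain ⟨m, hm⟩ := hM (MulAut.congr topEquiv φ)
      exact ⟨m, fun y => congrArg (fun ψ : MulAut M => ψ y) hm⟩)
    (fun m hm => mem_bot.mp (hc ▸ mem_center_iff.mpr fun y => (hm y trivial).symm))
  exact R.inner e hx trivial

end

/-! ### words on a base -/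

open H49

variable {M : Type} [Monoid M] {C : CS M}

theorem eq_one_of_base [Finite (UG C)] {A : Act C} {L : List (Lv C)} (h1 : ubOK A.ap L = true)
    (h2 : lbOK A L = true) {x : UG C} (hx : x ∈ closure {s | s ∈ topS L})
    (hb : ∀ v ∈ L, A.ap x.c v.b = v.b) : x = 1 := by
  unfold ubOK at h1
  rw [frcLL_eq] at h1
  induction L generalizing x with
  | nil => simpa [topS] using hx
  | cons v L ih =>
    have k : andB (lbOK A L) (andB (A.dom v.b) (andB (idxOK (fun t => v.tab (A.ap t.c v.b)) v.T 0)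
      (UG.frcL v.S fun S => allB (fun s => andB (memB s S) (Nat.beq (A.ap s.c v.b) v.b))
        (topS L)))) = true := h2
    rw [UG.frcL_eq, andB_iff, andB_iff, andB_iff, allB_iff] at k
    obtain ⟨k1, k2, k3, k4⟩ := k
    have h3 : ubGo A.ap L (trs L) = true := (andB_iff.mp h1).1
    have key : ∀ y ∈ closure {s | s ∈ topS (v :: L)}, ∃ a ∈ v.T, ∃ z ∈ closure {s | s ∈ topS L},
        y = a * z ∧ A.ap y.c v.b = A.ap a.c v.b := fun y hy => by
      rw [← mem_toSubmonoid, closure_toSubmonoid_of_finite, ← ubGo_spec h1] at hy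
      obtain ⟨a, ha, z, hz, rfl⟩ := hy
      replace hz := (ubGo_spec h3 z).mp hz
      refine ⟨a, ha, z, le_closure_toSubmonoid _ hz, rfl,
        (A.ap_mul _ _ _ a.ok.1 z.ok.1 k2).trans (congrArg _ ?_)⟩
      induction hz using Submonoid.closure_induction with
      | mem s hs => exact Nat.eq_of_beq_eq_true (andB_iff.mp (k4 s hs)).2
      | one => exact A.ap_one _ k2
      | mul a b _ _ ha hb => exact (A.ap_mul _ _ _ a.ok.1 b.ok.1 k2).trans (by rw [hb, ha])
    obtain ⟨a, ha, z, hz, e1, e2⟩ := key x hx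
    obtain ⟨a', ha', z', hz', e3, e4⟩ := key 1 (one_mem _)
    obtain rfl : a = a' := List.inj_on_of_nodup_map (idxOK_spec k3).2 ha ha' (by
      rw [← e2, ← e4, hb v List.mem_cons_self]
      exact congrArg _ (A.ap_one _ k2).symm)
    refine ih h3 k1 ?_ fun w hw => hb w (List.mem_cons_of_mem _ hw)
    rw [e1, eq_inv_of_mul_eq_one_left e3.symm]
    exact mul_mem (inv_mem hz') hz

/-- the image of a point under a product -/
noncomputable def evW (ap : ℕ → ℕ → ℕ) (w : List (UG C)) (p : ℕ) : ℕ :=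
  List.rec (motive := fun _ => ℕ) p (fun a _ ih => ap a.c ih) w

theorem evW_eq {A : Act C} {p : ℕ} (hp : A.dom p = true) (w : List (UG C)) :
    evW A.ap w p = A.ap w.prod.c p := by
  induction w with
  | nil => exact (A.ap_one _ hp).symm
  | cons a w ih =>
    rw [List.prod_cons]
    exact (congrArg (A.ap a.c) ih).trans (A.ap_mul _ _ _ a.ok.1 w.prod.ok.1 hp).symm

/-- two products agree on the points of `B` -/
noncomputable def eqW (ap : ℕ → ℕ → ℕ) (B : List ℕ) (w w' : List (UG C)) : Bool :=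
  allB (fun p => Nat.beq (evW ap w p) (evW ap w' p)) B

/-- `B` is a base. -/
def IsBase (A : Act C) (B : List ℕ) : Prop := (∀ p ∈ B, A.dom p = true) ∧
  ∀ x y : UG C, (∀ p ∈ B, A.ap x.c p = A.ap y.c p) → x = y

theorem isBase_of_chain [Finite (UG C)] {A : Act C} {L : List (Lv C)} (h1 : ubOK A.ap L = true)
    (h2 : lbOK A L = true) (h3 : closure {s | s ∈ topS L} = ⊤) {B : List ℕ}
    (h4 : L.map Lv.b = B) (h5 : allB A.dom B = true) : IsBase A B := by
  subst h4
  refine ⟨allB_iff.mp h5, fun x y h => (inv_mul_eq_one.mp (eq_one_of_base h1 h2 (h3.ge trivial)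
    fun v hv => ?_)).symm⟩
  have hv' := List.mem_map_of_mem (f := Lv.b) hv
  have d := allB_iff.mp h5 _ hv'
  refine (A.ap_mul _ _ _ (y⁻¹).ok.1 x.ok.1 d).trans ?_
  rw [h _ hv']
  refine (A.ap_mul _ _ _ (y⁻¹).ok.1 y.ok.1 d).symm.trans ?_
  exact (congrArg (fun z : UG C => A.ap z.c v.b) (inv_mul_cancel y)).trans (A.ap_one _ d)

theorem IsBase.eqW_iff {A : Act C} {B : List ℕ} (h : IsBase A B) {w w' : List (UG C)} :
    eqW A.ap B w w' = true ↔ w.prod = w'.prod := by
  unfold eqW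
  rw [allB_iff]
  refine ⟨fun k => h.2 _ _ fun p hp => ?_, fun k p hp => ?_⟩
  · rw [← evW_eq (h.1 p hp), ← evW_eq (h.1 p hp)]
    exact Nat.eq_of_beq_eq_true (k p hp)
  · rw [evW_eq (h.1 p hp), evW_eq (h.1 p hp), k]
    exact Nat.beq_refl _

/-- the images of the points of `B`, as one number -/
noncomputable def keyB (ap : ℕ → ℕ → ℕ) (n : ℕ) (B : List ℕ) (x : UG C) : ℕ :=
  List.rec (motive := fun _ => ℕ) 0 (fun p _ ih => Nat.add (ap x.c p) (Nat.mul n ih)) B

theorem IsBase.eq_of_key {A : Act C} {B : List ℕ} (h : IsBase A B) {n : ℕ}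
    (hn : ∀ a p, A.ap a p < n) {x y : UG C} (e : keyB A.ap n B x = keyB A.ap n B y) : x = y := by
  refine h.2 x y ?_
  clear h
  induction B with
  | nil => simp
  | cons p B ih =>
    have e' : A.ap x.c p + n * keyB A.ap n B x = A.ap y.c p + n * keyB A.ap n B y := e
    have e1 : A.ap x.c p = A.ap y.c p := by
      have := congrArg (· % n) e'
      simpa only [Nat.add_mul_mod_self_left, Nat.mod_eq_of_lt (hn _ _)] using this
    rw [e1, Nat.add_right_inj] at e'
    exact List.forall_mem_cons.mpr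
      ⟨e1, ih (Nat.eq_of_mul_eq_mul_left (Nat.zero_lt_of_lt (hn 0 0)) e')⟩

/-- membership in a list of numbers -/
noncomputable def memN (n : ℕ) (L : List ℕ) : Bool :=
  frc n fun n => List.rec (motive := fun _ => Bool) false (fun y _ ih => orB (Nat.beq n y) ih) L

theorem mem_of_memN {n : ℕ} {L : List ℕ} (h : memN n L = true) : n ∈ L := by
  unfold memN at h
  rw [frc_eq] at h
  induction L with
  | nil => exact absurd h (by simp)
  | cons y L ih =>
    rcases orB_iff.mp h with e | e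
    exacts [Nat.eq_of_beq_eq_true e ▸ List.mem_cons_self, List.mem_cons_of_mem _ (ih e)]

/-- `∃` over a list -/
noncomputable def anyB {α : Type} (p : α → Bool) (L : List α) : Bool :=
  List.rec (motive := fun _ => Bool) false (fun a _ ih => orB (p a) ih) L

theorem exists_of_anyB {α : Type} {p : α → Bool} {L : List α} (h : anyB p L = true) :
    ∃ a ∈ L, p a = true := by
  induction L with
  | nil => exact absurd h (by simp [anyB])
  | cons a L ih =>
    rcases orB_iff.mp h with e | e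
    · exact ⟨a, List.mem_cons_self, e⟩
    · obtain ⟨b, hb, e⟩ := ih e
      exact ⟨b, List.mem_cons_of_mem _ hb, e⟩

/-- add conjugates of earlier elements -/
noncomputable def bld (H : List (UG C)) (Z : List (ℕ × ℕ)) :
    List (UG C) → (List (UG C) → Bool) → Bool :=
  List.rec (motive := fun _ => List (UG C) → (List (UG C) → Bool) → Bool) (fun acc k => k acc)
    (fun p _ ih acc k => (nthD 1 H p.1 * nthD 1 acc p.2 * (nthD 1 H p.1)⁻¹).frc
      fun y => ih (y :: acc) k) Z

theorem bld_spec {P : UG C → Prop} (h1 : P 1) (hP : ∀ h y, P y → P (h * y * h⁻¹))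
    {H : List (UG C)} {Z : List (ℕ × ℕ)} {k : List (UG C) → Bool} {acc : List (UG C)}
    (ha : ∀ y ∈ acc, P y) (h : bld H Z acc k = true) : ∃ R, (∀ y ∈ R, P y) ∧ k R = true := by
  induction Z generalizing acc with
  | nil => exact ⟨acc, ha, h⟩
  | cons p Z ih =>
    have h' : ((nthD 1 H p.1 * nthD 1 acc p.2 * (nthD 1 H p.1)⁻¹).frc
      fun y => bld H Z (y :: acc) k) = true := h
    rw [UG.frc_eq] at h'
    refine ih (List.forall_mem_cons.mpr ⟨hP _ _ ?_, ha⟩) h'
    rcases nthD_mem 1 acc p.2 with e | e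
    exacts [by rw [e]; exact h1, ha _ e]

/-- The keys of a list closed under conjugation. -/
theorem of_bld {A : Act C} {B : List ℕ} (hB : IsBase A B) {n : ℕ} (hn : ∀ a p, A.ap a p < n)
    {P : UG C → Prop} (h1 : P 1) (hP : ∀ h y, P y → P (h * y * h⁻¹))
    {H : List (UG C)} {Z : List (ℕ × ℕ)} {acc : List (UG C)} (ha : ∀ y ∈ acc, P y) {K : List ℕ}
    (h : UG.frcL H (fun H => bld H Z acc fun R => decide (R.map (keyB A.ap n B) = K)) = true)
    {x : UG C} (hx : memN (keyB A.ap n B x) K = true) : P x := by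
  rw [UG.frcL_eq] at h
  obtain ⟨R, hR, e⟩ := bld_spec h1 hP ha h
  rw [← of_decide_eq_true e] at hx
  obtain ⟨y, hy, e⟩ := List.mem_map.mp (mem_of_memN hx)
  exact hB.eq_of_key hn e ▸ hR y hy

/-- The first transversal in pieces. -/
theorem of_pieces {L : List (List (UG C))} {p : UG C → Bool} {T : List (UG C)} (n k : ℕ)
    (hT : T.length ≤ n * k) (h : ∀ i < k, allProd ((T.drop (n * i)).take n :: L) p = true)
    {y : UG C} (hy : inProd (T :: L) y) : p y = true := by
  obtain ⟨t, ht, z, hz, rfl⟩ := hy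
  obtain ⟨j, hj, rfl⟩ := List.getElem_of_mem ht
  have hn : 0 < n := Nat.pos_of_ne_zero (by rintro rfl; omega)
  refine of_allProd (h (j / n) ((Nat.div_lt_iff_lt_mul hn).mpr (by rw [mul_comm]; omega)))
    ⟨_, ?_, z, hz, rfl⟩
  have := Nat.mod_lt j hn
  have e := Nat.div_add_mod j n
  refine List.mem_iff_getElem.mpr ⟨j % n, by simp; omega, by simp [e]⟩

end H69.Std
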