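import Cfsg.Agent.H69.Std6

/-! Tower STD, row S1747: coordinates in elementary abelian `2`-groups, four-groups, sections. -/

set_option autoImplicit false
set_option linter.unusedSectionVars false

namespace H69.He

open Cfsg Subgroup H14 H98 H1.Gold H69.Std

universe u

variable {G : Type u} [Group G] {L : List G} {s t u v x y : G} {V Q : Subgroup G}
  {c d : List ℕ} {φ ψ : ℕ → ℕ} {m n : ℕ}

/-- the product of the members of `L` given by the binary digits of `n` -/
def bv {X : Type*} [Group X] : List X → ℕ → X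
  | [], _ => 1
  | h :: L, n => (if n % 2 = 1 then h else 1) * bv L (n / 2)

/-- the linear map with columns `c` -/
def app : List ℕ → ℕ → ℕ
  | [], _ => 0
  | h :: c, n => (if n % 2 = 1 then h else 0) ^^^ app c (n / 2)

/-- the standard basis -/
def B6 : List ℕ := [1, 2, 4, 8, 16, 32]

/-- a word in linear maps -/
def evf (cs : List (List ℕ)) (w : List ℕ) (n : ℕ) : ℕ :=
  w.foldr (fun k m => app (cs.getD k B6) m) n

/-- a word in group elements -/
def wv (gs : List G) (w : List ℕ) : G := w.foldr (fun k x => gs.getD k 1 * x) 1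

/-- the subgroup generated by a list -/
abbrev cl (L : List G) : Subgroup G := closure {x | x ∈ L}

theorem bv_zero (L : List G) : bv L 0 = 1 := by
  induction L with
  | nil => rfl
  | cons h L ih => simp [bv, ih]

theorem bv_mem {K : Subgroup G} (h : ∀ x ∈ L, x ∈ K) (n : ℕ) : bv L n ∈ K := by
  induction L generalizing n with
  | nil => exact one_mem _
  | cons a L ih =>
    refine mul_mem ?_ (ih (fun x hx => h x (List.mem_cons_of_mem _ hx)) _)
    split_ifs
    exacts [h a List.mem_cons_self, one_mem _]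

theorem bv_cl (L : List G) (n : ℕ) : bv L n ∈ cl L := bv_mem (fun _ hx => subset_closure hx) n

theorem map_bv {X : Type*} [Group X] {r : G → X} {K : Subgroup G} (h1 : r 1 = 1)
    (hr : ∀ {x y}, x ∈ K → y ∈ K → r (x * y) = r x * r y) (h : ∀ x ∈ L, x ∈ K) (n : ℕ) :
    r (bv L n) = bv (L.map r) n := by
  induction L generalizing n with
  | nil => exact h1
  | cons a L ih =>
    have h2 := fun x hx => h x (List.mem_cons_of_mem a hx)
    rw [List.map_cons, bv, bv, ← ih h2]
    split_ifs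
    · exact hr (h a List.mem_cons_self) (bv_mem h2 _)
    · rw [one_mul, one_mul]

theorem hom_bv {X : Type*} [Group X] (f : G →* X) (L : List G) (n : ℕ) :
    f (bv L n) = bv (L.map f) n :=
  map_bv (K := ⊤) f.map_one (fun _ _ => f.map_mul _ _) (fun _ _ => mem_top _) n

theorem app_lt {k : ℕ} (h : ∀ e ∈ c, e < 2 ^ k) (n : ℕ) : app c n < 2 ^ k := by
  induction c generalizing n with
  | nil => exact Nat.two_pow_pos k
  | cons a c ih =>
    refine Nat.xor_lt_two_pow ?_ (ih (fun x hx => h x (List.mem_cons_of_mem _ hx)) _)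
    split_ifs
    exacts [h a List.mem_cons_self, Nat.two_pow_pos k]

theorem wv_mem {K : Subgroup G} (h : ∀ x ∈ L, x ∈ K) (w : List ℕ) : wv L w ∈ K := by
  induction w with
  | nil => exact one_mem _
  | cons k w ih =>
    refine mul_mem ?_ ih
    rw [List.getD_eq_getElem?_getD]
    cases e : L[k]? with
    | none => exact one_mem _
    | some a => exact h a (List.mem_of_getElem? e)

theorem cj_cl (g : G) (L : List G) : cj g (cl L) = cl (L.map fun x => g * x * g⁻¹) := by
  rw [cj, MonoidHom.map_closure]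
  congr 1
  ext x
  simp

/-- commuting elements of order at most two -/
def EA (L : List G) : Prop := ∀ x ∈ L, x * x = 1 ∧ ∀ y ∈ L, x * y = y * x

theorem EA.tail {a : G} (h : EA (a :: L)) : EA L := fun x hx =>
  ⟨(h x (List.mem_cons_of_mem _ hx)).1, fun y hy =>
    (h x (List.mem_cons_of_mem _ hx)).2 y (List.mem_cons_of_mem _ hy)⟩

theorem EA.xor (h : EA L) (m n : ℕ) : bv L (m ^^^ n) = bv L m * bv L n := by
  induction L generalizing m n with
  | nil => exact (mul_one 1).symm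
  | cons a L ih =>
    have h1 := h a List.mem_cons_self
    have c : ∀ k, bv L k * a = a * bv L k := fun k => mem_cen1.mp (bv_mem (fun x hx =>
      mem_cen1.mpr (h1.2 x (List.mem_cons_of_mem _ hx)).symm) k)
    rw [bv, bv, bv, Nat.xor_div_two, ih h.tail]
    by_cases hm : m % 2 = 1 <;> by_cases hn : n % 2 = 1 <;>
      simp only [Nat.xor_mod_two_eq_one, hm, hn, if_true, if_false, one_mul, iff_true, iff_false,
        not_true, not_false_eq_true, iff_self]
    · rw [mul_assoc, ← mul_assoc (bv L _) a, c, ← mul_assoc, ← mul_assoc, h1.1, one_mul]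
    · rw [mul_assoc]
    · rw [← mul_assoc, ← mul_assoc, c]

theorem EA.sq (h : EA L) (n : ℕ) : bv L n * bv L n = 1 := by
  rw [← h.xor, Nat.xor_self, bv_zero]

theorem EA.comm (h : EA L) (m n : ℕ) : Commute (bv L m) (bv L n) := by
  show _ = _
  rw [← h.xor, ← h.xor, Nat.xor_comm]

theorem EA.app (h : EA L) (c : List ℕ) (n : ℕ) : bv (c.map (bv L)) n = bv L (app c n) := by
  induction c generalizing n with
  | nil => exact (bv_zero L).symm
  | cons a c ih =>
    rw [List.map_cons, bv, He.app, h.xor, ih]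
    split_ifs
    exacts [rfl, by rw [bv_zero]]

theorem exists_bv (hx : x ∈ L) : ∃ n < 2 ^ L.length, x = bv L n := by
  induction L with
  | nil => simp at hx
  | cons a L ih =>
    rcases List.mem_cons.mp hx with rfl | hx
    · exact ⟨1, Nat.one_lt_two_pow (by simp), by simp [bv, bv_zero]⟩
    · obtain ⟨n, hn, e⟩ := ih hx
      exact ⟨2 * n, by rw [List.length_cons, pow_succ]; omega, by simp [bv, e]⟩

theorem EA.of_cl (h : EA L) (hx : x ∈ cl L) : ∃ n < 2 ^ L.length, x = bv L n := by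
  induction hx using closure_induction with
  | mem x hx => exact exists_bv hx
  | one => exact ⟨0, Nat.two_pow_pos _, (bv_zero L).symm⟩
  | mul x y _ _ hx hy =>
    obtain ⟨m, hm, rfl⟩ := hx
    obtain ⟨n, hn, rfl⟩ := hy
    exact ⟨_, Nat.xor_lt_two_pow hm hn, (h.xor m n).symm⟩
  | inv x _ hx =>
    obtain ⟨m, hm, rfl⟩ := hx
    exact ⟨m, hm, inv_eq_of_mul_eq_one_left (h.sq m)⟩

theorem EA.sq' (h : EA L) (hx : x ∈ cl L) : x * x = 1 := by
  obtain ⟨n, -, rfl⟩ := h.of_cl hx
  exact h.sq n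

theorem EA.le_cen (h : EA L) : cl L ≤ cen (cl L) := fun x hx y hy => by
  obtain ⟨n, -, rfl⟩ := h.of_cl hx
  obtain ⟨m, -, rfl⟩ := h.of_cl hy
  exact h.comm m n

theorem bv_B6 (h : L.length = 6) : B6.map (bv L) = L := by
  match L, h with
  | [a, b, c, d, e, f], _ => simp [B6, bv]

/-- `x` acts on the coordinates as `φ` -/
def Ac (L : List G) (x : G) (φ : ℕ → ℕ) : Prop := ∀ n, x * bv L n * x⁻¹ = bv L (φ n)

theorem Ac.of_map (h : EA L) (e : L.map (fun y => x * y * x⁻¹) = c.map (bv L)) :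
    Ac L x (app c) := fun n => by
  rw [← h.app, ← e]
  exact hom_bv (MulAut.conj x).toMonoidHom L n

theorem Ac.of_basis (h : EA L) (h6 : L.length = 6)
    (e : B6.map (fun n => x * bv L n * x⁻¹) = c.map (bv L)) : Ac L x (app c) :=
  Ac.of_map h (by rw [← e, ← bv_B6 h6, List.map_map, bv_B6 h6]; rfl)

theorem Ac.norm (a : Ac L x φ) (h : EA L) (h6 : L.length = 6) (e : B6.map φ = c) :
    Ac L x (app c) :=
  Ac.of_basis h h6 (by rw [← e, List.map_map]; exact List.map_congr_left fun n _ => a n)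

theorem Ac.mul (a : Ac L x φ) (b : Ac L y ψ) : Ac L (x * y) fun n => φ (ψ n) := fun n => by
  rw [← a, ← b]; group

theorem Ac.one : Ac L 1 id := fun n => by simp

theorem Ac.id' (h : EA L) (h6 : L.length = 6) : Ac L 1 (app B6) := Ac.one.norm h h6 rfl

theorem Ac.inv (a : Ac L x φ) (h : EA L) (h6 : L.length = 6) (e : d.map φ = B6) :
    Ac L x⁻¹ (app d) := Ac.of_basis h h6 (by
  rw [← e, List.map_map]
  exact List.map_congr_left fun n _ => by rw [Function.comp, ← a]; group)

theorem Ac.wv {gs : List G} {cs : List (List ℕ)}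
    (a : ∀ k, Ac L (gs.getD k 1) (app (cs.getD k B6))) (w : List ℕ) : Ac L (wv gs w) (evf cs w) := by
  induction w with
  | nil => exact Ac.one
  | cons k w ih => exact (a k).mul ih

theorem Ac.three {z : G} {e : List ℕ} (h : EA L) (h6 : L.length = 6) (a : Ac L x (app c))
    (b : Ac L y (app d)) (a' : Ac L z (app e)) (w : List ℕ) :
    Ac L (He.wv [x, y, z] w) (evf [c, d, e] w) := Ac.wv (fun k => by
  rcases k with _ | _ | _ | k
  exacts [a, b, a', Ac.id' h h6]) w

theorem Ac.nor [Finite G] (a : Ac L x φ) (h : EA L) : x ∈ nor (cl L) :=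
  mem_normalizer_of_cj_le (by
    rintro _ ⟨y, hy, rfl⟩
    obtain ⟨n, -, rfl⟩ := h.of_cl hy
    exact (congrArg (· ∈ cl L) (a n)).mpr (bv_cl L _))

theorem Ac.cen (a : Ac L x φ) (b : Ac L y φ) (h : EA L) : x⁻¹ * y ∈ cen (cl L) := fun z hz => by
  obtain ⟨n, -, rfl⟩ := h.of_cl hz
  calc bv L n * (x⁻¹ * y) = x⁻¹ * (x * bv L n * x⁻¹) * y := by group
    _ = _ := by rw [a, ← b]; group

theorem Ac.mul_cen (a : Ac L x φ) (hy : y ∈ H1.Gold.cen (cl L)) : Ac L (x * y) φ := fun n => by
  rw [← a, mul_assoc x y, ← hy _ (bv_cl L n)]; group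

theorem sq_comm (h : ∀ x ∈ V, x * x = 1) (hx : x ∈ V) (hy : y ∈ V) : Commute x y := by
  have := h _ (mul_mem hx hy)
  show _ = _
  calc x * y = x * (x * y * (x * y)) * y := by rw [this, mul_one]
    _ = x * x * (y * x) * (y * y) := by group
    _ = _ := by rw [h x hx, h y hy, one_mul, mul_one]

theorem two_of_sq (h : ∀ x ∈ V, x * x = 1) : IsPGroup 2 V :=
  isPGroup_iff_forall.mpr fun x hx => ⟨1, by rw [pow_one, pow_two, h x hx]⟩

/-- `V` is the four-group on `s, t` -/
structure K4 (V : Subgroup G) (s t : G) : Prop where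
  mem : ∀ {x}, x ∈ V ↔ x = 1 ∨ x = s ∨ x = t ∨ x = s * t
  s1 : s ≠ 1
  t1 : t ≠ 1
  ne : s ≠ t
  sq : ∀ x ∈ V, x * x = 1

namespace K4

theorem ms (h : K4 V s t) : s ∈ V := h.mem.mpr (by simp)
theorem mt (h : K4 V s t) : t ∈ V := h.mem.mpr (by simp)
theorem comm (h : K4 V s t) (hx : x ∈ V) (hy : y ∈ V) : Commute x y := sq_comm h.sq hx hy
theorem st1 (h : K4 V s t) : s * t ≠ 1 := fun e =>
  h.ne (mul_right_cancel (e.trans (h.sq t h.mt).symm))

theorem symm (h : K4 V s t) : K4 V t s :=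
  ⟨by intro x; rw [h.mem, (h.comm h.ms h.mt).eq]; tauto, h.t1, h.s1, h.ne.symm, h.sq⟩

theorem shift (h : K4 V s t) : K4 V (s * t) t :=
  ⟨by intro x; rw [h.mem, mul_assoc, h.sq t h.mt, mul_one]; tauto, h.st1, h.t1,
    fun e => h.s1 (mul_eq_right.mp e), h.sq⟩

theorem rebase (h : K4 V s t) (hv : v ∈ V) (v1 : v ≠ 1) : ∃ u, K4 V v u := by
  rcases h.mem.mp hv with rfl | rfl | rfl | rfl
  exacts [(v1 rfl).elim, ⟨_, h⟩, ⟨_, h.symm⟩, ⟨_, h.shift⟩]

theorem cen_of (h : K4 V s t) (h1 : Commute x s) (h2 : Commute x t) : x ∈ cen V := fun y hy => by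
  rcases h.mem.mp hy with rfl | rfl | rfl | rfl
  exacts [by simp, h1.eq.symm, h2.eq.symm, (h1.mul_right h2).eq.symm]

protected theorem cj (h : K4 V s t) (g : G) : K4 (cj g V) (g * s * g⁻¹) (g * t * g⁻¹) := by
  have e : ∀ x y : G, g⁻¹ * x * g = y ↔ x = g * y * g⁻¹ := fun x y =>
    ⟨fun e => by rw [← e]; group, fun e => by rw [e]; group⟩
  refine ⟨?_, by simpa using h.s1, by simpa using h.t1, by simpa using h.ne, ?_⟩
  · intro x
    rw [mem_cj, h.mem, e, e, e, e, conj_mul, mul_one, mul_inv_cancel]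
  · rintro _ ⟨x, hx, rfl⟩
    show g * x * g⁻¹ * (g * x * g⁻¹) = 1
    rw [conj_mul, h.sq x hx, mul_one, mul_inv_cancel]

theorem act (h : K4 V s t) (hx : x ∈ nor V) (c : Commute x s) :
    x ∈ cen V ∨ x * t * x⁻¹ = s * t := by
  rcases h.mem.mp (conj_mem_of_mem_normalizer hx h.mt) with e | e | e | e
  · exact (h.t1 (by simpa using e)).elim
  · exact (h.ne (by simpa using (c.mul_inv_cancel.trans e.symm))).elim
  · exact Or.inl (h.cen_of c (mul_inv_eq_iff_eq_mul.mp e))
  · exact Or.inr e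

theorem fix [Finite G] (h : K4 V s t) (hQ : IsPGroup 2 Q) (hn : Q ≤ nor V) :
    ∃ v ∈ V, v ≠ 1 ∧ ∀ x ∈ Q, Commute x v := by
  have : Fact (Nat.Prime 2) := ⟨Nat.prime_two⟩
  obtain ⟨⟨v, h1, h2⟩, h3⟩ := ne_bot_iff_exists_ne_one.mp (inf_centralizer_ne_bot (two_of_sq h.sq) hQ hn
    fun e => h.s1 (mem_bot.mp (e ▸ h.ms)))
  exact ⟨v, h1, fun e => h3 (Subtype.ext e), h2⟩

theorem idx [Finite G] (h : K4 V s t) (hQ : IsPGroup 2 Q) (hn : Q ≤ nor V) (hx : x ∈ Q)
    (hy : y ∈ Q) : x ∈ cen V ∨ y ∈ cen V ∨ x * y ∈ cen V := by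
  obtain ⟨v, hv, v1, c⟩ := h.fix hQ hn
  obtain ⟨u, k⟩ := h.rebase hv v1
  refine (k.act (hn hx) (c x hx)).imp_right fun e1 => (k.act (hn hy) (c y hy)).imp_right fun e2 =>
    k.cen_of (c _ (mul_mem hx hy)) (mul_inv_eq_iff_eq_mul.mp ?_)
  rw [show x * y * u * (x * y)⁻¹ = x * (y * u * y⁻¹) * x⁻¹ by group, e2, ← conj_mul, e1,
    (c x hx).mul_inv_cancel, ← mul_assoc, k.sq v hv, one_mul]

theorem card_le [Finite G] (h : K4 V s t) : Nat.card V ≤ 4 := by
  classical
  have : (V : Set G) ⊆ ({1, s, t, s * t} : Finset G) := fun x hx => by simpa using h.mem.mp hx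
  exact (Set.ncard_le_ncard this).trans (by rw [Set.ncard_coe_finset]; exact Finset.card_le_four)

end K4

theorem card_le_two_mul {A M : Type*} [Group A] [Finite A] [Group M] (ρ : A →* M)
    (h : ∀ x y, ρ x ≠ 1 → ρ y ≠ 1 → ρ x = ρ y) : Nat.card A ≤ Nat.card ρ.ker * 2 := by
  classical
  rw [← ρ.ker.card_mul_index, index_ker]
  refine Nat.mul_le_mul_left _ ?_
  by_cases h0 : ∃ x, ρ x ≠ 1
  · obtain ⟨x, hx⟩ := h0
    have : (ρ.range : Set M) ⊆ ({1, ρ x} : Finset M) := by
      rintro _ ⟨y, rfl⟩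
      by_cases e : ρ y = 1
      exacts [by simp [e], by simp [h y x e hx]]
    exact (Set.ncard_le_ncard this).trans (by rw [Set.ncard_coe_finset]; exact Finset.card_le_two)
  · rw [(eq_bot_iff_forall ρ.range).mpr (by rintro _ ⟨y, rfl⟩; by_contra e; exact h0 ⟨y, e⟩), card_bot]
    omega

/-- An epimorphism onto a `2`-group whose kernel has odd order splits. -/
theorem exists_section {A B : Type*} [Group A] [Finite A] [Group B] (π : A →* B)
    (hπ : Function.Surjective π) (hB : IsPGroup 2 B) (h : ∀ a, π a = 1 → a * a = 1 → a = 1) :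
    ∃ σ : B →* A, ∀ b, π (σ b) = b := by
  have : Fact (Nat.Prime 2) := ⟨Nat.prime_two⟩
  obtain ⟨T, hT⟩ := exists_isSyl 2 (⊤ : Subgroup A)
  have : Finite B := Finite.of_surjective π hπ
  have h1 := hT.map π
  rw [map_top_of_surjective π hπ] at h1
  have h2 := h1.eq_of_isPGroup (hB.to_subgroup _)
  let E := MulEquiv.ofBijective (π.comp T.subtype) ⟨(injective_iff_map_eq_one _).mpr fun a ha => by
    obtain ⟨n, hn⟩ := hT.isPGroup a
    induction n generalizing a with
    | zero => simpa using hn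
    | succ n ih =>
      refine Subtype.ext (h _ ha ?_)
      have := ih (a ^ 2) (by rw [map_pow, ha, one_pow]) (by rw [← pow_mul, ← pow_succ', hn])
      rw [pow_two] at this
      exact congrArg Subtype.val this, fun b => by
    obtain ⟨a, ha, e⟩ := (h2.symm ▸ mem_top b : b ∈ T.map π)
    exact ⟨⟨a, ha⟩, e⟩⟩
  exact ⟨T.subtype.comp E.symm.toMonoidHom, fun b => E.apply_symm_apply b⟩

end H69.He
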