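import Cfsg.Agent.H69.STGK
import Cfsg.Agent.H80.KFSuzSa

/-! STD-S, slot SuzG: six pairwise good involutions generate `Suz`. -/

set_option autoImplicit false
set_option maxRecDepth 100000

namespace H69.SG.Suz

open H64.SG Subgroup H25.ST H71 H81 H88 H80.KFSuz
open Cfsg.Spor (Suz)

universe u

/-- words in the letters of the model -/
noncomputable abbrev w (l : List ℕ) : Suz := xw H71.Suz.ρ LS l

theorem cj {x y a b : List ℕ} (g : List ℕ)
    (k : band (eqI LS [459,444,417,0] (g ++ x) (a ++ g))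
      (eqI LS [459,444,417,0] (g ++ y) (b ++ g)) = true) : Cj (w x) (w y) (w a) (w b) :=
  cj_of H71.Suz.inj base hLS g k

theorem wm (s t : List ℕ) : w s * w t = w (s ++ t) := (evw_append _ _ _).symm

theorem map_Cz : (Cz (w [29])).map H71.Suz.ρ = gen (vL LS) SKa := by
  obtain ⟨t, h1, h2⟩ := cca.2
  rw [show w [29] = t from H71.Suz.inj (by rw [ρ_xw hLS, h1]; simp), ← h2]

theorem zI : I (w [29]) := by
  refine ⟨⟨?_, xw_ne hLS (t := []) (p := 0) (by decide +kernel)⟩, ?_⟩
  · rw [wm]; exact xw_eq H71.Suz.inj base hLS (t := []) (by decide +kernel)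
  · have h1 : Nat.card (Cz (w [29])) = 3317760 := by
      rw [← cca.1, ← map_Cz, card_map_of_injective H71.Suz.inj]
    have h2 := (Cz (w [29])).card_mul_index
    rw [h1, H71.Suz.card] at h2
    rw [show (Cz (w [29])).index = 135135 by omega]
    decide

theorem iI {a : List ℕ} (g : List ℕ) (k : eqI LS [459,444,417,0] (g ++ [29]) (a ++ g) = true) :
    I (w a) := by
  rw [w, ← xw_cj H71.Suz.inj base hLS k]; exact zI.conj _

theorem ln0 : Ln2 (w [29]) (w [30]) := by
  refine ⟨zI, iI [86, 79] (by decide +kernel), xw_ne hLS (p := 0) (by decide +kernel), ?_⟩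
  have h2 : IsPGroup 2 (gen (vL LS) SQa) := (IsPGroup.of_card cardT).to_le (gen_le fun l hl =>
    knT l (H74.of_memL (of_allM (f := fun l => H74.memL l (slpS PT ST)) (l := SQa)
      (by decide +kernel) l hl)))
  have h3 : Cz (w [29]) = (gen (vL LS) SKa).comap H71.Suz.ρ := by
    rw [← map_Cz, comap_map_eq_self_of_injective H71.Suz.inj]
  refine (isO2_pCoreOf _).2.2.2 ((gen (vL LS) SQa).comap H71.Suz.ρ) ?_ ?_
    (h2.comap_of_injective _ H71.Suz.inj) ?_
  · rw [h3]; exact comap_mono (gen_mono _ (by decide +kernel))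
  · rw [h3]; exact (comap_mono nrma).trans (le_normalizer_comap _)
  · rw [mem_comap, ρ_xw hLS]
    exact evw_mem fun l hl => mem_gen _ (by revert l; decide)

theorem ln {a b : List ℕ} (g : List ℕ)
    (k : band (eqI LS [459,444,417,0] (g ++ [29]) (a ++ g))
      (eqI LS [459,444,417,0] (g ++ [30]) (b ++ g)) = true) : Ln2 (w a) (w b) :=
  ln2_cj ln0 (cj g k)

/-- the generating set -/
def DL : List (List ℕ) := [[29], [79,81,10,36,9,29,9,36,10,81,79], [33,81,12,13,29,13,12,81,33],
  [79,14,35,10,29,10,35,14,79], [86,108,71,10,29,10,71,108,86], [11,29,13,95,29,95,13,29,11]]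

theorem closure_DL : closure (w '' {d | d ∈ DL}) = ⊤ := by
  have key : ∀ (l : ℕ) (v : List ℕ), vL LS (l + 9) = SuzL4.π l → band (inR DL.length v)
      (eqI LS [459,444,417,0] [l + 9] (v.flatMap fun i => DL.getD i [])) = true →
      H71.Suz.val l ∈ closure (w '' {d | d ∈ DL}) := fun l v h k => by
    rw [show H71.Suz.val l = xl H71.Suz.ρ LS (l + 9) from
      H71.Suz.inj (by rw [ρ_xl hLS, h, H71.Suz.hρ])]
    exact mem_closure_of H71.Suz.inj base hLS v k
  rw [eq_top_iff, ← H71.Suz.top]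
  refine gen_le fun l hl => ?_
  simp only [SuzL4.S, List.mem_cons, List.not_mem_nil, or_false] at hl
  rcases hl with rfl | rfl | rfl | rfl | rfl | rfl | rfl
  · exact key 0 [3,4,5,3,0,3,2,1,2,3,0,3,5,4,3] rfl (by decide +kernel)
  · exact key 1 [0,4,0,2,1,5,3,4,5,3,1,0,2,4,0] rfl (by decide +kernel)
  · exact key 2 [5,0,2,3,0,4,0,1,0,1,2,4,5,2,0,3,2,0] rfl (by decide +kernel)
  · exact key 3 [4,5,2,4,5,3,0,4,5,2,1,2,0,3,2,4,0,2] rfl (by decide +kernel)
  · exact key 4 [1,5,4,0,2,4,1,4,3,0,1,5,4,5,1,2,5,2] rfl (by decide +kernel)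
  · exact key 5 [4,1,2,1,4,5,2,3,0,5,4,0,2,0,1,0,4,1] rfl (by decide +kernel)
  · exact key 6 [0,2,1,2,0,5,2,1,3,4,5,4,3,2,0,2,1,2] rfl (by decide +kernel)

variable {G : Type u} [Group G] {e : Suz →* G} {t : G} {h : Suz → G}

theorem pf0 (hF : F0 Suz) (hN : FN Suz) (H : HP Ln2 e t h) : PF h (w [29]) (w [11,29,11]) :=
  pf_hyp hF hN H (c := w [79,29,79]) (c' := w [11,79,29,79,11])
    (xw_ne hLS (p := 459) (by decide +kernel))
    (ln [79,45] (by decide +kernel)) (ln [79,43,44] (by decide +kernel))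
    (by rw [wm]; exact ln [79,40,47] (by decide +kernel))
    (ln [11,79,43,44] (by decide +kernel)) (ln [11,79,45] (by decide +kernel))
    (by rw [wm]; exact ln [11,79,40,47] (by decide +kernel))

theorem gd0 (hF : F0 Suz) (hN : FN Suz) (H : HP Ln2 e t h) : Gd e h (w [29]) (w [71,29,71]) := by
  have p := fun {a b : Suz} => (pf0 hF hN H).cj H.toHC (a := a) (b := b)
  refine lemG H.toHC (r := w [81,11,29,11,81]) (c := w [35,30,11,29,11,30,35]) (v := w [79,29,79])
    (xw_cj H71.Suz.inj base hLS (by decide +kernel)).symm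
    (p (cj [81,11,43,60,45] (by decide +kernel))) (p (cj [81,11] (by decide +kernel)))
    (p (cj [71,42,45] (by decide +kernel))) ?_ ?_ (p (cj [79,42,45] (by decide +kernel)))
  · rw [wm, wm]; exact p (cj [36,81,11,41,43] (by decide +kernel))
  · rw [wm, wm]; exact p (cj [108,34,33,71,42,45] (by decide +kernel))

/-- conjugating words -/
def CL : List (List (List ℕ)) :=
  [[[], [56,49,45], [46,57], [45,57], [42,53,46], [39,58,45]],
   [[], [], [79,81,10,36,9,35,33], [79,81,10,36,9,31,47], [79,81,10,36,9,49,40,45],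
     [79,81,10,36,9,37,31,42]],
   [[], [], [], [33,81,12,13,53,42,32], [33,81,12,13,46,46], [33,81,12,13,30,46]],
   [[], [], [], [], [79,14,35,10,51,32,45], [79,14,35,10,50,53,44]],
   [[], [], [], [], [], [86,108,71,10,58,44,45]]]

theorem iD : ∀ d ∈ DL, I (w d) := by
  intro d hd
  simp only [DL, List.mem_cons, List.not_mem_nil, or_false] at hd
  rcases hd with rfl | rfl | rfl | rfl | rfl | rfl
  exacts [zI, iI [79,81,10,36,9] (by decide +kernel), iI [33,81,12,13] (by decide +kernel),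
    iI [79,14,35,10] (by decide +kernel), iI [86,108,71,10] (by decide +kernel),
    iI [11,29,13,95] (by decide +kernel)]

theorem chk : ∀ i < 6, ∀ j < 6, i < j →
    band (eqI LS [459,444,417,0] ((CL.getD i []).getD j [] ++ [29])
        (DL.getD i [] ++ (CL.getD i []).getD j []))
      (eqI LS [459,444,417,0] ((CL.getD i []).getD j [] ++ [71,29,71])
        (DL.getD j [] ++ (CL.getD i []).getD j [])) = true := by decide +kernel

theorem ga2 (hF : F0 Suz) (hN : FN Suz) : GA2.{u} Suz := fun G _ _ e t _ h _ _ H => by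
  have sI : I (w [71,29,71]) := iI [71] (by decide +kernel)
  have k : ∀ i < 6, ∀ j < 6, i < j → Gd e h (w (DL.getD i [])) (w (DL.getD j [])) :=
    fun i hi j hj hij => gd_cj H.toHC zI sI (gd0 hF hN H) (cj _ (chk i hi j hj hij))
  refine ⟨_, ?_, closure_DL, ?_⟩
  · rintro _ ⟨d, hd, rfl⟩; exact iD d hd
  · rintro _ ⟨a, ha, rfl⟩ _ ⟨b, hb, rfl⟩
    have ia := iD a ha
    have ib := iD b hb
    obtain ⟨i, hi, rfl⟩ := List.getElem_of_mem ha
    obtain ⟨j, hj, rfl⟩ := List.getElem_of_mem hb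
    rw [← List.getD_eq_getElem _ [] hi] at ia ⊢
    rw [← List.getD_eq_getElem _ [] hj] at ib ⊢
    rcases lt_trichotomy i j with c | rfl | c
    exacts [k i hi j hj c, H.toHC.gd_self ia, H.toHC.gd_symm ib ia (k j hj i hi c)]

end H69.SG.Suz
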