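import Cfsg.Agent.H28.TESpec

/-! Tower NF (S1308), chapter TE part 1: job `SW` (the swap of a line). -/

set_option autoImplicit false

open Cfsg Subgroup H14 H98 H1.Gold H31.S2 H14.GC H14.FE H14.NF H28.TE
open scoped commutatorElement

namespace H69.TESW

universe u

theorem dih {X : Type*} [Group X] {y v : X} {k : ℕ} (hy : y * y = 1) (hv : v * v = 1)
    (h : (y * v) ^ (2 * k + 1) = 1) :
    (y * v) ^ (2 * k ^ 3) * y * ((y * v) ^ (2 * k ^ 3))⁻¹ * y *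
      ((y * v) ^ (2 * k ^ 3) * y * ((y * v) ^ (2 * k ^ 3))⁻¹)⁻¹ * v⁻¹ = 1 := by
  have h1 : y * (y * v) * y⁻¹ = (y * v)⁻¹ := by
    rw [← mul_assoc, hy, one_mul, mul_inv_rev, inv_eq_of_mul_eq_one_right hv]
  have h2 : ∀ n : ℕ, (y * v) ^ n * y * ((y * v) ^ n)⁻¹ = (y * v) ^ (n + n) * y := fun n => by
    have : y * ((y * v) ^ n)⁻¹ * y⁻¹ = (y * v) ^ n := by
      rw [← conj_inv, ← conj_pow, h1, inv_pow, inv_inv]
    rw [pow_add, mul_assoc, mul_assoc, ← mul_inv_eq_iff_eq_mul.1 this]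
  have h3 : (y * v) ^ (2 * k ^ 3 + 2 * k ^ 3 + (2 * k ^ 3 + 2 * k ^ 3) + 1) = 1 := by
    obtain ⟨c, hc⟩ := Odd.nat_add_dvd_pow_add_pow (2 * k) 1 (n := 3) (by decide)
    rw [show 2 * k ^ 3 + 2 * k ^ 3 + (2 * k ^ 3 + 2 * k ^ 3) + 1 = (2 * k) ^ 3 + 1 ^ 3 by ring, hc,
      pow_mul, h, one_pow]
  rw [h2, mul_inv_rev, ← mul_assoc, mul_inv_cancel_right, h2, inv_eq_of_mul_eq_one_right hv,
    mul_assoc, ← pow_succ, h3]

theorem jobSW : H28.TE.JobSW.{u} := by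
  intro kt od G _ _ Q Q₁ E Q₂ T h y v hy hv
  have k1 := kt G Q Q₁ E Q₂ T h
  have k2 := kt G Q Q₂ T Q₁ E h.symm
  obtain ⟨m, ⟨k, rfl⟩, hm⟩ := od G Q Q₁ E Q₂ T h y v hy hv
  have yN : y ∈ nor (E ⊔ T) := k1.nrF y hy
  have vN : v ∈ nor (E ⊔ T) := sup_comm T E ▸ k2.nrF v hv
  have FC : E ⊔ T ≤ cen (E ⊔ T) := fun a ha b hb => k1.abF b hb a ha
  have NC : nor (E ⊔ T) ≤ nor (cen (E ⊔ T)) := normalizer_le_normalizer_centralizer _
  have : ((cen (E ⊔ T)).subgroupOf (nor (E ⊔ T))).Normal := ⟨fun c hc g =>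
    (conj_mem_of_mem_normalizer (NC g.2) hc : (g : G) * c * (g : G)⁻¹ ∈ cen (E ⊔ T))⟩
  have yy : y * y ∈ cen (E ⊔ T) := FC (mem_sup_left hy.sq)
  have vv : v * v ∈ cen (E ⊔ T) := FC (mem_sup_right hv.sq)
  let π := QuotientGroup.mk' ((cen (E ⊔ T)).subgroupOf (nor (E ⊔ T)))
  have one : ∀ x : nor (E ⊔ T), π x = 1 ↔ (x : G) ∈ cen (E ⊔ T) := fun x =>
    QuotientGroup.eq_one_iff x
  have d := dih (y := π ⟨y, yN⟩) (v := π ⟨v, vN⟩) (k := k) (by rw [← map_mul]; exact (one _).2 yy)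
    (by rw [← map_mul]; exact (one _).2 vv) (by rw [← map_mul, ← map_pow]; exact (one _).2 hm)
  simp only [← map_mul, ← map_pow, ← map_inv] at d
  have gN : (y * v) ^ (2 * k ^ 3) ∈ nor (E ⊔ T) := pow_mem (mul_mem yN vN) _
  have yu := (one _).1 d
  simp only [Subgroup.coe_mul, Subgroup.coe_inv, Subgroup.coe_pow] at yu
  generalize (y * v) ^ (2 * k ^ 3) = g at gN yu
  have wN : g * y * g⁻¹ ∈ nor (E ⊔ T) := mul_mem (mul_mem gN yN) (inv_mem gN)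
  have sq : g * y * g⁻¹ * (g * y * g⁻¹) ∈ cen (E ⊔ T) := by
    rw [conj_mul]; exact conj_mem_of_mem_normalizer (NC gN) yy
  have home : ∃ Q₃, Vx Q Q₃ ∧ g * y * g⁻¹ ∈ Q₃ ∧ ∀ f ∈ E ⊔ T, ⁅f, g * y * g⁻¹⁆ ∈ Q₃ := by
    obtain ⟨a, ha⟩ := h.v1
    refine ⟨cj g Q₁, ⟨g * a, by rw [ha, cj_cj]⟩, conj_mem_cj hy.mem, fun f hf => mem_cj.2 ?_⟩
    obtain ⟨e, he, t, ht, e1⟩ := k1.dec _ (conj_mem_of_mem_normalizer' gN hf)
    have EQ : E ≤ Q₁ := h.sE.le.trans inf_le_left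
    have e2 : g⁻¹ * ⁅f, g * y * g⁻¹⁆ * g = e * ⁅t, y⁆ * (y * e⁻¹ * y⁻¹) := by
      rw [show f = g * (e * t) * g⁻¹ by rw [← e1]; group]
      simp only [commutatorElement_def]
      group
    rw [e2]
    exact mul_mem (mul_mem (EQ he) (EQ (hy.cm t ht)))
      (mul_mem (mul_mem hy.mem (inv_mem (EQ he))) (inv_mem hy.mem))
  generalize g * y * g⁻¹ = w at wN yu sq home
  have et : ∀ e ∈ E, w * e * w⁻¹ ∈ T := fun e he => by
    have hf := conj_mem_of_mem_normalizer wN (mem_sup_left he)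
    refine k2.fix v hv _ (sup_comm E T ▸ hf) ?_
    have c1 : Commute (w * e * w⁻¹) (w * y * w⁻¹ * v⁻¹) := yu _ hf
    have c2 : Commute (w * e * w⁻¹) (w * y * w⁻¹) := by
      rw [Commute, SemiconjBy, conj_mul, conj_mul, hy.ce e he]
    have c3 := c1.inv_right.mul_right c2
    rw [mul_inv_rev, inv_inv, inv_mul_cancel_right] at c3
    exact c3.symm
  have cE : cj w E = T := eq_of_le_of_card_ge (by rintro _ ⟨e, he, rfl⟩; exact et e he)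
    (by rw [card_cj, h.card])
  refine ⟨w, wN, et, fun t ht => ?_, cE, yu, sq, home⟩
  obtain ⟨e, he, rfl⟩ : t ∈ cj w E := cE ▸ ht
  have e1 : e * (w * w) = w * w * e := sq e (mem_sup_left he)
  have e2 : w * (w * e * w⁻¹) * w⁻¹ = e := by
    rw [show w * (w * e * w⁻¹) * w⁻¹ = w * w * e * (w * w)⁻¹ by group, ← e1, mul_inv_cancel_right]
  exact e2.symm ▸ he

end H69.TESW
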