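import Cfsg.Agent.H69.StdRu2
import Cfsg.Agent.H79.OutRu
import Cfsg.Agent.H95.L34Mult
import Cfsg.Agent.S2051

/-! Tower STD: a standard double cover of the Rudvalis group is normal. -/

set_option autoImplicit false

namespace H69.Std

open Cfsg Subgroup H14 H98 H1.Gold

/-- The double cover is unique when the multiplier has order two. -/
theorem EZ.exists_equiv {G : Type*} [Group G] [Finite G] {L : Subgroup G} {t : G} (e : EZ L t)
    {X Y : Type*} [Group X] [Group Y] [Finite Y] (E : L ⧸ center L ≃* X) (hc : center X = ⊥)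
    (hX : HasCyclicSchurMultiplier X 2) {σ : Y →* X} (hσ : Function.Surjective σ) {T : Y}
    (hT : orderOf T = 2) (hz : T ∈ center Y) (hk : ∀ z, σ z = 1 ↔ z = 1 ∨ z = T)
    (hY : commutator Y = ⊤) : ∃ ψ : L ≃* Y, ψ ⟨t, e.mem⟩ = T := by
  have two : ∀ {A : Type _} [Group A] {K : Subgroup A} {a : A}, orderOf a = 2 →
      (∀ z, z ∈ K ↔ z = 1 ∨ z = a) → Nat.card K = 2 ∧ ∀ z ∈ K, z * z = 1 := fun {A _ K a} h1 h2 =>
    ⟨by rw [show K = zpowers a from ext fun z => (h2 z).trans (mem_zpowers_two h1).symm,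
      Nat.card_zpowers, h1], fun z hz => by
      rcases (h2 z).mp hz with rfl | rfl
      exacts [one_mul 1, mul_self_of_two h1]⟩
  have two' : ∀ {K : Subgroup Y}, (∀ z, z ∈ K ↔ z = 1 ∨ z = T) →
      Nat.card K = 2 ∧ ∀ z ∈ K, z * z = 1 := fun {K} h2 =>
    ⟨by rw [show K = zpowers T from ext fun z => (h2 z).trans (mem_zpowers_two hT).symm,
      Nat.card_zpowers, hT], fun z hz => by
      rcases (h2 z).mp hz with rfl | rfl
      exacts [one_mul 1, mul_self_of_two hT]⟩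
  let τ : L →* X := E.toMonoidHom.comp (QuotientGroup.mk' _)
  have kτ : ∀ z, z ∈ τ.ker ↔ z ∈ center L := fun z => by
    show E _ = 1 ↔ _
    rw [EmbeddingLike.map_eq_one_iff, QuotientGroup.mk'_apply, QuotientGroup.eq_one_iff]
  have ct : (⟨t, e.mem⟩ : L) ∈ center L := mem_center_iff.mpr fun y => Subtype.ext (e.commL y.2)
  have ot : orderOf (⟨t, e.mem⟩ : L) = 2 := (orderOf_coe _).symm.trans e.ord
  have k1 := two (K := τ.ker) ot fun z => (kτ z).trans ⟨fun h => ((e.zc z z.2).mp fun y hy =>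
    congrArg Subtype.val (mem_center_iff.mp h ⟨y, hy⟩)).imp Subtype.ext Subtype.ext, by
      rintro (rfl | rfl)
      exacts [one_mem _, ct]⟩
  have k2 := two' (K := σ.ker) hk
  obtain ⟨ψ⟩ := H95.equiv_of_card_ker_le (σ₁ := τ)
    (E.surjective.comp (QuotientGroup.mk'_surjective _)) hσ (fun z hz => (kτ z).mp hz)
    (fun z hz => by
      rcases (hk z).mp hz with rfl | rfl
      exacts [one_mem _, hz]) e.std.1.1.commutator_eq_top hY k1.2 k2.2 k1.1 k2.1 fun Q ρ hρ _ => by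
      obtain ⟨θ, hθ⟩ := H21.multiplier_surj_stem hX ρ hρ
      exact (Nat.card_le_card_of_surjective θ hθ).trans_eq (by simp)
  refine ⟨ψ, ((hk _).mp (mem_bot.mp (hc ▸ mem_center_iff.mpr fun x => ?_))).resolve_left fun h =>
    e.ne_one (congrArg Subtype.val (ψ.map_eq_one_iff.mp h))⟩
  obtain ⟨y, rfl⟩ := hσ x
  obtain ⟨y, rfl⟩ := ψ.surjective y
  rw [← map_mul, ← map_mul, ← map_mul, ← map_mul, mem_center_iff.mp ct y]

theorem center_eq_bot_of_perfect {X : Type*} [Group X] [IsSimpleGroup X] (h : commutator X = ⊤) :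
    center X = ⊥ := (inferInstance : (center X).Normal).eq_bot_or_eq_top.resolve_right fun k =>
  bot_ne_top (((commutator_eq_bot_iff_center_eq_top _).mpr k).symm.trans h)

end H69.Std

namespace H69.Ru

open Cfsg Cfsg.Spor Subgroup H49 H69.Std
open H79.Ru (io exists_comm center_eq zI_cases io_not_mem io_mem zI_le orderOf_io sq_mem io_four)
open scoped commutatorElement

/-- the projection -/
noncomputable def σ0 : L0 →* Spor.Ru := (QuotientGroup.mk' _).comp L0.subtype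

theorem σ0_surj : Function.Surjective σ0 := fun g => by
  obtain ⟨g, rfl⟩ := QuotientGroup.mk_surjective g
  obtain ⟨d, hd, e⟩ := exists_comm g
  exact ⟨⟨d, hd⟩, QuotientGroup.eq.2 e⟩

theorem σ0_ker (z : L0) : σ0 z = 1 ↔ z = 1 ∨ z = T0 := by
  refine (QuotientGroup.eq_one_iff _).trans ⟨fun h => ?_, ?_⟩
  · obtain ⟨u, hu, e⟩ := zI_cases (center_eq ▸ h)
    have e : (z : fourRu) = io ^ u := e
    have m := z.2
    rw [e] at m
    interval_cases u
    · exact Or.inl (Subtype.ext e)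
    · exact absurd (by simpa using m) io_not_mem
    · exact Or.inr (Subtype.ext e)
    · rw [pow_succ] at m
      exact absurd ((Subgroup.mul_mem_cancel_left _ sq_mem).mp m) io_not_mem
  · rintro (rfl | rfl)
    exacts [one_mem _, zI_le (pow_mem io_mem 2)]

theorem ord_T0 : orderOf T0 = 2 := by
  rw [← orderOf_coe]
  show orderOf (io ^ 2) = 2
  rw [orderOf_pow' _ (by norm_num), orderOf_io]; rfl

theorem T0_comm (g : L0) : g * T0 = T0 * g :=
  Subtype.ext (mem_center_iff.mp (zI_le (pow_mem io_mem 2)) g)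

theorem perfect_L0 : commutator L0 = ⊤ := by
  refine map_injective L0.subtype_injective ?_
  rw [map_subtype_commutator, ← MonoidHom.range_eq_map, range_subtype]
  refine le_antisymm (commutator_mono le_top le_top) (commutator_le.mpr fun g _ h _ => ?_)
  have k : ∀ g, ∃ d ∈ L0, ∀ x, g * x * g⁻¹ = d * x * d⁻¹ := fun g => by
    obtain ⟨d, hd, e⟩ := exists_comm g
    refine ⟨d, hd, fun x => ?_⟩
    rw [← mul_inv_cancel_left d g, mul_assoc d, ← mem_center_iff.mp e x]; group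
  obtain ⟨d, hd, e⟩ := k g
  obtain ⟨c, hc, f⟩ := k h
  rw [commutatorElement_def, e, mul_assoc d, mul_assoc d, f, ← mul_assoc, ← mul_assoc]
  exact commutator_mem_commutator hd hc

theorem card_L0 : Nat.card (⊤ : Subgroup L0) = 2 ^ 15 * 8906625 := by
  have h := σ0.ker.card_mul_index
  rw [index_ker, MonoidHom.range_eq_top.mpr σ0_surj, card_top, H79.Ru.card,
    show σ0.ker = zpowers T0 from ext fun z => (σ0_ker z).trans (H14.mem_zpowers_two ord_T0).symm,
    Nat.card_zpowers, ord_T0] at h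
  rw [card_top, ← h]; norm_num

theorem exists_cj {x : L0} (h : x ^ 2 ^ 3 = 1) :
    ∃ g y, chk y = true ∧ x = g * jj y * g⁻¹ := by
  obtain ⟨g, -, y, hy, e⟩ := exists_conj_mem' (S := (closure {x | x ∈ sg}).map jj) (p := 2) le_top
    (a := 15) ((card_map_of_injective jj_inj).trans sy_card) card_L0 (by norm_num) h trivial
  exact ⟨g⁻¹, y, chk_all hy, by rw [e]; group⟩

theorem of_chk {x : UG CH} (h : chk x = true) : x ^ 4 ≠ xT ∧ (x ^ 4 = 1 → x * x = xT ∨
    (x * x ≠ 1 ∧ ∃ b, Commute b (x * x) ∧ b * x * b⁻¹ * x⁻¹ * (b * x * b⁻¹ * x⁻¹) = 1 ∧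
      b * x * b⁻¹ * x⁻¹ ≠ 1 ∧ b * x * b⁻¹ * x⁻¹ ≠ x * x ∧ b * x * b⁻¹ * x⁻¹ ≠ xT * (x * x)) ∨
    (x * x = 1 ∧ (x = 1 ∨ x = xT ∨ P4 x))) := by
  have q : x ^ 4 = x * (x * (x * x)) := by simp only [pow_succ, pow_zero, one_mul, mul_assoc]
  unfold chk at h
  simp only [andB_iff, orB_iff, notB_iff, base.eqW_iff, List.prod_cons, List.prod_nil,
    mul_one] at h
  rw [q]
  refine ⟨h.1, fun h4 => (h.2.resolve_left (not_not.mpr h4)).imp_right (Or.imp (And.imp_right
    fun k => ?_) (And.imp_right (Or.imp_right (Or.imp_right P4.of_key))))⟩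
  obtain ⟨b, -, k⟩ := exists_of_anyB k
  unfold good at k
  simp only [andB_iff, notB_iff, base.eqW_iff, List.prod_cons, List.prod_nil, mul_one] at k
  refine ⟨b, k.2.2.2.1.trans (mul_assoc _ _ _).symm, ?_⟩
  rw [inv_eq_of_mul_eq_one_right h4, inv_eq_of_mul_eq_one_right k.2.2.2.2.2]
  simp only [mul_assoc]
  exact ⟨k.2.2.2.2.1, k.1, k.2.1, k.2.2.1⟩

theorem conj_T0 (g : L0) : g * T0 * g⁻¹ = T0 := by rw [T0_comm, mul_inv_cancel_right]

theorem pw_T0 : PW T0 := by
  refine ⟨fun s hs => ?_, fun x hx => ?_⟩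
  · obtain ⟨g, y, h, rfl⟩ := exists_cj (x := s) (by
      rw [show 2 ^ 3 = 2 * 4 from rfl, pow_mul, pow_two, hs, one_pow])
    rw [conj_mul, conj_eq_one_iff, ← map_mul, ← jj.map_one, jj_inj.eq_iff] at hs
    rcases (of_chk h).2 (by rw [show 4 = 2 * 2 from rfl, pow_mul, pow_two y, hs, one_pow])
      with e | e | ⟨-, e | e | ⟨z, e⟩⟩
    · have := ord_T0
      rw [← jj_xT, ← e, hs, map_one, orderOf_one] at this
      exact absurd this (by norm_num)
    · exact absurd hs e.1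
    · left; rw [e, map_one, mul_one, mul_inv_cancel]
    · right; left; rw [e, jj_xT, conj_T0]
    · exact Or.inr (Or.inr ⟨g * z * g⁻¹, by rw [conj_pow, e]⟩)
  · obtain ⟨g, y, h, rfl⟩ := exists_cj (x := x) (by
      rw [show 2 ^ 3 = 4 * 2 from rfl, pow_mul, hx, ← ord_T0, pow_orderOf_eq_one])
    rw [conj_pow, ← conj_T0 g, mul_left_inj, mul_right_inj, ← map_pow, ← jj_xT] at hx
    exact (of_chk h).1 (jj_inj hx)

theorem noZ4_T0 : NoZ4 T0 := fun l hl => by
  obtain ⟨g, y, h, rfl⟩ := exists_cj (x := l) (by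
    rw [show 2 ^ 3 = 4 * 2 from rfl, pow_mul, hl, one_pow])
  rw [conj_pow, conj_eq_one_iff, ← map_pow, ← jj.map_one, jj_inj.eq_iff] at hl
  rw [conj_mul, ← map_mul]
  rcases (of_chk h).2 hl with e | ⟨-, b, e⟩ | ⟨e, -⟩
  · right; left; rw [e, jj_xT, conj_T0]
  · refine Or.inr (Or.inr ⟨g * jj b * g⁻¹, ?_⟩)
    rw [← conj_T0 g, ← jj_xT]
    simp only [conj_inv, conj_mul, ← map_mul, ← map_inv, Commute, SemiconjBy, ne_eq,
      conj_eq_one_iff, mul_left_inj, mul_right_inj, jj_inj.eq_iff, map_eq_one_iff jj jj_inj]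
    exact e
  · left; rw [e, map_one, mul_one, mul_inv_cancel]

theorem s3149 {G : Type*} [Group G] [Finite G] (hO : oddCore G = ⊥) (A : Subgroup G)
    (hA : IsStandardSubgroup A) (hZ : Nat.card (center A) = 2) (hAX : IsoRu (A ⧸ center A))
    (hR : ∀ R : Sylow 2 (centralizer (A : Set G)), IsCyclic (R : Subgroup (centralizer (A : Set G)))) :
    A.Normal := by
  obtain ⟨t, e⟩ := exists_ez hA hZ
  obtain ⟨E⟩ := hAX
  have := H79.Ru.simple
  have hc := center_eq_bot_of_perfect H79.Ru.perfect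
  obtain ⟨ψ, hψ⟩ := e.exists_equiv E hc Cfsg.Agent.S2051.result σ0_surj ord_T0
    (mem_center_iff.mpr T0_comm) σ0_ker perfect_L0
  refine e.normal_of_pw hO (e.uniq_of_cyclic hR) (fun x => e.inner_of_out E (fun φ => ?_) hc)
    (NoZ4.of_equiv ψ (hψ ▸ noZ4_T0)) (PW.of_equiv ψ (hψ ▸ pw_T0))
  obtain ⟨b, hb⟩ : φ ∈ Inn Spor.Ru := (index_eq_one.1 H79.OutRu.out).symm ▸ mem_top φ
  exact ⟨b, hb.symm⟩

end H69.Ru
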