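import Cfsg.Agent.H73.GSSpec
import Cfsg.Agent.H98.Coprime

/-! # S3275, chapter C4, part II (`GS`): job `S3a`. -/

set_option autoImplicit false

namespace H69.GSS3a

open Subgroup Cfsg H98 H48.DP H57.DPC H48.DP2 H98.DP0C H73.GS
open scoped commutatorElement

universe u

theorem exists_three {X : Type u} [Group X] [Finite X] {A : Subgroup X} (hA : IsPGroup 3 A)
    (h : A ≠ ⊥) : ∃ c ∈ A, orderOf c = 3 := by
  have f3 : Fact (Nat.Prime 3) := ⟨Nat.prime_three⟩
  have hd : 3 ∣ Nat.card A := hA.card_eq_or_dvd.resolve_left (by rwa [card_eq_one])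
  obtain ⟨c, hc⟩ := exists_prime_orderOf_dvd_card' 3 hd
  exact ⟨c, c.2, by rw [Subgroup.orderOf_coe, hc]⟩

theorem commutator_le_of_norm' {X : Type u} [Group X] {E B N : Subgroup X} (h : B ≤ N)
    (hE : E ≤ No N) : ⁅E, B⁆ ≤ N :=
  (commutator_mono le_rfl h).trans (commutator_le_right' hE)

theorem job : H73.GS.S3a.{u} := by
  intro X _ _ N Y x h hY hxY hN
  have f2 : Fact (Nat.Prime 2) := ⟨Nat.prime_two⟩
  have f3 : Fact (Nat.Prime 3) := ⟨Nat.prime_three⟩
  set R : Subgroup X := pCoreOf 3 ⊤ with hR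
  set I : Subgroup X := ⁅Y, zpowers x⁆ with hI
  have R3 : IsPGroup 3 R := isPGroup_pCoreOf _
  have Rn : ∀ A : Subgroup X, A ≤ No R := fun A => le_normalizer_pCoreOf_of_le le_top
  have x3 : IsPGroup 3 (zpowers x) :=
    isPGroup_zpowers (k := 1) (by rw [pow_one, ← h.x3]; exact pow_orderOf_eq_one x)
  have IY : I ≤ Y := commutator_le_left' (zpowers_le.2 hxY)
  have I2 : IsPGroup 2 I := hY.to_le IY
  have xR : x ∉ R := fun hx => hN <| by
    have h1 : I ≤ R := commutator_le_of_norm' (zpowers_le.2 hx) (Rn Y)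
    have h2 : I ≤ Y ⊓ R := le_inf IY h1
    rw [(IsPGroup.disjoint_of_ne 2 3 (by norm_num) Y R hY R3).eq_bot] at h2
    exact h2.trans bot_le
  have e1 : ⁅⁅R, I⁆, I⁆ = ⁅R, I⁆ :=
    commutator_commutator_eq I2 (not_dvd_card_of_isPGroup_ne Nat.prime_two (by norm_num) R3) (Rn I)
  by_contra hc
  have h1 : ⁅R, I⁆ ≠ ⊥ := fun e => hc (by
    rw [commutator_comm] at e
    exact commutator_eq_bot_iff_le_centralizer.1 e)
  have R1R : ⁅R, I⁆ ≤ R := commutator_le_left' (Rn I)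
  have R13 : IsPGroup 3 ↥⁅R, I⁆ := R3.to_le R1R
  have xn : zpowers x ≤ No ⁅R, I⁆ :=
    le_normalizer_commutator (Rn _) (normalizer_commutator_ge_right Y (zpowers x))
  have Yn : Y ≤ No ⁅R, I⁆ :=
    le_normalizer_commutator (Rn _) (normalizer_commutator_ge_left Y (zpowers x))
  have D3 : IsPGroup 3 ↥(⁅R, I⁆ ⊔ zpowers x) := R13.to_sup_of_normal_left' x3 xn
  obtain ⟨c, ⟨hcR, hcD⟩, c3⟩ := exists_three (R13.to_le inf_le_left)
    (inf_centralizer_ne_bot R13 D3 (sup_le le_normalizer xn) h1)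
  have xD : x ∈ ⁅R, I⁆ ⊔ zpowers x := mem_sup_right (mem_zpowers x)
  have cx : c ∉ zpowers x := fun hx => xR <| by
    have e : zpowers c = zpowers x := eq_of_le_of_card_ge (zpowers_le.2 hx)
      (by rw [Nat.card_zpowers, Nat.card_zpowers, c3, h.x3])
    exact (zpowers_le.2 (R1R hcR) : zpowers c ≤ R) (e ▸ mem_zpowers x)
  rcases h.alt c c3 (hcD x xD).symm cx with ⟨g1, g2⟩ | ⟨-, b⟩
  · have RN : R ≤ N := le_sup_left.trans
      (g1 (R ⊔ zpowers x) (R3.to_sup_of_normal_left' x3 (Rn _)) (mem_sup_right (mem_zpowers x)))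
    exact hN fun i _ => g2 i (RN ((mem_normalizer_iff.1 (Rn ⊤ (mem_top i)) c).1 (R1R hcR)))
  · have h2 : ⁅R, I⁆ ≤ C1 x := le_sup_left.trans
      (b _ D3 xD fun d hd => mem_centralizer_singleton_iff.2 (hcD d hd))
    have h3 : zpowers x ≤ Ce ⁅R, I⁆ := zpowers_le.2 fun d hd =>
      mem_centralizer_singleton_iff.1 (h2 hd)
    have h4 : I ≤ Ce ⁅R, I⁆ := commutator_le_of_norm' h3 (le_normalizer_centralizer Yn)
    refine h1 (e1 ▸ ?_)
    rw [commutator_comm]
    exact commutator_eq_bot_iff_le_centralizer.2 h4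

end H69.GSS3a
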