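import Cfsg.Agent.H92.DP0BSpec
import Cfsg.Agent.H2.PrimeCore

/-! # S3275, chapter U0, section B: job `L2` (2-local subgroups over a `3³` of `M`). -/

set_option autoImplicit false

namespace H69.DPBL2

open Subgroup Cfsg H98 H48.DP H57.DPC H48.DP2 H92.DPB

universe u

theorem jobL2 : H92.DPB.JobL2.{u} := by
  intro g0 na u1 is G _ _ M Q X B h hX hX1 hB hBX
  have f2 : Fact (Nat.Prime 2) := ⟨Nat.prime_two⟩
  have f3 : Fact (Nat.Prime 3) := ⟨Nat.prime_three⟩
  induction' hn : X.index using Nat.strong_induction_on with n ih generalizing X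
  by_contra hM
  have hH : No X ≠ ⊤ := no_ne_top h.toHyp2.toHyp hX hX1
  have hXO : X ≤ O2 (No X) := le_pCoreOf hX le_normalizer le_rfl
  have hO : O2 (No X) = X := by
    by_contra hne
    have hlt : X < O2 (No X) := lt_of_le_of_ne hXO (Ne.symm hne)
    have hle : No X ≤ No (O2 (No X)) := self_le_normalizer_pCoreOf _
    refine hM (hle.trans (ih _ (hn ▸ index_strictAnti hlt) (O2 (No X)) (isPGroup_pCoreOf _)
      (fun e => hX1 (le_bot_iff.1 (e ▸ hXO))) (hBX.trans (inf_le_inf_right M hle)) rfl))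
  obtain ⟨hOM, h1 | h1 | ⟨D, x, hD⟩⟩ := g0 G M Q (No X) B h hH hB hBX
  · exact hM h1
  · exact na G M Q (No X) B h hH hB hBX h1
  have hXM : X ≤ M := by
    refine le_trans ?_ hOM
    rw [← hO]
    nth_rewrite 2 [hO]
    exact map_mono (H2.pCore_le_pPrimeCore_of_ne (by norm_num))
  have hXQ : X ≤ Q := (is G M Q (No X) D x h hD).2 X hXM hX (hD.le.trans inf_le_left)
  have hQ : Q ⊓ No X ≤ X := by
    have := u1 G M Q (No X) B h hH (hBX.trans inf_le_left) ⟨B, hBX.trans inf_le_right, hB, le_rfl⟩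
      (le_trans (by norm_num) hB.2)
    rwa [hO] at this
  have hQ2 : IsPGroup 2 Q := h.o2 ▸ isPGroup_pCoreOf M
  have e : X = Q := by
    by_contra hne
    exact (lt_inf_normalizer hQ2 (lt_of_le_of_ne hXQ hne)).not_ge hQ
  exact hM (by rw [e, h.no])

end H69.DPBL2
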