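/- Tower KU, job `BC2`: homologies at every isotropic point give a polarity of a totally isotropic
plane without absolute points. -/
import Cfsg.Agent.H53.KUSpec

set_option autoImplicit false

namespace H69.KUBC2

open Cfsg H59 H53.WU H53.KU Module

theorem exists_c (F : Type) [Field F] [Fintype F] (q : ℕ) (hF : Fintype.card F = q ^ 2) (hq : 3 ≤ q) :
    ∃ c : Fˣ, c ^ (q - 1) = 1 ∧ c ≠ 1 := by
  obtain ⟨g, hg⟩ := IsCyclic.exists_ofOrder_eq_natCard (α := Fˣ)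
  rw [Nat.card_units, Nat.card_eq_fintype_card, hF] at hg
  obtain ⟨r, rfl⟩ := Nat.exists_eq_add_of_le hq
  have e : (3 + r) ^ 2 - 1 = (3 + r + 1) * (3 + r - 1) := by
    rw [show 3 + r - 1 = 2 + r by omega]
    exact Nat.sub_eq_of_eq_add (by ring)
  refine ⟨g ^ (3 + r + 1), by rw [← pow_mul, ← e, ← hg, pow_orderOf_eq_one], fun h => ?_⟩
  have := Nat.le_of_dvd (by omega) (orderOf_dvd_of_pow_eq_one h)
  rw [hg, e, show 3 + r - 1 = 2 + r by omega] at this
  nlinarith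

/-- Weak homology data. -/
def Wk (S : KS) (c : S.Fˣ) (x : S.V) (h : S.G) : Prop :=
  h ∈ S.K ∧ h.1 x = (c : S.F) • x ∧ ∀ v, S.B x v = 0 → ∃ s : S.F, h.1 v = v + s • x

theorem Wk.uniq {S : KS} (hB : S.RB) {c : S.Fˣ} {x : S.V} (hx : S.Iso x) {h h' : S.G}
    (a : Wk S c x h) (b : Wk S c x h') (v : S.V) (hv : S.B x v = 0) : h'.1 v = h.1 v := by
  have key : ∀ w w' : S.V, h'.1 w = h.1 w' → (h⁻¹ * h').1 w = w' := fun w w' e =>
    h.1.symm_apply_eq.2 e
  have := hB x hx (h⁻¹ * h') (S.K.mul_mem (S.K.inv_mem a.1) b.1)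
    ⟨(h⁻¹ * h').2.1, key _ _ (b.2.1.trans a.2.1.symm), fun w hw => by
      obtain ⟨s, hs⟩ := a.2.2 w hw
      obtain ⟨s', hs'⟩ := b.2.2 w hw
      refine ⟨(s' - s) * (c⁻¹ : S.Fˣ), key _ _ ?_⟩
      rw [map_add, map_smul, hs, hs', a.2.1, smul_smul, mul_assoc, Units.inv_mul]
      module⟩ v hv
  exact (h.1.symm_apply_eq.1 this)

theorem jobBC2 (hBa : JobBa) (hCh : JobCh) : JobBC2 := by
  intro S hR hB
  obtain ⟨c, hc, hc1⟩ := exists_c S.F S.q S.hF S.hq
  have hc1' : (c : S.F) - 1 ≠ 0 := sub_ne_zero.2 fun e => hc1 (Units.ext e)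
  have hex : ∀ x : S.V, ∃ h : S.G, S.Iso x → Wk S c x h := fun x => by
    by_cases hx : S.Iso x
    · obtain ⟨h, h1, f, h2, h3, h4⟩ := hR x hx c hc
      have h5 : S.B f x ≠ 0 := fun e => h2 (by rw [← S.h.symm, e, map_zero])
      refine ⟨h, fun _ => ⟨h1, h3, fun v hv => ⟨S.B f v / S.B f x * (c - 1), ?_⟩⟩⟩
      have := h4 (v - (S.B f v / S.B f x) • x) (by rw [map_sub, map_smul, hv, hx.2]; simp)
        (by rw [map_sub, map_smul, smul_eq_mul, div_mul_cancel₀ _ h5, sub_self])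
      rw [map_sub, map_smul, h3, sub_eq_iff_eq_add] at this
      rw [this]
      module
    · exact ⟨1, fun h => absurd h hx⟩
  choose hh hW using hex
  obtain ⟨Φ, -, -⟩ := hCh S.toHS (S.r + 3) 1 S.hr ⟨0, by simp⟩ 0 (Nat.zero_le _) Fin.elim0
    (fun i => i.elim0) linearIndependent_empty_type (fun i => i.elim0)
  let e : Fin 3 → S.V := fun i => Φ.e (Fin.natAdd S.r i)
  have hli : LinearIndependent S.F e := by
    rw [Fintype.linearIndependent_iff]
    intro g hg i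
    have := congrArg (S.B (Φ.f (Fin.natAdd S.r i))) hg
    simpa [e, Φ.fe] using this
  have hti : ∀ x ∈ Submodule.span S.F (Set.range e), ∀ y ∈ Submodule.span S.F (Set.range e),
      S.B x y = 0 := by
    have h1 : ∀ i, ∀ y ∈ Submodule.span S.F (Set.range e), S.B (e i) y = 0 := fun i y hy => by
      refine (Submodule.span_le (p := LinearMap.ker (S.B (e i)))).2 ?_ hy
      rintro _ ⟨j, rfl⟩
      exact Φ.ee _ _
    intro x hx y hy
    rw [← S.h.symm]
    refine (map_eq_zero _).2 ((Submodule.span_le (p := LinearMap.ker (S.B y))).2 ?_ hx)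
    rintro _ ⟨j, rfl⟩
    change S.B y (e j) = 0
    rw [← S.h.symm, h1 j y hy, map_zero]
  refine hBa S.F S.V (Submodule.span S.F (Set.range e))
    (fun x => LinearMap.ker ((hh x).1.toLinearMap - 1))
    (by rw [finrank_span_eq_card hli, Fintype.card_fin]) (fun x hx h0 => ⟨fun e => ?_, fun v hv => ?_⟩)
    fun x hx y hy hx0 hy0 hxy => ?_
  · have e1 : (hh x).1 x = x := sub_eq_zero.1 e
    rw [(hW x ⟨h0, hti x hx x hx⟩).2.1, ← sub_eq_zero] at e1
    exact smul_ne_zero hc1' h0 (by rw [← e1]; module)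
  · obtain ⟨s, hs⟩ := (hW x ⟨h0, hti x hx x hx⟩).2.2 v (hti x hx v hv)
    refine ⟨s / (c - 1), sub_eq_zero.2 ?_⟩
    change (hh x).1 _ = v - (s / (c - 1)) • x
    rw [map_sub, map_smul, hs, (hW x ⟨h0, hti x hx x hx⟩).2.1]
    nth_rw 1 [← div_mul_cancel₀ s hc1']
    module
  · have a := hW x ⟨hx0, hti x hx x hx⟩
    have b := hW y ⟨hy0, hti y hy y hy⟩
    have e1 : (hh x).1 y = y := sub_eq_zero.1 hxy
    have e2 : (hh x)⁻¹.1 y = y := (hh x).1.symm_apply_eq.2 e1.symm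
    have e3 : ∀ v, (hh x).1 ((hh x)⁻¹.1 v) = v := (hh x).1.apply_symm_apply
    have g : Wk S c y (hh x * hh y * (hh x)⁻¹) := by
      refine ⟨S.K.mul_mem (S.K.mul_mem a.1 b.1) (S.K.inv_mem a.1), ?_, fun v hv => ?_⟩
      · change (hh x).1 ((hh y).1 ((hh x)⁻¹.1 y)) = _
        rw [e2, b.2.1, map_smul, e1]
      · obtain ⟨s, hs⟩ := b.2.2 ((hh x)⁻¹.1 v) (by rw [← (hh x).2.1, e1, e3, hv])
        refine ⟨s, ?_⟩
        change (hh x).1 ((hh y).1 ((hh x)⁻¹.1 v)) = _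
        rw [hs, map_add, map_smul, e1, e3]
    obtain ⟨s, hs⟩ := b.2.2 x (hti y hy x hx)
    have e4 := b.uniq hB ⟨hy0, hti y hy y hy⟩ g ((hh x).1 x)
      (by rw [a.2.1, map_smul, hti y hy x hx, smul_zero])
    change (hh x).1 ((hh y).1 ((hh x).1.symm ((hh x).1 x))) = _ at e4
    rw [LinearEquiv.symm_apply_apply, hs, map_add, map_smul, e1, a.2.1, map_smul, hs] at e4
    have e5 : ((c : S.F) - 1) • s • y = 0 := by
      rw [← sub_eq_zero] at e4
      rw [← neg_eq_zero, ← e4]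
      module
    refine sub_eq_zero.2 ?_
    change (hh y).1 x = x
    rw [hs, (smul_eq_zero.1 e5).resolve_left hc1', add_zero]

end H69.KUBC2
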