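import Cfsg.Agent.H57.U2CSpec

/-! # S3275, chapter U2F: job `TY` (`F = C_F(V) N_F(C_T(V))`). -/

set_option autoImplicit false

namespace H69.U2CTY

open Subgroup Cfsg H98 H48.DP H57.DPC H48.DP2 H57.U2C

universe u

variable {G : Type u} [Group G]

theorem no_sup [Finite G] {T Q₀ Q₁ F A : Subgroup G}
    (h : ∀ t ∈ T, ∃ φ : MulAut F, ∀ f : F, ((φ f : F) : G)⁻¹ * (t * f * t⁻¹) ∈ Q₀)
    (h1 : Q₀ ≤ Q₁) (h2 : T ≤ No Q₁) (h3 : Q₀ ≤ A) (h4 : T ≤ No A) : T ≤ No (Q₁ ⊔ (F ⊓ A)) := by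
  intro t ht
  obtain ⟨φ, hφ⟩ := h t ht
  refine mem_normalizer_of_cj_le ?_
  rw [cj_sup, cj_eq_self (h2 ht)]
  refine sup_le le_sup_left ?_
  rintro _ ⟨e, ⟨he, heA⟩, rfl⟩
  have q := hφ ⟨e, he⟩
  have a1 : t * e * t⁻¹ ∈ A := conj_mem_of_mem_normalizer (h4 ht) heA
  have a2 : ((φ ⟨e, he⟩ : F) : G) ∈ A := by
    have := A.mul_mem (h3 q) (A.inv_mem a1)
    rwa [mul_inv_cancel_right, inv_mem_iff] at this
  have e1 : t * e * t⁻¹ = (φ ⟨e, he⟩ : F) * (((φ ⟨e, he⟩ : F) : G)⁻¹ * (t * e * t⁻¹)) := by group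
  show t * e * t⁻¹ ∈ _
  rw [e1]
  exact mul_mem (mem_sup_right ⟨(φ ⟨e, he⟩).2, a2⟩) (mem_sup_left (h1 q))

theorem pow_mul_pow {A : Subgroup G} {k t : G} (hk : k ∈ No A) (h : k * t ∈ A) (m : ℕ) :
    k ^ m * t ^ m ∈ A := by
  induction m with
  | zero => simp
  | succ m ih =>
    have e : k ^ (m + 1) * t ^ (m + 1) = k * (k ^ m * t ^ m) * k⁻¹ * (k * t) := by
      rw [pow_succ', pow_succ]; group
    rw [e]
    exact A.mul_mem (conj_mem_of_mem_normalizer hk ih) h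

theorem jobTY : H57.U2C.JobTY.{u} := by
  intro kk G _ _ T Q₀ F V h hV hQ
  have f2 : Fact (Nat.Prime 2) := ⟨Nat.prime_two⟩
  have f3 : Fact (Nat.Prime 3) := ⟨Nat.prime_three⟩
  obtain ⟨k1, k2, -, -, -, -, k7⟩ := kk G T Q₀ F h
  have hC : T ⊔ F ≤ No (Ce V) := le_normalizer_centralizer hV
  have hT : T ≤ No (T ⊓ Ce V) := le_normalizer_inf le_normalizer (le_sup_left.trans hC)
  have hQT : Q₀ ≤ T ⊓ Ce V := le_inf h.le hQ
  refine ⟨⟨h.T2, h.F3.to_le inf_le_left, inf_le_left, hT, inf_le_right,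
      no_sup k7 hQT hT (h.le.trans hT) (le_normalizer_normalizer hT)⟩,
    no_sup k7 le_rfl h.TQ (h.le.trans hT) (le_normalizer_normalizer hT),
    no_sup k7 le_rfl h.TQ hQ (le_sup_left.trans hC), fun f hf => ?_⟩
  have hn : T ⊔ F ≤ No ((T ⊔ F) ⊓ Ce V) := le_normalizer_inf le_normalizer hC
  have s := k2.inf_of_le_normalizer (N := (T ⊔ F) ⊓ Ce V) inf_le_left (le_sup_left.trans hn)
  rw [← inf_assoc, inf_eq_left.2 (le_sup_left : T ≤ T ⊔ F)] at s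
  obtain ⟨a, ha, n, hn', e⟩ := s.frattini_mem (hn (inv_mem (mem_sup_right hf)))
  obtain ⟨k, hk, t, ht, e1⟩ := k1 n⁻¹ (inv_mem hn'.1)
  have kC : k ∈ Ce V := by
    obtain ⟨b, hb⟩ := isPGroup_iff_forall.1 h.T2 t ht
    obtain ⟨c, hc⟩ := isPGroup_iff_forall.1 h.F3 k hk
    have := pow_mul_pow (hC (mem_sup_right hk)) (e1 ▸ (Ce V).inv_mem hn'.2) (2 ^ b)
    rw [hb, mul_one] at this
    exact mem_of_pow_mem_of_coprime this (Nat.Coprime.coprime_dvd_left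
      (orderOf_dvd_of_pow_eq_one hc) (Nat.Coprime.pow _ _ (by norm_num)))
  have e2 : k⁻¹ * f = t * a⁻¹ := by
    rw [← inv_inv f, e, mul_inv_rev, e1]; group
  have e3 : k⁻¹ * f ∈ No (T ⊓ Ce V) := by
    rw [e2]; exact mul_mem (hT ht) (inv_mem ha)
  exact ⟨k, ⟨hk, kC⟩, k⁻¹ * f, ⟨F.mul_mem (F.inv_mem hk) hf, e3⟩, by group⟩

end H69.U2CTY
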