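/- Tower A8S, job `HT`: all translations of `t W` are induced by the centraliser of `W`. -/
import Cfsg.Agent.H63.A8Def
import Cfsg.Agent.H67.SAInd

set_option autoImplicit false
set_option linter.unusedSectionVars false
set_option linter.unusedSimpArgs false

namespace H69.A8HT

open H64.SG (O2 Syl Cz Cs Ns cjs Is2 Inv2 mem_Cs mem_Cz)
open H67.SA H63.A8 Matrix Subgroup

universe u

section Model
open H32.HS

theorem mA : ∀ s : U, s ∈ H32.HS.A → tau s = s⁻¹ ∧ s * s ∈ V ∧ (s * s = 1 → s ∈ V) ∧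
    ∀ s' : U, s' ∈ H32.HS.A → s * s' = s' * s := by decide +kernel

theorem mV : ∀ v : U, v ∈ V → ∃ s : U, s ∈ H32.HS.A ∧ s * s = v := by decide +kernel

end Model

section Row

variable {F : Type} [Field F]

/-- An element of the first row. -/
def r (i j k : F) : SLn 3 F := x 0 1 i * x 0 2 j * x 0 (la 3) k

theorem r_val (i j k : F) : (r i j k).1 = !![1, i, j, k; 0, 1, 0, 0; 0, 0, 1, 0; 0, 0, 0, 1] := by
  ext a b
  simp only [r, val_mul, x_coe (show (0 : Fin (3 + 1)) ≠ 1 by decide),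
    x_coe (show (0 : Fin (3 + 1)) ≠ 2 by decide), x_coe (show (0 : Fin (3 + 1)) ≠ la 3 by decide)]
  fin_cases a <;> fin_cases b <;> simp [Matrix.mul_apply, Fin.sum_univ_four, one_apply, single_apply, la, Fin.last]

theorem r_inj {i j k i' j' k' : F} (h : r i j k = r i' j' k') : i = i' ∧ j = j' ∧ k = k' := by
  have := congrArg Subtype.val h
  rw [r_val, r_val] at this
  exact ⟨congrFun (congrFun this 0) 1, congrFun (congrFun this 0) 2, congrFun (congrFun this 0) 3⟩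

theorem exists_r {v : SLn 3 F} (h : v ∈ Er 3 F) : ∃ i j k, v = r i j k := by
  obtain ⟨h1, h2⟩ := mem_Row.1 h
  refine ⟨v.1 0 1, v.1 0 2, v.1 0 3, Subtype.ext ?_⟩
  rw [r_val]
  ext a b
  fin_cases a <;> fin_cases b <;> first | exact h1 _ | rfl | exact h2 _ _ (by decide) (by decide)

theorem r_mul (i j k i' j' k' : F) : r i j k * r i' j' k' = r (i + i') (j + j') (k + k') := by
  refine Subtype.ext ?_
  rw [val_mul, r_val, r_val, r_val]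
  ext a b
  fin_cases a <;> fin_cases b <;> simp [Matrix.mul_apply, Fin.sum_univ_four, add_comm]

theorem cj_r (a b : Fin (3 + 1)) (hab : a ≠ b) (i j k i' j' k' : F)
    (h : (1 + single a b (1 : F)) * (r i j k).1 = (r i' j' k').1 * (1 + single a b 1)) :
    x a b 1 * r i j k * (x a b 1)⁻¹ = r i' j' k' := by
  rw [mul_inv_eq_iff_eq_mul]
  exact Subtype.ext (by rw [val_mul, val_mul, x_coe hab, h])

theorem c12 [CharP F 2] (i j k : F) : x 1 2 1 * r i j k * (x 1 2 1)⁻¹ = r i (i + j) k := by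
  refine cj_r _ _ (by decide) _ _ _ _ _ _ ?_
  rw [r_val, r_val]
  ext a b
  fin_cases a <;> fin_cases b <;>
    simp [Matrix.mul_apply, Fin.sum_univ_four, one_apply, single_apply, CharTwo.add_cancel_left,
      CharTwo.add_cancel_right]

theorem c21 [CharP F 2] (i j k : F) : x 2 1 1 * r i j k * (x 2 1 1)⁻¹ = r (i + j) j k := by
  refine cj_r _ _ (by decide) _ _ _ _ _ _ ?_
  rw [r_val, r_val]
  ext a b
  fin_cases a <;> fin_cases b <;>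
    simp [Matrix.mul_apply, Fin.sum_univ_four, one_apply, single_apply, CharTwo.add_cancel_left,
      CharTwo.add_cancel_right]

theorem c23 [CharP F 2] (i j k : F) : x 2 3 1 * r i j k * (x 2 3 1)⁻¹ = r i j (j + k) := by
  refine cj_r _ _ (by decide) _ _ _ _ _ _ ?_
  rw [r_val, r_val]
  ext a b
  fin_cases a <;> fin_cases b <;>
    simp [Matrix.mul_apply, Fin.sum_univ_four, one_apply, single_apply, CharTwo.add_cancel_left,
      CharTwo.add_cancel_right]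

end Row


section Amb

variable {F : Type} [Field F] [Finite F] [CharP F 2] {G : Type u} [Group G] [Finite G]
  {e : SLn 3 F →* G} {t : G} {W : Subgroup G}

/-- What is used of the configuration. -/
structure Cf (e : SLn 3 F →* G) (t : G) (W : Subgroup G) : Prop where
  ce : CE e t
  inj : Function.Injective e
  ab : ∀ u ∈ W, ∀ u' ∈ W, u * u' = u' * u
  ti : ∀ u ∈ W, t * u * t⁻¹ = u⁻¹
  sq : ∀ u ∈ W, u * u ∈ (Er 3 F).map e
  om : ∀ u ∈ W, u * u = 1 → u ∈ (Er 3 F).map e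
  rt : ∀ v ∈ (Er 3 F).map e, ∃ u ∈ W, u * u = v
  nt : t ∉ W
  pr : (Pr 3 F).map e ≤ Ns W
  co : ∀ o ∈ Cz t, o ∈ Cs e.range → Odd (orderOf o) → o ∈ Cs W
  ctM : ∀ β : Au 3 F, (∀ u ∈ Er 3 F, β u = u) → β ∈ cI (Er 3 F)
  trr : ∀ v ∈ Er 3 F, ∀ w ∈ Er 3 F, v ≠ 1 → w ≠ 1 → ∃ p ∈ Pr 3 F, p * v * p⁻¹ = w
  gl3 : ∀ θ : MulAut (Er 3 F), ∃ p ∈ Pr 3 F, ∀ u : Er 3 F, (θ u : SLn 3 F) = p * u * p⁻¹

variable (c : Cf e t W)
include c

theorem Cf.le {v : G} (hv : v ∈ (Er 3 F).map e) : v ∈ W := by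
  obtain ⟨u, hu, rfl⟩ := c.rt v hv
  exact mul_mem hu hu

theorem Cf.cj {p : SLn 3 F} (hp : p ∈ Pr 3 F) {u : G} (hu : u ∈ W) : e p * u * (e p)⁻¹ ∈ W :=
  H98.conj_mem_of_mem_normalizer (c.pr ⟨p, hp, rfl⟩) hu

theorem Cf.tu {u : G} (hu : u ∈ W) : u⁻¹ * t * u = t * (u * u) := by
  have h := c.ti u hu
  rw [← c.ce.inv_eq] at h
  rw [← h, inv_inv, c.ce.inv_eq, mul_assoc (t * u), c.ce.inv.1]
  group

/-- Elements with the same square differ by an element of `e Er`. -/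
theorem Cf.same {u u' : G} (hu : u ∈ W) (hu' : u' ∈ W) (h : u * u = u' * u') :
    u⁻¹ * u' ∈ (Er 3 F).map e := c.om _ (mul_mem (inv_mem hu) hu') (by
  rw [mul_assoc, ← mul_assoc u', ← c.ab _ (inv_mem hu) _ hu', mul_assoc, ← h]
  group)

theorem Cf.mv {u u' : G} (hu : u ∈ W) (hu' : u' ∈ W) (h : u ∉ (Er 3 F).map e)
    (h' : u' ∉ (Er 3 F).map e) : ∃ p ∈ Pr 3 F, e p * u * (e p)⁻¹ * (e p * u * (e p)⁻¹) = u' * u' := by
  obtain ⟨v, hv, e1⟩ := c.sq u hu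
  obtain ⟨v', hv', e2⟩ := c.sq u' hu'
  obtain ⟨p, hp, e3⟩ := c.trr v hv v' hv' (fun e0 => h (c.om u hu (by rw [← e1, e0, map_one])))
    (fun e0 => h' (c.om u' hu' (by rw [← e2, e0, map_one])))
  refine ⟨p, hp, ?_⟩
  rw [← e2, ← e3, map_mul, map_mul, map_inv, e1]
  group

/-- `C(t) ∩ C(e Er)` acts on `W` trivially or by inversion. -/
theorem Cf.ct {m : G} (h1 : m ∈ Cz t) (h2 : m ∈ Cs ((Er 3 F).map e)) :
    (∀ u ∈ W, m * u * m⁻¹ = u) ∨ ∀ u ∈ W, m * u * m⁻¹ = u⁻¹ := by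
  obtain ⟨β, hβ⟩ := exists_ind (by norm_num) c.ce.ker (c.ce.cz h1)
  obtain ⟨ζ, hζ, rfl⟩ := mem_cI.1 (c.ctM β
    (hβ.fix c.ce.ker (isP_UU.to_le (Er_le_QQ.trans QQ_le_UU)) h2))
  have k1 := ind_conj_iff.1 hβ
  have k2 : m * (e ζ)⁻¹ ∈ Cz t := mul_mem h1 (inv_mem (c.ce.mem_Cz ζ))
  obtain ⟨k, rfl⟩ : ∃ k, m = k * e ζ := ⟨m * (e ζ)⁻¹, by group⟩
  rw [mul_inv_cancel_right] at k1 k2
  obtain ⟨i, j, e0, e1, e2⟩ := H64.SG.exists_two_odd k
  have e3 := c.co _ (pow_mem k2 j) (pow_mem k1 j) e2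
  have e4 : ∀ u ∈ W, k * e ζ * u * (k * e ζ)⁻¹ = k ^ i * u * (k ^ i)⁻¹ := fun u hu => by
    nth_rw 1 2 [e0]
    rw [mul_assoc _ (e ζ), c.ab _ (c.le ⟨ζ, hζ, rfl⟩) u hu, mul_assoc (k ^ i), ← mul_assoc (k ^ j),
      ← e3 u hu]
    group
  rcases c.ce.eq_or (pow_mem k1 i) e1 (mem_Cz.1 (pow_mem k2 i)) with e5 | e5
  · exact .inl fun u hu => by rw [e4 u hu, e5]; group
  · exact .inr fun u hu => by rw [e4 u hu, e5, c.ti u hu]

/-- The action of `y` on `W` is equivariant, up to inversion. -/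
theorem Cf.key {y δ : G} (h1 : y ∈ Cs ((Er 3 F).map e)) (h3 : y * t * y⁻¹ = t * δ)
    (h4 : δ ∈ W) {p : SLn 3 F} (hp : p ∈ Pr 3 F)
    (h5 : δ * δ = e p * δ * (e p)⁻¹ * (e p * δ * (e p)⁻¹)) :
    (∀ u ∈ W, ∀ u' ∈ W, e p * (u * u) * (e p)⁻¹ = u' * u' →
      cm y u' = e p * cm y u * (e p)⁻¹) ∨
    ∀ u ∈ W, ∀ u' ∈ W, e p * (u * u) * (e p)⁻¹ = u' * u' →
      cm y u' = e p * cm y u * (e p)⁻¹ * (u' * u') := by
  have hv := c.same h4 (c.cj hp h4) h5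
  obtain ⟨u0, hu0, e0⟩ := c.rt _ hv
  have hN : e p ∈ Ns ((Er 3 F).map e) := map_mem_Ns (Pr_le_Ns hp)
  have hy' : e p * y * (e p)⁻¹ ∈ Cs ((Er 3 F).map e) :=
    H98.conj_mem_of_mem_normalizer (H98.normalizer_le_normalizer_centralizer _ hN) h1
  have e1 : y⁻¹ * (e p * y * (e p)⁻¹) * t * (y⁻¹ * (e p * y * (e p)⁻¹))⁻¹ = t * (u0 * u0) := by
    have a1 : (e p)⁻¹ * t * e p = t := by rw [mul_assoc, c.ce.comm]; group
    have a2 : y⁻¹ * (t * δ) * y = t := by rw [← h3]; group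
    calc _ = y⁻¹ * (e p * (y * ((e p)⁻¹ * t * e p) * y⁻¹) * (e p)⁻¹) * y := by group
      _ = y⁻¹ * (t * δ) * ((δ⁻¹ * (e p * δ * (e p)⁻¹)) * y) := by
        rw [a1, h3, ← mul_assoc (e p), ← c.ce.comm]; group
      _ = _ := by rw [h1 _ hv, ← mul_assoc, a2, e0]
  have hs : ∀ u ∈ W, ∀ u' ∈ W, u * u = u' * u' → cm y u' = cm y u := fun u hu u' hu' h => by
    have a1 := c.same hu hu' h
    obtain ⟨v, rfl⟩ : ∃ v, u' = u * v := ⟨u⁻¹ * u', by group⟩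
    rw [inv_mul_cancel_left] at a1
    calc cm y (u * v) = y * u * (v * y⁻¹) * v⁻¹ * u⁻¹ := by rw [cm]; group
      _ = cm y u := by rw [(inv_mem h1 v a1 : v * y⁻¹ = y⁻¹ * v), cm]; group
  have hm := c.ct (m := u0 * (y⁻¹ * (e p * y * (e p)⁻¹))) (mem_Cz.2 (by
      rw [eq_comm, ← mul_inv_eq_iff_eq_mul]
      calc _ = u0 * (y⁻¹ * (e p * y * (e p)⁻¹) * t * (y⁻¹ * (e p * y * (e p)⁻¹))⁻¹) * u0⁻¹ := by group
        _ = t := by rw [e1, ← c.tu hu0]; group))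
    (mul_mem (fun v hv => c.ab _ (c.le hv) _ hu0) (mul_mem (inv_mem h1) hy'))
  have hc : ∀ u ∈ W, ∀ u' ∈ W, u0 * (y⁻¹ * (e p * y * (e p)⁻¹)) * (e p * u * (e p)⁻¹) *
      (u0 * (y⁻¹ * (e p * y * (e p)⁻¹)))⁻¹ = u' → e p * (y * u * y⁻¹) * (e p)⁻¹ = y * u' * y⁻¹ :=
    fun u _ u' hu' h => by
    rw [show u' = u0⁻¹ * u' * u0 by rw [mul_assoc, ← c.ab _ hu0 _ hu']; group, ← h]
    group
  refine hm.imp (fun h u hu u' hu' h6 => ?_) fun h u hu u' hu' h6 => ?_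
  · rw [hs _ (c.cj hp hu) _ hu' (by rw [← h6]; group), cm,
      ← hc u hu _ (c.cj hp hu) (h _ (c.cj hp hu))]
    group
  · have a1 := hc u hu _ (inv_mem (c.cj hp hu)) (h _ (c.cj hp hu))
    have a2 : e p * u * (e p)⁻¹ * (e p * u * (e p)⁻¹) = u' * u' := by rw [← h6]; group
    rw [hs _ (c.cj hp hu) _ hu' a2, ← a2]
    have a3 : e p * cm y u * (e p)⁻¹ = y * (e p * u * (e p)⁻¹)⁻¹ * y⁻¹ * (e p * u * (e p)⁻¹)⁻¹ := by
      rw [← a1]; group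
    rw [a3]
    generalize hU : e p * u * (e p)⁻¹ = U at a2 ⊢
    have hU' : U ∈ W := hU ▸ c.cj hp hu
    have a4 : U * U * y⁻¹ = y⁻¹ * (U * U) := inv_mem h1 _ (c.sq U hU')
    calc cm y U = y * U⁻¹ * (U * U * y⁻¹) * U⁻¹ := by rw [cm]; group
      _ = y * U⁻¹ * y⁻¹ * U⁻¹ * (U * U) := by rw [a4]; group

theorem Cf.v2 {v : G} (hv : v ∈ (Er 3 F).map e) : v * v = 1 := by
  obtain ⟨v, hv, rfl⟩ := hv
  obtain ⟨i, j, k, rfl⟩ := exists_r hv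
  rw [← map_mul, r_mul]
  simp [CharTwo.add_self_eq_zero, r]

/-- `y` centralises or inverts `W`. -/
theorem Cf.act (hF : ∀ a : F, a = 0 ∨ a = 1) {y δ : G} (h1 : y ∈ Cs ((Er 3 F).map e)) (h2 : y ∈ Ns W)
    (h3 : y * t * y⁻¹ = t * δ) (h4 : δ ∈ W) (h5 : δ * δ = e (r 0 0 1)) :
    y ∈ Cs W ∨ y * t ∈ Cs W := by
  have hf : ∀ u ∈ W, ∃ i j k, cm y u = e (r i j k) := fun u hu => by
    have a1 := H98.conj_mem_of_mem_normalizer h2 hu
    obtain ⟨v, hv, a2⟩ := c.om (cm y u) (mul_mem a1 (inv_mem hu)) (by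
      calc cm y u * cm y u = y * u * y⁻¹ * (u⁻¹ * (y * u * y⁻¹)) * u⁻¹ := by rw [cm]; group
        _ = y * (u * u * y⁻¹) * (u * u)⁻¹ := by rw [c.ab _ (inv_mem hu) _ a1]; group
        _ = 1 := by rw [(inv_mem h1 _ (c.sq u hu) : u * u * y⁻¹ = y⁻¹ * (u * u))]; group)
    obtain ⟨i, j, k, rfl⟩ := exists_r hv
    exact ⟨i, j, k, a2.symm⟩
  have hm : ∀ u ∈ W, ∀ u' ∈ W, cm y (u * u') = cm y u * cm y u' := fun u hu u' hu' => by
    have a1 := mul_mem (H98.conj_mem_of_mem_normalizer h2 hu') (inv_mem hu')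
    calc cm y (u * u') = y * u * y⁻¹ * (y * u' * y⁻¹ * u'⁻¹ * u⁻¹) := by rw [cm]; group
      _ = _ := by rw [c.ab _ a1 _ (inv_mem hu), cm, cm]; group
  have hr : ∀ i j k, r i j k ∈ Er 3 F := fun i j k =>
    mul_mem (mul_mem (x_mem_Row _ _ _) (x_mem_Row _ _ _)) (x_mem_Row _ _ _)
  obtain ⟨u1, m1, s1⟩ := c.rt _ ⟨_, hr 1 0 0, rfl⟩
  obtain ⟨u2, m2, s2⟩ := c.rt _ ⟨_, hr 0 1 0, rfl⟩
  obtain ⟨u3, m3, s3⟩ := c.rt _ ⟨_, hr 0 0 1, rfl⟩
  obtain ⟨a1, b1, c1, f1⟩ := hf u1 m1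
  obtain ⟨a2, b2, c2, f2⟩ := hf u2 m2
  obtain ⟨a3, b3, c3, f3⟩ := hf u3 m3
  have sm : ∀ u ∈ W, ∀ u' ∈ W, u * u' * (u * u') = u * u * (u' * u') := fun u hu u' hu' => by
    rw [mul_assoc, ← mul_assoc u', ← c.ab u hu u' hu']; group
  have ky : ∀ (a b : Fin (3 + 1)) (g : F → F → F → F × F × F), b ≠ 0 →
      (∀ i j k, x a b 1 * r i j k * (x a b 1)⁻¹ = r (g i j k).1 (g i j k).2.1 (g i j k).2.2) →
      g 0 0 1 = (0, 0, 1) → (g a3 b3 c3).2.2 + 1 ≠ c3 →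
      ∀ u ∈ W, ∀ u' ∈ W, ∀ i j k i' j' k' i'' j'' k'', u * u = e (r i j k) →
        u' * u' = e (r (g i j k).1 (g i j k).2.1 (g i j k).2.2) → cm y u = e (r i' j' k') →
        cm y u' = e (r i'' j'' k'') →
        i'' = (g i' j' k').1 ∧ j'' = (g i' j' k').2.1 ∧ k'' = (g i' j' k').2.2 := by
    intro a b g hb hg g1 g2
    have hg' : ∀ i j k, e (x a b 1) * e (r i j k) * (e (x a b 1))⁻¹ =
        e (r (g i j k).1 (g i j k).2.1 (g i j k).2.2) := fun i j k => by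
      rw [← hg, map_mul, map_mul, map_inv]
    rcases c.key h1 h3 h4 (x_mem_Pat (S := fun _ b => b ≠ 0) (i := a) hb (1 : F)) (by
      rw [show ∀ a : G, a * δ * a⁻¹ * (a * δ * a⁻¹) = a * (δ * δ) * a⁻¹ from fun a => by group, h5,
        hg', g1])
      with h | h
    · intro u hu u' hu' i j k i' j' k' i'' j'' k'' e1 e2 e3 e4
      have := h u hu u' hu' (by rw [e1, e2, hg'])
      rw [e3, e4, hg'] at this
      exact r_inj (c.inj this)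
    · have := h u3 m3 u3 m3 (by rw [s3, hg', g1])
      rw [f3, s3, hg', ← map_mul, r_mul] at this
      exact absurd (r_inj (c.inj this)).2.2.symm g2
  have n1 : ∀ a : F, a + 1 ≠ a := fun a => by simp
  have k12 := ky 1 2 (fun i j k => (i, i + j, k)) (by decide) c12 (by simp) (n1 _)
  have k21 := ky 2 1 (fun i j k => (i + j, j, k)) (by decide) c21 (by simp) (n1 _)
  have p1 := (k21 u3 m3 u3 m3 _ _ _ _ _ _ _ _ _ s3 (by simpa using s3) f3 f3).1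
  have p2 := (k12 u3 m3 u3 m3 _ _ _ _ _ _ _ _ _ s3 (by simpa using s3) f3 f3).2.1
  have b30 : b3 = 0 := by simpa using p1
  have a30 : a3 = 0 := by simpa using p2
  have k23 := ky 2 3 (fun i j k => (i, j, j + k)) (by decide) c23 (by simp)
    (by simp [b30])
  have f12 : cm y (u1 * u2) = e (r (a1 + a2) (b1 + b2) (c1 + c2)) := by
    rw [hm _ m1 _ m2, f1, f2, ← map_mul, r_mul]
  have f23 : cm y (u2 * u3) = e (r (a2 + a3) (b2 + b3) (c2 + c3)) := by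
    rw [hm _ m2 _ m3, f2, f3, ← map_mul, r_mul]
  have s12 : u1 * u2 * (u1 * u2) = e (r 1 1 0) := by
    rw [sm _ m1 _ m2, s1, s2, ← map_mul, r_mul]; simp
  have s23 : u2 * u3 * (u2 * u3) = e (r 0 1 1) := by
    rw [sm _ m2 _ m3, s2, s3, ← map_mul, r_mul]; simp
  obtain ⟨q1, q2, q3⟩ := k12 u1 m1 _ (mul_mem m1 m2) _ _ _ _ _ _ _ _ _ s1 (by simpa using s12) f1 f12
  obtain ⟨q4, q5, q6⟩ := k21 u2 m2 _ (mul_mem m1 m2) _ _ _ _ _ _ _ _ _ s2 (by simpa using s12) f2 f12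
  obtain ⟨-, -, q7⟩ := k23 u2 m2 _ (mul_mem m2 m3) _ _ _ _ _ _ _ _ _ s2 (by simpa using s23) f2 f23
  simp only at q1 q2 q3 q4 q5 q6 q7
  obtain rfl : a2 = 0 := by linear_combination q1
  obtain rfl : c2 = 0 := by linear_combination q3
  obtain rfl : b1 = 0 := by linear_combination q5
  obtain rfl : c1 = 0 := by linear_combination q6
  obtain rfl : a1 = b2 := by linear_combination q4
  obtain rfl : a1 = c3 := by linear_combination -q7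
  subst a30 b30
  -- every element of `W` is a product of the `u i` and an element of `e Er`
  have gen : ∀ P : G → Prop, (∀ v ∈ (Er 3 F).map e, P v) → P u1 → P u2 → P u3 →
      (∀ u ∈ W, ∀ u' ∈ W, P u → P u' → P (u * u')) → ∀ u ∈ W, P u := by
    intro P p0 p1 p2 p3 pm u hu
    obtain ⟨v, hv, e1⟩ := c.sq u hu
    obtain ⟨i, j, k, rfl⟩ := exists_r hv
    have h0 : ∀ u ∈ W, ∀ i j k, u * u = e (r i j k) → P u → ∀ a, a = 0 ∨ a = 1 →
        ∃ u' ∈ W, u' * u' = e (r (a * i) (a * j) (a * k)) ∧ P u' := by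
      rintro u hu i j k e1 pu a (rfl | rfl)
      · exact ⟨1, one_mem _, by simp [r], p0 1 (one_mem _)⟩
      · exact ⟨u, hu, by simpa using e1, pu⟩
    obtain ⟨w1, n1, t1, p1'⟩ := h0 u1 m1 _ _ _ s1 p1 i (hF i)
    obtain ⟨w2, n2, t2, p2'⟩ := h0 u2 m2 _ _ _ s2 p2 j (hF j)
    obtain ⟨w3, n3, t3, p3'⟩ := h0 u3 m3 _ _ _ s3 p3 k (hF k)
    have n4 := mul_mem (mul_mem n1 n2) n3
    have := c.same n4 hu (by
      rw [sm _ (mul_mem n1 n2) _ n3, sm _ n1 _ n2, t1, t2, t3, ← e1, ← map_mul, ← map_mul, r_mul, r_mul]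
      simp)
    rw [← mul_inv_cancel_left (w1 * w2 * w3) u]
    exact pm _ n4 _ (c.le this) (pm _ (mul_mem n1 n2) _ n3 (pm _ n1 _ n2 p1' p2') p3') (p0 _ this)
  have v0 : ∀ v ∈ (Er 3 F).map e, cm y v = 1 := fun v hv => cm_eq_one.2 (h1 v hv).symm
  rcases hF a1 with rfl | rfl
  · refine .inl fun u hu => (cm_eq_one.1 (gen (fun u => cm y u = 1) v0 ?_ ?_ ?_
      (fun u hu u' hu' e1 e2 => by rw [hm u hu u' hu', e1, e2, mul_one]) u hu)).symm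
    · rw [f1]; simp [r]
    · rw [f2]; simp [r]
    · rw [f3]; simp [r]
  · refine .inr fun u hu => ?_
    have := gen (fun u => cm y u = u * u) (fun v hv => by rw [v0 v hv, c.v2 hv]) (f1.trans s1.symm)
      (f2.trans s2.symm) (f3.trans s3.symm)
      (fun u hu u' hu' e1 e2 => by rw [hm u hu u' hu', e1, e2, sm u hu u' hu']) u⁻¹ (inv_mem hu)
    have e3 : y * u⁻¹ * y⁻¹ = u :=
      calc y * u⁻¹ * y⁻¹ = cm y u⁻¹ * u⁻¹ := by rw [cm]; group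
        _ = (u * u * (u * u))⁻¹ * u := by rw [this]; group
        _ = u := by rw [c.v2 (c.sq u hu), inv_one, one_mul]
    calc u * (y * t) = y * u⁻¹ * y⁻¹ * (y * t) := by rw [e3]
      _ = y * (t * u * t⁻¹) * t := by rw [c.ti u hu]; group
      _ = y * t * u := by group

theorem Cf.tw (hF : ∀ a : F, a = 0 ∨ a = 1) {y : G} (h1 : y ∈ Ns W) (h2 : y ∈ Ns (W ⊔ zpowers t))
    (h3 : t⁻¹ * (y * t * y⁻¹) ∉ (Er 3 F).map e) : TW t W := by
  have tN : t ∈ Ns W := mem_normalizer_fintype fun u hu => by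
    rw [c.ti u hu]; exact inv_mem hu
  have d1 : t⁻¹ * (y * t * y⁻¹) ∈ W := by
    have a1 : y * t * y⁻¹ ∈ ((zpowers t ⊔ W : Subgroup G) : Set G) := by
      rw [sup_comm]; exact H98.conj_mem_of_mem_normalizer h2 (mem_sup_right (mem_zpowers t))
    rw [coe_mul_of_left_le_normalizer_right _ _ (zpowers_le.2 tN)] at a1
    obtain ⟨s, hs, w, hw, a2⟩ := a1
    obtain ⟨i, rfl⟩ := (mem_powers_iff_mem_zpowers).2 hs
    obtain ⟨j, rfl | rfl⟩ := Nat.even_or_odd' i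
    · refine absurd ?_ c.nt
      simp only [pow_mul, pow_two, c.ce.inv.1, one_pow, one_mul] at a2
      simpa [a2, mul_assoc] using H98.conj_mem_of_mem_normalizer' h1 hw
    · simp only [pow_succ, pow_mul, pow_zero, one_mul, c.ce.inv.1, one_pow] at a2
      rwa [← a2, inv_mul_cancel_left]
  have yV : y ∈ Ns ((Er 3 F).map e) := mem_normalizer_fintype fun v hv => by
    obtain ⟨u, hu, rfl⟩ := c.rt v hv
    have := c.sq _ (H98.conj_mem_of_mem_normalizer h1 hu)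
    rwa [show y * u * y⁻¹ * (y * u * y⁻¹) = y * (u * u) * y⁻¹ by group] at this
  obtain ⟨p, hp, hθ⟩ := c.gl3 (((Er 3 F).equivMapOfInjective e c.inj).trans
    ((((Er 3 F).map e).normalizerMonoidHom ⟨y, yV⟩).trans ((Er 3 F).equivMapOfInjective e c.inj).symm))
  have y1 : (e p)⁻¹ * y ∈ Cs ((Er 3 F).map e) := by
    rintro _ ⟨v, hv, rfl⟩
    have a1 := congrArg e (hθ ⟨v, hv⟩)
    rw [← coe_equivMapOfInjective_apply _ e c.inj, MulEquiv.trans_apply, MulEquiv.trans_apply,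
      MulEquiv.apply_symm_apply, map_mul, map_mul, map_inv] at a1
    replace a1 : y * e v * y⁻¹ = e p * e v * (e p)⁻¹ := a1
    calc e v * ((e p)⁻¹ * y) = (e p)⁻¹ * (e p * e v * (e p)⁻¹) * y := by group
      _ = _ := by rw [← a1]; group
  have hN : ∀ p ∈ Pr 3 F, e p ∈ Ns ((Er 3 F).map e) := fun p hp => map_mem_Ns (Pr_le_Ns hp)
  have d2 := c.cj (inv_mem hp) d1
  have d3 : e p⁻¹ * (t⁻¹ * (y * t * y⁻¹)) * (e p⁻¹)⁻¹ ∉ (Er 3 F).map e := fun h =>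
    h3 ((mem_normalizer_iff.1 (hN _ (inv_mem hp)) _).2 h)
  obtain ⟨u3, m3, s3⟩ := c.rt _ ⟨r 0 0 1,
    mul_mem (mul_mem (x_mem_Row _ _ _) (x_mem_Row _ _ _)) (x_mem_Row _ _ _), rfl⟩
  have n3 : u3 ∉ (Er 3 F).map e := fun h => by
    rw [c.v2 h, ← map_one e, show (1 : SLn 3 F) = r 0 0 0 by simp [r]] at s3
    exact zero_ne_one (r_inj (c.inj s3)).2.2
  obtain ⟨p', hp', e1⟩ := c.mv d2 m3 d3 n3
  have d4 := c.cj hp' d2
  have cjt : ∀ {y δ : G} (p : SLn 3 F), y * t * y⁻¹ = t * δ →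
      e p * y * (e p)⁻¹ * t * (e p * y * (e p)⁻¹)⁻¹ = t * (e p * δ * (e p)⁻¹) := fun {y δ} p h => by
    have a1 : (e p)⁻¹ * t * e p = t := by rw [mul_assoc, c.ce.comm]; group
    calc _ = e p * (y * ((e p)⁻¹ * t * e p) * y⁻¹) * (e p)⁻¹ := by group
      _ = _ := by rw [a1, h, ← mul_assoc (e p), ← c.ce.comm]; group
  have e2 : (e p)⁻¹ * y * t * ((e p)⁻¹ * y)⁻¹ = t * (e p⁻¹ * (t⁻¹ * (y * t * y⁻¹)) * (e p⁻¹)⁻¹) := by
    rw [← mul_assoc t, ← mul_assoc t, c.ce.comm]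
    simp only [map_inv]
    group
  have e3 := cjt p' e2
  have y2 : e p' * ((e p)⁻¹ * y) * (e p')⁻¹ ∈ Cs ((Er 3 F).map e) :=
    H98.conj_mem_of_mem_normalizer (H98.normalizer_le_normalizer_centralizer _ (hN _ hp')) y1
  have y3 : e p' * ((e p)⁻¹ * y) * (e p')⁻¹ ∈ Ns W :=
    mul_mem (mul_mem (c.pr ⟨_, hp', rfl⟩) (mul_mem (inv_mem (c.pr ⟨_, hp, rfl⟩)) h1))
      (inv_mem (c.pr ⟨_, hp', rfl⟩))
  generalize e p' * ((e p)⁻¹ * y) * (e p')⁻¹ = y' at e3 y2 y3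
  generalize e p' * (e p⁻¹ * (t⁻¹ * (y * t * y⁻¹)) * (e p⁻¹)⁻¹) * (e p')⁻¹ = δ at e1 d4 e3
  have n4 : δ ∉ (Er 3 F).map e := fun h => n3 (c.om _ m3 (by rw [← e1, c.v2 h]))
  obtain ⟨y0, z1, z2⟩ : ∃ y0 ∈ Cs W, y0 * t * y0⁻¹ = t * δ := by
    rcases c.act hF y2 y3 e3 d4 (e1.trans s3) with h | h
    · exact ⟨_, h, e3⟩
    · exact ⟨_, h, by rw [← e3]; group⟩
  have hV : ∀ v ∈ (Er 3 F).map e, ∃ y ∈ Cs W, y * t * y⁻¹ = t * v := fun v hv => by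
    obtain ⟨u, hu, rfl⟩ := c.rt v hv
    exact ⟨u⁻¹, fun w hw => c.ab w hw _ (inv_mem hu), by rw [inv_inv, c.tu hu]⟩
  intro w hw
  by_cases h : w ∈ (Er 3 F).map e
  · exact hV w h
  obtain ⟨q, hq, e4⟩ := c.mv d4 hw n4 h
  have e5 := c.same (c.cj hq d4) hw e4
  obtain ⟨y4, z3, z4⟩ := hV _ e5
  have z5 : e q * y0 * (e q)⁻¹ ∈ Cs W :=
    H98.conj_mem_of_mem_normalizer (H98.normalizer_le_normalizer_centralizer _ (c.pr ⟨_, hq, rfl⟩)) z1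
  refine ⟨e q * y0 * (e q)⁻¹ * y4, mul_mem z5 z3, ?_⟩
  have e6 := cjt q z2
  generalize e q * y0 * (e q)⁻¹ = y5 at z5 e6
  calc y5 * y4 * t * (y5 * y4)⁻¹ = y5 * (y4 * t * y4⁻¹) * y5⁻¹ := by group
    _ = y5 * t * (((e q * δ * (e q)⁻¹)⁻¹ * w) * y5⁻¹) := by rw [z4]; group
    _ = y5 * t * y5⁻¹ * ((e q * δ * (e q)⁻¹)⁻¹ * w) := by
      rw [(inv_mem z5 _ (c.le e5) : _ * y5⁻¹ = y5⁻¹ * _)]; group
    _ = t * w := by rw [e6]; group

end Amb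

theorem jobHT' (A : J8FA) (C : J8FC) (Q : J8FQ) (Y : J8FY) : J8HT.{u} := by
  intro n F _ _ _ hp G _ _ e t w₁ w₂ w₃ φ ce hc hm y hy h3
  obtain rfl := hp.three
  have c : Cf e t (WW w₁ w₂ w₃) := by
    refine ⟨ce, (MonoidHom.ker_eq_bot_iff e).1 (le_bot_iff.1 ((Q 3 F hp).cen ▸ ce.ker)), ?_, ?_, ?_, ?_,
      ?_, fun h => hm.nt (hm.rng ▸ mem_sup_left h), hc.pr, hc.co, fun β h => ?_, (C 3 F hp).trr,
      (Y 3 F hp).gl3⟩
    · rw [← hm.mA]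
      rintro _ ⟨s, hs, rfl⟩ _ ⟨s', hs', rfl⟩
      rw [← map_mul, (mA s hs).2.2.2 s' hs', map_mul]
    · rw [← hm.mA]
      rintro _ ⟨s, hs, rfl⟩
      rw [hm.ta, (mA s hs).1, map_inv]
    · rw [← hm.mA, ← hm.mV]
      rintro _ ⟨s, hs, rfl⟩
      exact ⟨s * s, (mA s hs).2.1, map_mul ..⟩
    · rw [← hm.mA, ← hm.mV]
      rintro _ ⟨s, hs, rfl⟩ h
      exact ⟨s, (mA s hs).2.2.1 (hm.inj (by rw [map_mul, h, map_one])), rfl⟩
    · rw [← hm.mA, ← hm.mV]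
      rintro _ ⟨v, hv, rfl⟩
      obtain ⟨s, hs, rfl⟩ := mV v hv
      exact ⟨φ s, ⟨s, hs, rfl⟩, (map_mul ..).symm⟩
    · have := (A 3 F hp).ctM 1 le_rfl (by norm_num) β
      rw [Ml_one] at this
      exact this h
  exact c.tw hp.fld hy.1 hy.2 h3

theorem jobHT (A : J8FA) (C : J8FC) (Q : J8FQ) (Y : J8FY) (_ : J8AB.{u}) : J8HT.{u} :=
  jobHT' A C Q Y

end H69.A8HT
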