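import Cfsg.Agent.H63.KgvSpec

/-! Tower KGV: the square root of the fixed point ratio from the Brauer lift. -/

set_option autoImplicit false

namespace H69.KgvMN

open Finset Cfsg ComplexConjugate H63.Kgv

universe u

theorem inj (K : Type) [Field K] [Fintype K] : ∃ θ : Kˣ →* ℂˣ, Function.Injective θ := by
  have : NeZero (Nat.card Kˣ) := ⟨Nat.card_pos.ne'⟩
  let e := mulEquivOfCyclicCardEq (G := Kˣ)
    (HasEnoughRootsOfUnity.natCard_rootsOfUnity ℂ (Nat.card Kˣ)).symm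
  exact ⟨(Subgroup.subtype _).comp e.toMonoidHom, Subtype.val_injective.comp e.injective⟩

theorem core {ι : Type} [Fintype ι] (o : ι) (h : ι → ℂ) (m : ι → ℕ) (p n : ℕ)
    (hs : ∑ᶠ x, m x = n) (h1 : h o = 1) (ha : ∀ x, x ≠ o → h x * conj (h x) = p)
    (hi : ∀ x, IsIntegral ℤ (h x))
    (hd : ∀ x, x ≠ o → ∃ (k : ℕ) (v : ℂ), IsIntegral ℤ v ∧ h x ^ k = p * v) :
    (∏ x, h x ^ (1 * m x)) * conj (∏ x, h x ^ (1 * m x)) * (p : ℂ) ^ m o = (p : ℂ) ^ n ∧
    (m o = n → ∏ x, h x ^ (1 * m x) = 1) ∧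
    (m o ≠ n → ∃ (k : ℕ) (v : ℂ), IsIntegral ℤ v ∧ (∏ x, h x ^ (1 * m x)) ^ k = p * v) := by
  classical
  rw [finsum_eq_sum_of_fintype, ← add_sum_erase _ _ (mem_univ o)] at hs
  have e : ∏ x, h x ^ (1 * m x) = ∏ x ∈ univ.erase o, h x ^ m x := by
    rw [← mul_prod_erase _ _ (mem_univ o), h1, one_pow, one_mul]
    simp only [one_mul]
  rw [e]
  refine ⟨?_, fun h0 => ?_, fun h0 => ?_⟩
  · rw [map_prod, ← prod_mul_distrib, ← hs, pow_add, mul_comm, ← prod_pow_eq_pow_sum]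
    congr 1
    refine prod_congr rfl fun x hx => ?_
    rw [map_pow, ← mul_pow, ha x (ne_of_mem_erase hx)]
  · have : ∑ x ∈ univ.erase o, m x = 0 := by omega
    refine prod_eq_one fun x hx => ?_
    rw [sum_eq_zero_iff.1 this x hx, pow_zero]
  · have : ∑ x ∈ univ.erase o, m x ≠ 0 := by omega
    obtain ⟨x, hx, hx0⟩ := exists_ne_zero_of_sum_ne_zero this
    obtain ⟨k, v, hv, hk⟩ := hd x (ne_of_mem_erase hx)
    obtain ⟨j, hj⟩ := Nat.exists_eq_succ_of_ne_zero hx0
    refine ⟨k, v * (h x ^ j * ∏ y ∈ (univ.erase o).erase x, h y ^ m y) ^ k,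
      hv.mul ((((hi x).pow j).mul (IsIntegral.prod _ fun y _ => (hi y).pow _)).pow k), ?_⟩
    rw [← mul_prod_erase _ _ hx, hj, ← mul_assoc, ← hk, ← mul_pow, pow_succ]
    congr 1
    ring

theorem job : JMN.{u} := by
  intro hs eg bl bi p _ G _ _ n ρ hp
  have hpp : p.Prime := Fact.out
  have hM0 : 0 < Nat.totient (Nat.card G) := Nat.totient_pos.2 Nat.card_pos
  have hdvd : Nat.card G ∣ p ^ Nat.totient (Nat.card G) - 1 :=
    (Nat.modEq_iff_dvd' (Nat.one_le_pow _ _ hpp.pos)).1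
      (Nat.ModEq.pow_totient ((Nat.Prime.coprime_iff_not_dvd hpp).2 hp)).symm
  generalize Nat.totient (Nat.card G) = M at hM0 hdvd
  let _ : Fintype (GaloisField p M) := Fintype.ofFinite _
  have hK : Fintype.card (GaloisField p M) = p ^ M := by
    rw [← Nat.card_eq_fintype_card]; exact GaloisField.card p M hM0.ne'
  obtain ⟨g, hg⟩ := IsCyclic.exists_generator (α := (GaloisField p M)ˣ)
  obtain ⟨θ, hθ⟩ := inj (GaloisField p M)
  have S := hs p M (GaloisField p M) g θ ⟨hM0, hK, hg, hθ⟩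
  obtain ⟨β, m, h1, h2, h3, h4⟩ := bl p G n M ρ (GaloisField p M) θ hK hdvd
  have he : ∀ y, em θ β y = m y := fun y => (eg _ θ G hθ).1 β y _ (h3 y)
  have hV : Nat.card (Fin n → ZMod p) = p ^ n := by
    rw [Nat.card_fun, Nat.card_zmod, Nat.card_eq_fintype_card, Fintype.card_fin]
  have hfix : ∀ y, m y 1 = n ↔ ρ y = 1 := fun y => by
    constructor
    · intro h0
      have h5 := (h4 y).2
      rw [h0, ← hV] at h5
      have h6 : Function.Surjective
          (Subtype.val : {v : Fin n → ZMod p // ρ y v = v} → Fin n → ZMod p) :=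
        (Subtype.val_injective.bijective_of_nat_card_le h5.ge).2
      refine LinearMap.ext fun v => ?_
      obtain ⟨w, rfl⟩ := h6 v
      exact w.2
    · intro h0
      have h5 := (h4 y).2
      rw [Nat.card_congr (Equiv.subtypeUnivEquiv (p := fun v : Fin n → ZMod p => ρ y v = v)
        fun v => by rw [h0]; rfl), hV] at h5
      exact (Nat.pow_right_injective hpp.two_le h5).symm
  refine ⟨gam θ (HH p M g θ) 1 β, bi p M _ θ _ _ S G hdvd β h1 h2 fun y => ⟨_, h3 y⟩,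
    fun t ht => ?_⟩
  have C := fun y => @core _ (@instFintypeUnitsOfDecidableEq _ _ _ (Classical.propDecidable <| · = ·))
    1 (HH p M g θ t) (m y) p n (h4 y).1 (S.one t ht) (fun x => S.abs t x ht)
    (fun x => S.int t x ht) fun x => S.div t x ht
  refine ⟨?_, fun y => ⟨?_, fun h0 => ?_⟩⟩
  · rw [gam, he]
    exact (C 1).2.1 ((hfix 1).2 (map_one ρ))
  · rw [gam, he, (h4 y).2, Nat.cast_pow]
    exact (C y).1
  · rw [gam, he]
    exact (C y).2.2 fun h => h0 ((hfix y).1 h)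

end H69.KgvMN
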