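import Cfsg.Agent.H67.SPIII
import Cfsg.Agent.H78.S2Kit

/-! STD-SP (row S3129), chapter III, slot `GX`: generators of the symplectic group. -/

set_option autoImplicit false
set_option linter.unusedSectionVars false

namespace H69.SP3

open H67.UA hiding Par
open H67.SP H78.S2
open H86.SPI (ok hf_self hf_comm EE_mul' ac_TT TT_conj TT_smul)
open Subgroup

variable {n : ℕ} {F : Type} [Field F] [StarRing F] [TrivialStar F] [CharP F 2] [Finite F]
  [p : Par n F] {A : Subgroup (XU n F)}

/-- The short root subgroup `e_i + e_j` lies in `A`. -/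
def Sh (A : Subgroup (XU n F)) (i j : Fin (n + 1)) : Prop :=
  j ≠ i.rev ∧ ∀ c : F, qq (c • ev j) (ev i) ∈ A

theorem hf0 {i j : Fin (n + 1)} (h : j ≠ i.rev) : hf (ev i : Vn n F) (ev j) = 0 := by
  rw [hf_ev, if_neg h]

theorem hfs {i j : Fin (n + 1)} (h : j ≠ i.rev) (c : F) : hf (c • ev j : Vn n F) (ev i) = 0 := by
  rw [hf_smul_left, hf_comm, hf0 h, mul_zero]

theorem Sh.symm {i j : Fin (n + 1)} (h : Sh A i j) : Sh A j i :=
  ⟨fun k => h.1 (by rw [k, Fin.rev_rev]), fun c => by rw [qq_smul', qq_comm]; exact h.2 c⟩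

variable (hT : ∀ j c, Tc c (ev j) ∈ A)
include hT

theorem ee_iff {i : Fin (n + 1)} {x : Vn n F} (h : hf x (ev i) = 0) (c d : F)
    (k : EE (ev i) x c ∈ A) : EE (ev i) x d ∈ A := by
  have := mul_mem k (hT i (c + d))
  rwa [EE_mul_Tc h, ← add_assoc, CharTwo.add_self_eq_zero, zero_add] at this

theorem Sh.step {i j l : Fin (n + 1)} (h : Sh A i j) (hl : l ≠ i.rev) {a : XU n F} (ha : a ∈ A)
    (h1 : ac a (ev i) = ev i) (h2 : ac a (ev j) = ev j + ev l) : Sh A i l := ⟨hl, fun c => by
  have k := mul_mem (mul_mem ha (h.2 c)) (inv_mem ha)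
  rw [EE_conj' (hfs h.1 c), h1, ac_smul, h2, smul_add] at k
  have k2 := mul_mem (h.2 c) k
  rw [EE_mul' (hfs h.1 c) (by rw [hf_add_left, hfs h.1, hfs hl, add_zero]), ← add_assoc,
    v_add_self, zero_add] at k2
  exact ee_iff hT (hfs hl c) _ _ k2⟩

theorem Sh.flip {i j : Fin (n + 1)} (h : Sh A i j) (k : j ≠ i) : Sh A i j.rev :=
  h.step hT (by simpa using k) (hT j.rev 1)
    (by rw [ac_TT, hf0 (by simpa using k), zero_smul, add_zero])
    (by rw [ac_TT, hf_ev, if_pos rfl, one_smul])

theorem Sh.trans {i j l : Fin (n + 1)} (h : Sh A i j) (h' : Sh A j l) (k : j ≠ i) (k' : l ≠ j)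
    (hl : l ≠ i.rev) : Sh A i l := by
  have h2 := (h'.symm.flip hT k'.symm).symm
  have h3 := h2.2 1
  rw [one_smul] at h3
  have h4 : hf (ev l : Vn n F) (ev j.rev) = 0 := hf0 (by simpa using k'.symm)
  exact h.step hT hl h3 (ac_qq_fix h4 (hf0 (by simpa using k)) (hf0 hl))
    (by rw [ac_qq' h4, hf0 h'.1, hf_ev, if_pos rfl, zero_smul, add_zero, one_smul])

theorem sh_all (hS : ∀ (i : Fin (n + 1)) (c : F), i.val + 1 < kk n → qq (c • ev (i + 1)) (ev i) ∈ A)
    {i j : Fin (n + 1)} (h1 : j ≠ i) (h2 : j ≠ i.rev) : Sh A i j := by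
  have hk := H54.SPF.two_kk (n := n) (F := F)
  have b : ∀ i j : Fin (n + 1), j.val = i.val + 1 → j.val < kk n → Sh A i j := fun i j a b => by
    obtain rfl : j = i + 1 := Fin.ext (by rw [Fin.val_add_one_of_lt' (by omega), a])
    exact ⟨fun k => by have := congrArg Fin.val k; rw [Fin.val_rev] at this; omega,
      fun c => hS i c (a ▸ b)⟩
  have lt : ∀ (d : ℕ) (i j : Fin (n + 1)), j.val = i.val + 1 + d → j.val < kk n → Sh A i j := by
    intro d
    induction d with
    | zero => exact b
    | succ d ih =>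
      intro i j a c
      refine (ih i ⟨i.val + 1 + d, by omega⟩ rfl (by simp only; omega)).trans hT (b _ j a c)
        (fun k => ?_) (fun k => ?_) fun k => ?_ <;> have := congrArg Fin.val k <;>
        simp only [Fin.val_rev] at this <;> omega
  have lo : ∀ i j : Fin (n + 1), i.val < kk n → j.val < kk n → j ≠ i → Sh A i j := fun i j a c d => by
    rcases lt_or_gt_of_ne (Fin.val_ne_of_ne d) with k | k
    · exact (lt (i.val - j.val - 1) j i (by omega) a).symm
    · exact lt (j.val - i.val - 1) i j (by omega) c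
  have hi : ∀ i j : Fin (n + 1), i.val < kk n → j ≠ i → j ≠ i.rev → Sh A i j := fun i j a c d => by
    by_cases k : j.val < kk n
    · exact lo i j a k c
    · have e : j.rev ≠ i := fun e => d (by rw [← e, Fin.rev_rev])
      simpa using (lo i j.rev a (by rw [Fin.val_rev]; omega) e).flip hT e
  by_cases k : i.val < kk n
  · exact hi i j k h1 h2
  · simpa using ((hi i.rev j (by rw [Fin.val_rev]; omega) h2 (by simpa using h1)).symm.flip hT
      h2.symm).symm

omit hT in
theorem jobGX : JobGX := by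
  intro n F _ _ _ _ _ p b A hT hS
  have q : ∀ i (x : Vn n F), hf x (ev i) = 0 → ∀ c, EE (ev i) x c ∈ A := fun i x hx => by
    have s : ∀ j, hf (x j • ev j : Vn n F) (ev i) = 0 := fun j => by
      by_cases k : j = i.rev
      · rw [k, ← hf_ev_right x, hx, zero_smul, hf_zero_left]
      · exact hfs k _
    have k : ∀ s : Finset (Fin (n + 1)), hf (∑ j ∈ s, x j • ev j : Vn n F) (ev i) = 0 ∧
        EE (ev i) (∑ j ∈ s, x j • ev j) 0 ∈ A := fun t => by
      induction t using Finset.induction_on with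
      | empty => simp
      | insert j t hj ih =>
        have h1 : hf (x j • ev j + ∑ j ∈ t, x j • ev j : Vn n F) (ev i) = 0 := by
          rw [hf_add_left, s, ih.1, add_zero]
        have h2 : EE (ev i) (x j • ev j) 0 ∈ A := by
          by_cases k : j = i.rev
          · rw [k, ← hf_ev_right x, hx]; simp
          by_cases k' : j = i
          · rw [k', ← zero_add (x i • _), EE_shift']; simp
          · exact (sh_all hT hS k' k).2 _
        have h3 := mul_mem h2 ih.2
        rw [EE_mul' (s j) ih.1] at h3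
        rw [Finset.sum_insert hj]
        exact ⟨h1, ee_iff hT h1 _ _ h3⟩
    have e : ∑ j, x j • ev j = x := by ext a; simp [Finset.sum_apply, ev_apply]
    exact fun c => ee_iff hT hx _ _ (e ▸ (k Finset.univ).2)
  refine FW.genT A fun v => ?_
  by_cases h0 : v = 0
  · simp [h0]
  obtain ⟨i, hi⟩ := Function.ne_iff.1 h0
  have hi : v i ≠ 0 := hi
  set x := (v i)⁻¹ • v + ev i
  have hx : hf x (ev i.rev) = 0 := by
    rw [hf_ev_right, Fin.rev_rev]
    simp [x, ev_apply, hi, CharTwo.add_self_eq_zero]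
  have h1 : ac (EE (ev i.rev) x (hf (ev i) x)) (v i • ev i) = v := by
    rw [ac_smul, ac_EE (ok hx _), hf_ev, if_pos rfl, mul_one, one_smul, add_right_comm,
      add_assoc (ev i), v_add_self, add_zero, add_left_comm, v_add_self, add_zero,
      smul_inv_smul₀ hi]
  have h2 := q _ _ hx (hf (ev i) x)
  rw [← h1, ← TT_conj, TT_smul]
  exact mul_mem (mul_mem h2 (hT _ _)) (inv_mem h2)

end H69.SP3
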