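import Cfsg.Agent.H67.SPIII
import Cfsg.Agent.H67.SAOut
import Cfsg.Agent.H81.UAFX
import Cfsg.Agent.H67.UAFQ
import Cfsg.Agent.H21.SLMult

/-! STD-SP (row S3129), chapter III, slots `QS`, `QL`, `QU`: the models are quasisimple. -/

set_option autoImplicit false
set_option linter.unusedSectionVars false

namespace H69.SP3

open H67 H67.UA H67.SP
open H67.SA (SLn)
open H59.SO (NS)
open Subgroup

theorem ns_of {Y : Type} [Group Y] (hp : commutator Y = ⊤) (hs : IsSimpleGroup Y) : NS Y := by
  refine ⟨hs, fun g hg => ?_⟩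
  have h1 : g ∈ center Y := mem_center_iff.2 fun a =>
    (mul_inv_eq_iff_eq_mul.1 (congrArg (fun f : MulAut Y => f a) hg)).symm
  rcases hs.eq_bot_or_eq_top_of_normal (center Y) inferInstance with h | h
  · exact mem_bot.1 (h ▸ h1)
  · refine mem_bot.1 (le_trans hp.ge (commutator_le.2 fun a _ b _ => ?_) (mem_top g))
    exact mem_bot.2 (commutatorElement_eq_one_iff_mul_comm.2
      (mem_center_iff.1 (h.ge (mem_top b)) a))

theorem perf_quot {Y : Type} [Group Y] (hp : commutator Y = ⊤) (N : Subgroup Y) [N.Normal] :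
    commutator (Y ⧸ N) = ⊤ := by
  have h2 := map_commutator_eq Y (QuotientGroup.mk' N)
  rw [hp, ← MonoidHom.range_eq_map, MonoidHom.range_eq_top.2 (QuotientGroup.mk'_surjective N)] at h2
  exact h2.symm

theorem jobQS : JobQS := by
  intro n F _ _ _ _ _ _ b
  have ns := FA.ns (n := n) (F := F)
  have hc : center (XU n F) = ⊥ :=
    eq_bot_iff.2 fun a ha => mem_bot.2 (ns.eq_one fun c => (mem_center_iff.1 ha c).symm)
  have hp : commutator (XU n F) = ⊤ := eq_top_iff.2 ns.perfect
  have := ns.simple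
  exact ⟨inferInstance, hp, FA.mult, by rw [hc, card_bot]; exact odd_one,
    fun N _ => (ns.normal N).imp_left fun h => h.le.trans bot_le, ns_of (perf_quot hp _)
      ((QuotientGroup.quotientMulEquivOfEq hc).trans QuotientGroup.quotientBot).isSimpleGroup⟩

theorem jobQL : JobQL := fun n F _ _ _ h =>
  ⟨inferInstance, SA.perfect (by omega), H21.sl_multCard (by omega) (by omega) (by omega),
    SA.odd_card_center, fun N _ => SA.normal_le_center_or (by omega) N,
    ns_of (perf_quot (SA.perfect (by omega)) _)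
      (H57.psl_isSimpleGroup_of_three_le (ι := Fin (n + 1)) (F := F) (by simp; omega))⟩

theorem jobQU : JobQU := by
  intro n K _ _ _ _ hp
  have := H67.UA.jobFQ n K
  have := Fintype.ofFinite K
  have := hp.five
  obtain ⟨P, e, -⟩ := H81.UAX.exists_iso (n := n) (K := K)
  have hperf := H81.UAX.perf_congr e H81.UAX.su_perf
  have hs := H59.isSimpleGroup_PSU (H81.UAX.hF (K := K)) (n := n + 1) (by omega) (by omega)
  have hs' : IsSimpleGroup (XU n K ⧸ center (XU n K)) := (H55.quotCenterCongr e).isSimpleGroup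
  refine ⟨inferInstance, hperf, (H21.multCard_congr e.symm).trans H81.UAX.su_mult, ?_,
    H81.UAX.nrm_of hperf, ns_of (perf_quot hperf _) hs'⟩
  rw [Nat.card_congr (centerCongr e).toEquiv, H59.card_center_SU H81.UAX.hF (by omega)]
  obtain ⟨f, f1, hf⟩ := FQ.pow2 (K := K)
  refine Odd.of_dvd_nat ?_ (Nat.gcd_dvd_right _ _)
  rw [hf]
  exact (Nat.even_pow.2 ⟨even_two, by omega⟩).add_one

end H69.SP3
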