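import Cfsg.Agent.H78.S2Kit

/-! STD-SP (row S3129), chapter II, slot `L2`: the homomorphism from `SL`. -/

set_option autoImplicit false
set_option linter.unusedSectionVars false

namespace H69.SP2

open H67.UA hiding Par
open H67.SP H78.S2
open H67.SA (SLn)
open H86.SPI (ok)
open Matrix Subgroup

universe u

variable {n : ℕ} {F : Type} [Field F] [StarRing F] [TrivialStar F] [CharP F 2] [Finite F]
  [p : Par n F]

theorem ne_rev {n : ℕ} (o : Odd n) (i : Fin (n + 1)) : i ≠ i.rev := fun h => by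
  obtain ⟨k, hk⟩ := o
  have := congrArg Fin.val h
  rw [Fin.val_rev] at this
  omega

theorem hf_ne {i j : Fin (n + 1)} (h : i ≠ j) (c : F) : hf (c • ev i : Vn n F) (ev j.rev) = 0 := by
  rw [hf_smul_left, hf_ev, if_neg (by simpa using h.symm), mul_zero]

theorem io_ss {i j : Fin (n + 1)} (h : i ≠ j) (c : F) :
    io n F (ss i j c) = H67.SA.x i j c * H67.SA.x j.rev i.rev c := Subtype.ext (by
  change mt (ss i j c) = _
  have k : op (ev j.rev : Vn n F) (ev i) = single j.rev i.rev 1 := by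
    rw [← op_ev, Fin.rev_rev]
  rw [mt_EE (ok (hf_ne h c) 0), mE, H67.SA.val_mul, H67.SA.x_coe h,
    H67.SA.x_coe (by simpa using h.symm), op_smul_left, op_smul_right, star_trivial, op_ev, k]
  simp only [add_mul, mul_add, one_mul, mul_one, smul_single, smul_eq_mul, zero_smul, add_zero]
  rw [single_mul_single_of_ne _ _ _ _ (ne_rev p.odd j), add_zero]
  abel)

theorem io_Tc (i : Fin (n + 1)) (c : F) : io n F (Tc c (ev i)) = H67.SA.x i i.rev c :=
  Subtype.ext (by
    change mt (Tc c (ev i)) = _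
    have k : op (ev i : Vn n F) (ev i) = single i i.rev 1 := by
      rw [← op_ev, Fin.rev_rev]
    rw [mt_EE (ok (hf_zero_left _) c), mE, H67.SA.x_coe (ne_rev p.odd i), k]
    simp)

theorem jobL2 : JobL2.{u} := by
  intro n F _ _ _ _ _ p G _ _ e t b c fx fy v y r tw st
  have h5 := p.five
  obtain ⟨Φ, hΦ⟩ := st.exists_hom (by omega)
  have hx : ∀ i j, i ≠ j → ∀ a, Φ (H67.SA.x i j a) = y (ev j.rev) (a • ev i) := fun i j h a => by
    rw [H67.SA.x_of_ne h, ← H57.xA_eq h, hΦ i j h]; rfl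
  have sw : ∀ i j, i ≠ j → ∀ a : F, Φ (H67.SA.x j.rev i.rev a) = y (a • ev i) (ev j.rev) :=
    fun i j h a => by
      rw [hx _ _ (by simpa using h.symm), Fin.rev_rev, r.sm]
      rw [hf_ev, if_neg (by simpa using h)]
  have tc : ∀ i a, Φ (io n F (Tc a (ev i))) = e (Tc a (ev i)) := fun i a => by
    rw [io_Tc, hx _ _ (ne_rev p.odd i), Fin.rev_rev, r.dep]
  have res : ∀ g, Φ (io n F g) = e g := fun g => by
    obtain ⟨k, hk⟩ := p.odd
    refine (fy.genL (k - 1) (by omega) ((Φ.comp (io n F)).eqLocus e) (fun i j a h => ?_)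
      (fun a => tc _ a) fun a => tc _ a).ge (mem_top g)
    have h' := (show Function.Injective (up (n := n) (m := k - 1) (by omega)) from
      fun a b h => Fin.ext (congrArg Fin.val h :)).ne h
    change Φ (io n F _) = _
    rw [io_ss h', map_mul, hx _ _ h', sw _ _ h', r.sw _ _ (hf_ne h' a), ← mul_assoc,
      r.toFam.sq (hf_ne h' a), one_mul]
  refine ⟨Φ, (H67.SA.normal_le_center_or (by omega) _).resolve_right fun k => ?_, res, fun s => ?_⟩
  · obtain ⟨a, ha⟩ := (FA.ns (n := n) (F := F)).exists_ne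
    exact ha (v.inj (by rw [← res, map_one]; exact k.ge (mem_top _)))
  · refine DFunLike.congr_fun (H67.SA.hom_ext (e := (MulAut.conj t).toMonoidHom.comp Φ)
      (e' := Φ.comp (tau n F).toMonoidHom) fun i j h a => ?_) s
    change t * Φ _ * t⁻¹ = Φ (tau n F _)
    rw [tau_x, star_trivial, hx _ _ h, sw _ _ h, tw _ _ (hf_ne h a)]

end H69.SP2
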