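import Cfsg.Agent.H69.Std4
import Cfsg.Agent.H69.HeKit

/-! Tower STD, row S1752: a standard subgroup `2.HS`; commuting conjugates of the central
involution. -/

set_option autoImplicit false
set_option linter.unusedSectionVars false

namespace H69.HS

open Cfsg Subgroup H14 H98 H1.Gold H69.Std

universe u

variable {G : Type u} [Group G] [Finite G] {L L' O : Subgroup G} {a b c f g k l s t u v x y : G}
  {M : Type*} [Group M] {N U : Subgroup M} {r r' : G → M} {m w z j i ω : M}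

/-- The facts on `M = HS:2`. -/
structure HF (N U : Subgroup M) (z j i ω : M) : Prop where
  two : ∀ a b : M, a ∈ N ∨ b ∈ N ∨ a * b ∈ N
  cls : ∀ m ∈ N, m * m = 1 → m = 1 ∨ IsConj z m ∨ IsConj j m
  out : ∀ m ∉ N, m * m = 1 → (∃ l ∈ N, IsConj z (l * m * l⁻¹ * m)) ∧
    ∃ l ∈ N, IsConj j (l * m * l⁻¹ * m)
  pf : ∀ x y : M, x * x = 1 → y * y = 1 → y ≠ 1 → x ∈ N ∨ y = z →
    (∀ c ∈ N, Commute c y → Commute (c * c) x) → x = 1 ∨ x = y
  bj : ∀ f, f * f = j → Bad N j f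
  bz : ∀ f, f * f = z → f = i ∨ f = i⁻¹ ∨ Bad N z f
  ii : i * i = z
  iN : i ∈ N
  zz : z * z = 1
  z1 : z ≠ 1
  jN : j ∈ N
  jU : j ∈ nor U
  ni : ∀ p, Commute p z → p * i * p⁻¹ = i ∨ p * i * p⁻¹ = i⁻¹
  c0 : ∃ h ∈ N, h * z * h⁻¹ * i * (h * z * h⁻¹)⁻¹ = i⁻¹ ∧ IsConj j (h * z * h⁻¹ * i)
  big : ∀ Q : Subgroup M, IsPGroup 2 Q → 512 ≤ Nat.card Q → ∀ m, (∀ q ∈ Q, Commute m q) →
    m ^ 4 = 1 ∧ (m * m = 1 → m = 1 ∨ IsConj z m)
  t0 : ∃ T ≤ N ⊓ cen1 z, IsPGroup 2 T ∧ 512 ≤ Nat.card T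
  syl : ∀ Q : Subgroup M, IsPGroup 2 Q → ∃ h ∈ N, cj h Q ≤ nor U
  UN : U ≤ N
  zU : z ∈ U
  tr : ∀ u ∈ U, u = 1 ∨ ∃ n ∈ N, n ∈ nor U ∧ n * z * n⁻¹ = u
  iU : i ∈ cen U
  sqA : ∀ a ∈ N, a ∈ cen U → a * a ∈ U ∧ (a * a = 1 → a ∈ U) ∧
    a ∈ closure {m | ∃ c ∈ N, Commute c i ∧ m = c * c}
  ωN : ω ∉ N
  ωU : ω ∈ cen U
  nω : ∀ n ∈ nor U, n * ω * n⁻¹ * ω⁻¹ ∈ U
  ka : ∃ κ ∈ N, κ ∈ nor U ∧ Commute κ z ∧ κ ^ 3 = 1 ∧ ∀ p ∈ cen U, p ∉ N →
    κ * κ * p * (κ * κ)⁻¹ * p⁻¹ ∈ U → p * ω⁻¹ ∈ U ∨ p * i * ω⁻¹ ∈ U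
  sqN : ∀ n ∈ N, n ∈ nor U → n ∈ closure {m | ∃ c ∈ N, c ∈ nor U ∧ m = c * c}

/-- The data in `G`. -/
structure Dt (L : Subgroup G) (t : G) (N : Subgroup M) (r : G → M) (z j : M) : Prop where
  e : EZ L t
  R : Rep L t N r
  l2 : ∀ m, IsConj z m → Lift L r m 1
  l4 : ∀ m, IsConj j m → Lift L r m t

protected theorem Dt.cj (h : Dt L t N r z j) (g : G) :
    Dt (cj g L) (g * t * g⁻¹) N (fun x => r (g⁻¹ * x * g)) z j :=
  ⟨h.e.cj g, h.R.cj g, fun m hm => by simpa using (h.l2 m hm).cj g, fun m hm => (h.l4 m hm).cj g⟩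

theorem Dt.conjM [N.Normal] (h : Dt L t N r z j) (w : M) :
    Dt L t N (fun x => w * r x * w⁻¹) z j :=
  ⟨h.e, h.R.conjM w, fun _ hm l hl e => h.l2 (r l) (isConj_of_conj (z := w) (e ▸ hm)) l hl rfl,
    fun _ hm l hl e => h.l4 (r l) (isConj_of_conj (z := w) (e ▸ hm)) l hl rfl⟩

theorem Dt.of_pair (h : Dt L t N r z j) (p : Pair L L' t s) : ∃ r', Dt L' s N r' z j := by
  obtain ⟨g, rfl, rfl⟩ := p.conj
  exact ⟨_, h.cj g⟩

/-- A pair in normal form. -/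
structure NP (L L' : Subgroup G) (t s : G) (N : Subgroup M) (r : G → M) (z j : M) : Prop where
  D : Dt L t N r z j
  p : Pair L L' t s
  rs : r s = z

/-- `O` consists of the elements of odd order of `C(L)`. -/
def OK (L O : Subgroup G) : Prop := ∀ x, x ∈ O ↔ x ∈ cen L ∧ Odd (orderOf x)

theorem OK.cj (h : OK L O) (g : G) : OK (cj g L) (cj g O) := fun x => by
  rw [mem_cj, h, mem_cen_cj, show g⁻¹ * x * g = g⁻¹ * x * g⁻¹⁻¹ by rw [inv_inv], orderOf_conj']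

theorem OK.eq {O' : Subgroup G} (h : OK L O) (h' : OK L O') : O = O' :=
  Subgroup.ext fun x => (h x).trans (h' x).symm

theorem OK.le (h : OK L O) : O ≤ cen L := fun x hx => ((h x).mp hx).1

theorem OK.eq_one (h : OK L O) (hx : x ∈ O) (h2 : x * x = 1) : x = 1 := by
  rw [← pow_odd_of_sq h2 ((h x).mp hx).2, pow_orderOf_eq_one]

theorem card_le_two {A : Type*} [Group A] {K : Subgroup A} (h : ∀ x ∈ K, ∀ y ∈ K, x ≠ 1 → y ≠ 1 → x = y) :
    Nat.card K ≤ 2 := by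
  have := Nat.card_le_card_of_injective (fun x : K => (x : A) = 1) fun x y e => Subtype.ext (by
    by_cases hx : (x : A) = 1
    · exact hx.trans (e.mp hx).symm
    · exact h _ x.2 _ y.2 hx fun hy => hx (e.mpr hy))
  simpa using this

/-- The homomorphism given by `r` on a subgroup. -/
def _root_.H69.Std.Rep.hom (R : Rep L t N r) (S : Subgroup G) (h : ∀ x ∈ S, Commute x t) :
    S →* M := MonoidHom.mk' (fun x => r x) fun x y => R.mul (h _ x.2) (h _ y.2)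

namespace HF

theorem normal (H : HF N U z j i ω) : N.Normal := normal_of_two H.two

theorem zN (H : HF N U z j i ω) : z ∈ N := H.ii ▸ mul_mem H.iN H.iN

theorem mem_z (H : HF N U z j i ω) (h : IsConj z m) : m ∈ N := by
  obtain ⟨c, rfl⟩ := isConj_iff.mp h
  exact H.normal.conj_mem _ H.zN c

theorem bad_inv (H : HF N U z j i ω) (hm : m ∈ N) (m2 : m * m = 1) (m1 : m ≠ 1) (h : w * w = 1) :
    w = 1 ∨ w = m ∨ Bad N m w := by
  refine or_iff_not_imp_left.mpr fun w1 => or_iff_not_imp_left.mpr fun e Y hY hw => ?_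
  exact (H.pf m w m2 h w1 (Or.inl hm) (hY.inv w hw h w1)).elim m1 fun e' => e e'.symm

theorem inv_r (H : HF N U z j i ω) (R : Rep L t N r) (p : Pair L L' t s) (hs : r s ∈ N)
    (hf : f ∈ cen L') (ht : Commute f t) (h : r f * r f = 1) : r f = 1 ∨ r f = r s :=
  (H.bad_inv hs (p.r_sq R) (p.r_ne R) h).imp_right fun e => e.resolve_right (p.not_bad R hf ht)

theorem uniq' (H : HF N U z j i ω) (R : Rep L t N r) (p : Pair L L' t s) (hs : r s ∈ N)
    (hf : f ∈ cen L') (ht : Commute f t) (h : f * f = 1) : f = 1 ∨ f = s := by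
  refine (H.inv_r R p hs hf ht (by rw [← R.mul ht ht, h, R.one])).imp
    (fun e => p.eq_one ((R.ker ht).mp e) hf h) fun e => mul_inv_eq_one.mp ?_
  refine p.eq_one ((R.eq_iff ht p.comm).mp e) (mul_mem hf (inv_mem p.e'.memK)) ?_
  rw [inv_eq_of_two p.e'.ord, (p.e'.commK hf).symm.mul_mul_mul_comm, h, p.e'.tt, one_mul]

theorem not_j (H : HF N U z j i ω) (D : Dt L t N r z j) (p : Pair L L' t s) :
    ¬ IsConj j (r s) := fun h => by
  have := H.normal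
  obtain ⟨c, hc⟩ := isConj_iff.mp h
  have hs : r s ∈ N := hc ▸ this.conj_mem _ H.jN c
  obtain ⟨f, hf, ht, h4, h2⟩ := p.exists_four' D.R hs (D.l4 _ h)
  have h3 := (H.inv_r D.R p hs (mul_mem hf hf) (ht.mul_left ht) (by
    rw [D.R.mul ht ht, ← h4, show 4 = 2 + 2 from rfl, pow_add, pow_two]))
  rw [D.R.mul ht ht] at h3
  refine p.not_bad D.R hf ht (Bad.of_conj (z := c⁻¹) ?_)
  rw [show c⁻¹ * r s * c⁻¹⁻¹ = j by rw [← hc]; group]
  exact H.bj _ (by rw [conj_mul, h3.resolve_left h2, ← hc]; group)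

theorem mem (H : HF N U z j i ω) (D : Dt L t N r z j) (p : Pair L L' t s) (hs : r s ∈ N) :
    s ∈ L ∧ IsConj z (r s) ∧ Uniq L t := by
  have h1 := ((H.cls _ hs (p.r_sq D.R)).resolve_left (p.r_ne D.R)).resolve_right (H.not_j D p)
  have h2 : ∀ y ∈ cen L, Commute y s → y * y = 1 → y = 1 ∨ y = t := fun y hy hc yy => by
    obtain ⟨T, k1, k2, φ, hφ, k3⟩ := p.exists_hom hy hc (n := 1) (by rw [pow_one, pow_two, yy])
    have k4 : ∀ x : T, x * x = 1 → x = 1 ∨ φ x = s := fun x hx =>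
      (H.uniq' D.R p hs (k3 x).1 (k3 x).2 (by rw [← map_mul, hx, map_one])).imp_left
        fun e => hφ (e.trans φ.map_one.symm)
    have k5 := (k4 ⟨t, k2⟩ (Subtype.ext p.e.tt)).resolve_left
      fun e => p.e.ne_one (congrArg Subtype.val e)
    exact (k4 ⟨y, k1⟩ (Subtype.ext yy)).imp (congrArg Subtype.val)
      fun e => congrArg Subtype.val (hφ (e.trans k5.symm))
  obtain ⟨k, hk, l, hl, e⟩ := D.R.inner p.e p.comm hs
  have hc := comm_of_cen hk hl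
  have h3 : l * l = 1 := D.l2 _ h1 l hl (by
    rw [e, D.R.mul (p.e.commK hk) (p.e.commL hl), (D.R.ker (p.e.commK hk)).mpr hk, one_mul])
  have h4 : s ∈ L := by
    rcases h2 k hk (e ▸ (Commute.refl k).mul_right hc) (by
      rw [← p.e'.tt, e, hc.symm.mul_mul_mul_comm, h3, mul_one]) with e1 | e1 <;> rw [e, e1]
    exacts [mul_mem (one_mem _) hl, mul_mem p.e.mem hl]
  exact ⟨h4, h1, fun y hy => h2 y hy (comm_of_cen hy h4)⟩

theorem exists_np (H : HF N U z j i ω) (D : Dt L t N r z j) (p : Pair L L' t s) (hs : r s ∈ N) :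
    ∃ r₂, NP L L' t s N r₂ z j := by
  have := H.normal
  obtain ⟨c, hc⟩ := isConj_iff.mp (H.mem D p hs).2.1
  exact ⟨_, D.conjM c⁻¹, p, by rw [← hc]; group⟩

theorem cj_b (H : HF N U z j i ω) (D : Dt L t N r z j) (hb : b ∈ L) (eb : r b = i)
    (hx : Commute x t) (h : Commute (r x) z) : x * b * x⁻¹ = b ∨ x * b * x⁻¹ = t * b ∨
      x * b * x⁻¹ = b⁻¹ ∨ x * b * x⁻¹ = t * b⁻¹ := by
  have h1 := D.R.conj hx (D.e.commL hb)
  rw [eb] at h1
  rw [← or_assoc]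
  exact (H.ni _ h).imp (fun e => D.R.eq_or D.e (D.e.conj_mem hx hb) hb (by rw [h1, e, eb]))
    fun e => D.R.eq_or D.e (D.e.conj_mem hx hb) (inv_mem hb) (by
      rw [h1, e, D.R.inv (D.e.commL hb), eb])

theorem r_bb (H : HF N U z j i ω) (D : Dt L t N r z j) (hb : b ∈ L) (eb : r b = i) :
    r (b * b) = z := by rw [D.R.mul (D.e.commL hb) (D.e.commL hb), eb, H.ii]

theorem comm_bb (H : HF N U z j i ω) (D : Dt L t N r z j) (hb : b ∈ L) (eb : r b = i)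
    (hx : Commute x t) (h : Commute (r x) z) : Commute x (b * b) := by
  have h1 : b⁻¹ * b⁻¹ = b * b := by
    rw [← mul_inv_rev]
    exact inv_eq_of_mul_eq_one_left (D.l2 z (IsConj.refl _) _ (mul_mem hb hb) (H.r_bb D hb eb))
  have h2 := D.e.commL hb
  refine mul_inv_eq_iff_eq_mul.mp ?_
  rw [← conj_mul]
  rcases H.cj_b D hb eb hx h with e | e | e | e <;> rw [e]
  · rw [h2.mul_mul_mul_comm, D.e.tt, one_mul]
  · exact h1
  · rw [h2.inv_left.mul_mul_mul_comm, D.e.tt, one_mul, h1]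

theorem sq_comm_b (H : HF N U z j i ω) (D : Dt L t N r z j) (hb : b ∈ L) (eb : r b = i)
    (hx : Commute x t) (h : Commute (r x) z) : Commute (x * x) b := by
  have h1 : x * t * x⁻¹ = t := by rw [hx.eq, mul_inv_cancel_right]
  refine mul_inv_eq_iff_eq_mul.mp ?_
  rw [show x * x * b * (x * x)⁻¹ = x * (x * b * x⁻¹) * x⁻¹ by group]
  rcases H.cj_b D hb eb hx h with e | e | e | e <;> rw [e]
  · exact e
  · rw [← conj_mul, h1, e, ← mul_assoc, D.e.tt, one_mul]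
  · rw [← conj_inv, e, inv_inv]
  · rw [← conj_mul, h1, ← conj_inv, e, mul_inv_rev, inv_inv, ← mul_assoc, ← (D.e.commL hb).eq,
      mul_inv_cancel_right]

end HF

namespace NP

theorem rsN (H : HF N U z j i ω) (P : NP L L' t s N r z j) : r s ∈ N := P.rs ▸ H.zN

theorem sL (H : HF N U z j i ω) (P : NP L L' t s N r z j) : s ∈ L := (H.mem P.D P.p (P.rsN H)).1

theorem eq_bb (H : HF N U z j i ω) (P : NP L L' t s N r z j) (hb : b ∈ L) (eb : r b = i) :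
    s = b * b ∨ s = t * (b * b) :=
  P.D.R.eq_or P.D.e (P.sL H) (mul_mem hb hb) (P.rs.trans (H.r_bb P.D hb eb).symm)

theorem comm_s (H : HF N U z j i ω) (P : NP L L' t s N r z j) (hx : Commute x t)
    (h : Commute (r x) z) : Commute x s := by
  obtain ⟨b, hb, eb⟩ := P.D.R.sur H.iN
  have := H.comm_bb P.D hb eb hx h
  rcases P.eq_bb H hb eb with e | e <;> rw [e]
  exacts [this, hx.mul_right this]

theorem exists_v (H : HF N U z j i ω) (P : NP L L' t s N r z j) :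
    ∃ v ∈ L, IsConj s v ∧ v * v = 1 ∧ Commute v s ∧ r v * i * (r v)⁻¹ = i⁻¹ ∧
      ∀ b ∈ L, r b = i → v * b * (v * b) = t := by
  obtain ⟨h, hN, h1, h2⟩ := H.c0
  obtain ⟨l, hl, rfl⟩ := P.D.R.sur hN
  have hv : l * s * l⁻¹ ∈ L := mul_mem (mul_mem hl (P.sL H)) (inv_mem hl)
  have c := P.D.e.commL hv
  rw [← P.rs, ← P.D.R.conj (P.D.e.commL hl) P.p.comm] at h1 h2
  refine ⟨_, hv, isConj_iff.mpr ⟨l, rfl⟩, by rw [conj_mul, P.p.e'.tt]; group,
    P.comm_s H c (mul_inv_eq_iff_eq_mul.mp ?_), h1, fun b hb eb => P.D.l4 _ h2 _ (mul_mem hv hb)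
      (by rw [P.D.R.mul c (P.D.e.commL hb), eb])⟩
  rw [← H.ii, ← conj_mul, h1, ← mul_inv_rev, H.ii]
  exact inv_eq_of_mul_eq_one_left H.zz

theorem r_four (H : HF N U z j i ω) (P : NP L L' t s N r z j) (hf : f ∈ cen L') (ht : Commute f t)
    (h : r f * r f = z) : r f = i ∨ r f = i⁻¹ :=
  (H.bz _ h).imp_right fun e => e.resolve_right (P.rs ▸ P.p.not_bad P.D.R hf ht)

theorem no4 (H : HF N U z j i ω) (P : NP L L' t s N r z j) (hf : f ∈ cen L') (hl : f ∈ L) :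
    f * f ≠ s := fun h => by
  obtain ⟨v, -, -, v2, vs, -, h1⟩ := P.exists_v H
  have k : ∀ b ∈ cen L', b ∈ L → r b ≠ i := fun b hb hl e => P.p.symm.not_memK (by
    rw [← h1 b hl e, ← mul_assoc]
    nth_rewrite 2 [eq_inv_of_mul_eq_one_left v2]
    exact mul_mem (P.p.e'.conj_memK vs hb) hb)
  have c := P.D.e.commL hl
  rcases P.r_four H hf c (by rw [← P.D.R.mul c c, h, P.rs]) with e | e
  · exact k f hf hl e
  · exact k _ (inv_mem hf) (inv_mem hl) (by rw [P.D.R.inv c, e, inv_inv])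

theorem no2 (H : HF N U z j i ω) (P : NP L L' t s N r z j) (hf : f ∈ cen L') (hl : f ∈ L) {n : ℕ}
    (h : f ^ 2 ^ n = 1) : f = 1 ∨ f = s := by
  induction n generalizing f with
  | zero => exact Or.inl (by simpa using h)
  | succ n ih =>
    exact H.uniq' P.D.R P.p (P.rsN H) hf (P.D.e.commL hl) ((ih (mul_mem hf hf) (mul_mem hl hl)
      (by rw [← pow_two, ← pow_mul, ← pow_succ', h])).resolve_right (P.no4 H hf hl))

theorem big_r (H : HF N U z j i ω) (P : NP L L' t s N r z j) (R' : Rep L' s N r')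
    (hx : x ∈ cen L) : r' x ^ 4 = 1 ∧ (r' x * r' x = 1 → r' x = 1 ∨ IsConj z (r' x)) := by
  obtain ⟨T, hT, h2, hc⟩ := H.t0
  have e := P.D.e
  let S : Subgroup G := (T.comap (P.D.R.hom L fun _ => e.commL)).map L.subtype
  have hS : ∀ {l}, l ∈ S ↔ l ∈ L ∧ r l ∈ T := fun {l} =>
    ⟨by rintro ⟨l, h, rfl⟩; exact ⟨l.2, h⟩, fun h => ⟨⟨l, h.1⟩, h.2, rfl⟩⟩
  have S2 : ∀ l ∈ S, ∃ n : ℕ, l ^ 2 ^ n = 1 := fun l hl => by
    obtain ⟨n, hn⟩ := isPGroup_iff_forall.mp h2 _ (hS.mp hl).2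
    have c := e.commL (hS.mp hl).1
    refine ⟨n + 1, ?_⟩
    rw [pow_succ, pow_mul, pow_two]
    rcases (e.zc _ (pow_mem (hS.mp hl).1 _)).mp ((P.D.R.ker (c.pow_left _)).mp
      (by rw [P.D.R.pow c, hn])) with e1 | e1 <;> rw [e1]
    exacts [one_mul 1, e.tt]
  have cs : ∀ l ∈ S, Commute l s := fun l hl =>
    P.comm_s H (e.commL (hS.mp hl).1) (mem_cen1.mp (hT (hS.mp hl).2).2)
  let ρ := P.D.R.hom S fun l hl => e.commL (hS.mp hl).1
  let φ := R'.hom S cs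
  have a1 := ρ.ker.card_mul_index
  have a2 := φ.ker.card_mul_index
  rw [index_ker] at a1 a2
  have a3 : Nat.card T ≤ Nat.card ρ.range := by
    have : Finite ρ.range := Finite.of_surjective _ ρ.rangeRestrict_surjective
    refine card_le_of_le fun m hm => ?_
    obtain ⟨l, hl, rfl⟩ := P.D.R.sur (hT hm).1
    exact ⟨⟨l, hS.mpr ⟨hl, hm⟩⟩, rfl⟩
  have rt : r t = 1 := (P.D.R.ker (Commute.refl t)).mpr e.memK
  have a4 : 2 ≤ Nat.card ρ.ker := by
    have : Nontrivial ρ.ker := ⟨⟨⟨⟨t, hS.mpr ⟨e.mem, rt ▸ one_mem _⟩⟩, rt⟩, 1,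
      fun h => e.ne_one (congrArg (fun x => x.1.1) h)⟩⟩
    exact Finite.one_lt_card
  have a5 : Nat.card φ.ker ≤ 2 := card_le_two fun x hx y hy x1 y1 => by
    have k : ∀ x ∈ φ.ker, x ≠ 1 → (x : G) = s := fun x hx x1 =>
      let ⟨_, hn⟩ := S2 x x.2
      (P.no2 H ((R'.ker (cs x x.2)).mp hx) (hS.mp x.2).1 hn).resolve_left
        fun h => x1 (Subtype.ext h)
    exact Subtype.ext ((k x hx x1).trans (k y hy y1).symm)
  refine H.big φ.range ((isPGroup_iff_forall.mpr S2).of_surjective _ φ.rangeRestrict_surjective)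
    (by nlinarith) _ ?_
  rintro _ ⟨l, rfl⟩
  exact R'.commute (comm_of_cen hx (P.sL H)) (cs l l.2) (comm_of_cen hx (hS.mp l.2).1)

theorem inner' (H : HF N U z j i ω) (P : NP L L' t s N r z j) (R' : Rep L' s N r') : r' t ∈ N :=
  H.mem_z (((P.big_r H R' P.D.e.memK).2 (P.p.symm.r_sq R')).resolve_left (P.p.symm.r_ne R'))

theorem symm (H : HF N U z j i ω) (P : NP L L' t s N r z j) : ∃ r', NP L' L s t N r' z j :=
  let ⟨_, D'⟩ := P.D.of_pair P.p
  H.exists_np D' P.p.symm (P.inner' H D'.R)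

theorem tL (H : HF N U z j i ω) (P : NP L L' t s N r z j) : t ∈ L' :=
  let ⟨_, P'⟩ := P.symm H
  P'.sL H

theorem ok (H : HF N U z j i ω) (P : NP L L' t s N r z j) : OK L (cen L ⊓ cen L') := fun x => by
  refine ⟨fun h => ⟨h.1, P.p.odd h.1 h.2⟩, fun h => ⟨h.1, ?_⟩⟩
  obtain ⟨_, P'⟩ := P.symm H
  have c := comm_of_cen h.1 (P.sL H)
  obtain ⟨n, hn⟩ := exists_pow_eq_self_of_coprime (x := x) (n := 2 ^ 2)
    (Nat.Coprime.pow_left 2 (Nat.coprime_two_left.mpr h.2))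
  rw [← hn]
  exact pow_mem ((P'.D.R.ker (c.pow_left _)).mp (by
    rw [P'.D.R.pow c]; exact (P.big_r H P'.D.R h.1).1)) n

theorem ok' (H : HF N U z j i ω) (P : NP L L' t s N r z j) : OK L' (cen L ⊓ cen L') :=
  let ⟨_, P'⟩ := P.symm H
  inf_comm (cen L') (cen L) ▸ P'.ok H

theorem eq_tbb (H : HF N U z j i ω) (P : NP L L' t s N r z j) (hb : b ∈ L) (eb : r b = i) :
    s = t * (b * b) := by
  refine (P.eq_bb H hb eb).resolve_left fun e => ?_
  obtain ⟨r', P'⟩ := P.symm H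
  have c : Commute b s := e ▸ (Commute.refl b).mul_right (Commute.refl b)
  have ct := P.D.e.commL hb
  rcases H.pf (r' b) z (by rw [← P'.D.R.mul c c, ← e, P'.D.R.ker (Commute.refl s)]; exact P.p.e'.memK)
    H.zz H.z1 (Or.inr rfl) (fun m hm hc => by
      obtain ⟨w, hw, rfl⟩ := P'.D.R.sur hm
      have c1 := P'.D.e.commL hw
      have c2 := P'.comm_s H c1 hc
      rw [← P'.D.R.mul c1 c1]
      exact P'.D.R.commute (c1.mul_left c1) c (H.sq_comm_b P.D hb eb c2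
        (P.rs ▸ P.D.R.commute c2 P.p.comm c1))) with e1 | e1
  · exact P.no4 H ((P'.D.R.ker c).mp e1) hb e.symm
  · refine P.no4 H ((P'.D.R.eq_iff c P.p.comm.symm).mp (e1.trans P'.rs.symm))
      (mul_mem hb (inv_mem P.D.e.mem)) ?_
    rw [inv_eq_of_two P.D.e.ord, ct.symm.mul_mul_mul_comm, P.D.e.tt, mul_one, e]

/-- The squares of the elements over `i` are not conjugate to `t`. -/
theorem _root_.H69.HS.HF.nc_bb (H : HF N U z j i ω) (D : Dt L t N r z j) (hb : b ∈ L)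
    (eb : r b = i) : ¬ IsConj t (b * b) := fun h => by
  obtain ⟨g, hg⟩ := isConj_iff.mp h
  have h1 := H.r_bb D hb eb
  have P : NP L (cj g L) t (g * t * g⁻¹) N r z j := ⟨D, D.e.pair
    (hg ▸ D.e.commL (mul_mem hb hb)) fun e => H.z1 (by
      rw [← h1, ← hg, e, D.R.ker (Commute.refl t)]; exact D.e.memK), hg ▸ h1⟩
  exact D.e.ne_one (mul_eq_right.mp (hg.symm.trans (P.eq_tbb H hb eb)).symm)

theorem nc (H : HF N U z j i ω) (P : NP L L' t s N r z j) : ¬ IsConj t (t * s) := by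
  obtain ⟨b, hb, eb⟩ := P.D.R.sur H.iN
  rw [P.eq_tbb H hb eb, ← mul_assoc, P.D.e.tt, one_mul]
  exact H.nc_bb P.D hb eb

theorem kval (H : HF N U z j i ω) (P : NP L L' t s N r z j) (hf : f ∈ cen L') :
    r f = 1 ∨ r f = z ∨ (r f * r f = z ∧ (r f = i ∨ r f = i⁻¹)) := by
  obtain ⟨_, P'⟩ := P.symm H
  have c := comm_of_cen hf (P.tL H)
  have h1 := H.inv_r P.D.R P.p (P.rsN H) (mul_mem hf hf) (c.mul_left c) (by
    rw [P.D.R.mul c c, ← (P'.big_r H P.D.R hf).1, show 4 = 2 + 2 from rfl, pow_add, pow_two])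
  rw [P.D.R.mul c c, P.rs] at h1
  rcases h1 with e | e
  · exact (H.inv_r P.D.R P.p (P.rsN H) hf c e).imp_right fun e => Or.inl (e.trans P.rs)
  · exact Or.inr (Or.inr ⟨e, P.r_four H hf c e⟩)

end NP

/-- The structure of `C(L)`. -/
structure KS (L O : Subgroup G) (t : G) (N : Subgroup M) (r : G → M) : Prop where
  ok : OK L O
  uniq : Uniq L t
  k1 : ∀ k ∈ cen L, k ∈ O ∨ t * k ∈ O ∨ t * (k * k) ∈ O
  k3 : ∀ k ∈ cen L, k * k = t → ∀ x, Commute x t →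
    (r x ∈ N → x * k * x⁻¹ * k⁻¹ ∈ O) ∧ (r x ∉ N → t * (x * k * x⁻¹ * k⁻¹) ∈ O)
  out : ∃ g x, cj g O = O ∧ x ∈ cj g L ∧ Commute x t ∧ r x ∉ N

theorem HF.inner (H : HF N U z j i ω) (D : Dt L t N r z j) (p : Pair L L' t s) (hs : r s ∈ N) :
    s ∈ L ∧ t ∈ L' ∧ ¬ IsConj t (t * s) ∧ (OK L O → OK L' O) :=
  let ⟨_, P⟩ := H.exists_np D p hs
  ⟨P.sL H, P.tL H, P.nc H, fun h => h.eq (P.ok H) ▸ P.ok' H⟩

theorem NP.ks (H : HF N U z j i ω) (P : NP L L' t s N r z j) (D' : Dt L' s N r' z j) :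
    KS L' (cen L ⊓ cen L') s N r' := by
  have R := P.D.R
  have e' := P.p.e'
  have ct : ∀ {f}, f ∈ cen L' → Commute f t := fun hf => comm_of_cen hf (P.tL H)
  have o1 : ∀ {f}, f ∈ cen L' → r f = 1 → f ∈ cen L ⊓ cen L' := fun hf h =>
    ⟨(R.ker (ct hf)).mp h, hf⟩
  have o2 : ∀ {f}, f ∈ cen L' → r f = z → s * f ∈ cen L ⊓ cen L' := fun hf h =>
    o1 (mul_mem e'.memK hf) (by rw [R.mul P.p.comm (ct hf), h, P.rs, H.zz])
  obtain ⟨v, hv, v0, v2, vs, v1, h1⟩ := P.exists_v H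
  have vt := P.D.e.commL hv
  have vN : r' v ∉ N := fun h => by
    obtain ⟨g, hg⟩ := isConj_iff.mp v0
    obtain ⟨b, hb, eb⟩ := R.sur H.iN
    refine (H.inner (O := ⊥) D' (e'.pair (g := g) (hg ▸ vs) fun e => ?_) (hg ▸ h)).2.2.1 ?_
    · rw [← hg, e, P.rs, ← H.ii, mul_inv_eq_iff_eq_mul, inv_mul_cancel_left, mul_eq_right, H.ii] at v1
      exact H.z1 v1
    · refine v0.trans (isConj_iff.mpr ⟨b⁻¹, ?_⟩)
      rw [hg, ← vs.eq, P.eq_tbb H hb eb]
      calc b⁻¹ * v * b⁻¹⁻¹ = b⁻¹ * v * (t * t) * b := by rw [P.D.e.tt]; group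
        _ = b⁻¹ * v * (v * b * (v * b)) * t * b := by rw [h1 b hb eb]; group
        _ = b⁻¹ * (v * v) * b * v * (b * t) * b := by group
        _ = _ := by rw [v2, (P.D.e.commL hb).eq]; group
  have hin : ∀ k ∈ cen L', ∀ x, Commute x s → r' x ∈ N → r (x * k * x⁻¹) = r k ∨ r k * r k ≠ z :=
    fun k hk x hx h => or_iff_not_imp_right.mpr fun hz => by
      obtain ⟨a, ha, l, hl, rfl⟩ := D'.R.inner e' hx h
      rw [show a * l * k * (a * l)⁻¹ = a * (l * k * l⁻¹) * a⁻¹ by group,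
        ← (comm_of_cen hk hl).eq, mul_inv_cancel_right, R.conj (ct ha) (ct hk),
        mul_inv_eq_iff_eq_mul]
      have c : ∀ {f}, f ∈ cen L' → Commute i (r f) := fun hf => by
        rcases P.kval H hf with e | e | ⟨-, e | e⟩ <;> rw [e]
        exacts [Commute.one_right _, H.ii ▸ (Commute.refl i).mul_right (Commute.refl i),
          (Commute.refl i).inv_right]
      rcases P.r_four H hk (ct hk) (not_not.mp hz) with e | e <;> rw [e]
      exacts [(c ha).symm, (c ha).inv_left.symm]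
  refine ⟨P.ok' H, (H.mem D' P.p.symm (P.inner' H D'.R)).2.2, fun k hk => ?_,
    fun k hk kk x hx => ?_, ?_⟩
  · exact (P.kval H hk).imp (o1 hk) (Or.imp (o2 hk) fun e => o2 (mul_mem hk hk)
      (by rw [R.mul (ct hk) (ct hk), e.1]))
  · have hz : r k * r k = z := by rw [← R.mul (ct hk) (ct hk), kk, P.rs]
    have k1 := e'.conj_memK hx hk
    refine ⟨fun h => o1 (mul_mem k1 (inv_mem hk)) ?_, fun h => o2 (mul_mem k1 (inv_mem hk)) ?_⟩
    · rw [R.mul (ct k1) (ct hk).inv_left, R.inv (ct hk),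
        (hin k hk x hx h).resolve_right (not_not.mpr hz), mul_inv_cancel]
    · have k2 := (hin k hk (v * x) (vs.mul_left hx) (by
        rw [D'.R.mul vs hx]
        exact ((H.two _ _).resolve_left vN).resolve_left h)).resolve_right (not_not.mpr hz)
      rw [show v * x * k * (v * x)⁻¹ = v * (x * k * x⁻¹) * v⁻¹ by group, R.conj vt (ct k1)] at k2
      have v3 : r v * i⁻¹ * (r v)⁻¹ = i := by rw [← conj_inv, v1, inv_inv]
      have zi : z⁻¹ = z := inv_eq_of_mul_eq_one_left H.zz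
      rw [R.mul (ct k1) (ct hk).inv_left, R.inv (ct hk)]
      rcases P.r_four H hk (ct hk) hz with e | e <;> rw [e] at k2 ⊢
      · rw [← v3] at k2
        rw [mul_left_cancel (mul_right_cancel k2), ← mul_inv_rev, H.ii, zi]
      · rw [← v1] at k2
        rw [mul_left_cancel (mul_right_cancel k2), inv_inv, H.ii]
  · obtain ⟨g, h1, -⟩ := P.p.symm.conj
    exact ⟨g, v, (h1 ▸ (P.ok' H).cj g).eq (P.ok H), h1 ▸ hv, vs, vN⟩

theorem HF.exists_inner (H : HF N U z j i ω) (D : Dt L t N r z j) (hO : oddCore G = ⊥)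
    (hn : ¬ L.Normal) : ∃ L' s, Pair L L' t s ∧ r s ∈ N := by
  obtain ⟨g, p⟩ := D.e.exists_pair hO hn
  by_cases h0 : r (g * t * g⁻¹) ∈ N
  · exact ⟨_, _, p, h0⟩
  have key : ∀ u, IsConj t u → Commute u (g * t * g⁻¹) → u ≠ g * t * g⁻¹ → r (g⁻¹ * u * g) ∈ N →
      ∃ L' s, Pair L L' t s ∧ r s ∈ N := fun u h1 h2 h3 h4 => by
    obtain ⟨c, rfl⟩ := isConj_iff.mp h1
    refine ⟨_, _, D.e.pair (g := g⁻¹ * c) ?_ fun e => h3 ?_, by simpa [mul_assoc] using h4⟩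
    · simpa [mul_assoc] using h2.map (MulAut.conj g⁻¹)
    · conv_rhs => rw [← e]
      group
  have ts : IsConj t (g * t * g⁻¹) := isConj_iff.mpr ⟨g, rfl⟩
  have R' := (D.cj g).R
  generalize g * t * g⁻¹ = s at *
  have si : s⁻¹ = s := inv_eq_of_two p.e'.ord
  have k : ∀ l ∈ L, l * s * l⁻¹ * s ∈ L ∧ r (l * s * l⁻¹ * s) = r l * r s * (r l)⁻¹ * r s :=
    fun l hl => ⟨by
      rw [mul_assoc, mul_assoc, ← mul_assoc s]
      nth_rewrite 2 [← si]
      exact mul_mem hl (D.e.conj_mem p.comm (inv_mem hl)), by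
      have c := D.e.commL hl
      rw [D.R.mul ((c.mul_left p.comm).mul_left c.inv_left) p.comm, D.R.conj c p.comm]⟩
  obtain ⟨⟨_, h1, h2⟩, _, h3, h4⟩ := H.out _ h0 (p.r_sq D.R)
  obtain ⟨l, hl, rfl⟩ := D.R.sur h1
  obtain ⟨n, hn, rfl⟩ := D.R.sur h3
  have a1 := D.l2 _ h2 _ (k l hl).1 (k l hl).2
  have a2 := D.l4 _ h4 _ (k n hn).1 (k n hn).2
  have a3 : r (l * s * l⁻¹ * s) ≠ 1 := fun e => H.z1 (by
    rw [← (k l hl).2, e] at h2; exact isConj_one_left.mp h2)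
  have a4 : Commute (l * s * l⁻¹) s := by
    have := eq_inv_of_mul_eq_one_left a1
    rwa [mul_inv_rev, conj_inv, si] at this
  have a5 : IsConj s (t * s) := isConj_iff.mpr ⟨n * s * n⁻¹, by
    rw [← a2, conj_inv, si, ← mul_one (_ * (n * s * n⁻¹)), ← p.e'.tt]; group⟩
  have a6 : IsConj s (l * s * l⁻¹) := isConj_iff.mpr ⟨l, rfl⟩
  rcases H.two (r (g⁻¹ * t * g)) (r (g⁻¹ * (l * s * l⁻¹) * g)) with h | h | h
  · exact key t (IsConj.refl t) p.comm.symm p.ne.symm h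
  · exact key _ (ts.trans a6) a4 (fun e => a3 (by rw [e, p.e'.tt, D.R.one])) h
  · refine key (t * (l * s * l⁻¹)) (ts.trans (a5.trans (isConj_iff.mpr ⟨l, ?_⟩)))
      (p.comm.symm.mul_left a4) (fun e => a3 ?_) ((R'.mul p.comm.symm a4).symm ▸ h)
    · rw [← mul_assoc l, (D.e.commL hl).eq]; group
    · rw [eq_inv_mul_of_mul_eq e, mul_assoc, p.e'.tt, mul_one, D.R.ker (Commute.refl t).inv_left]
      exact inv_mem D.e.memK

theorem HF.exists_ks (H : HF N U z j i ω) (D : Dt L t N r z j) (p : Pair L L' t s)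
    (hs : r s ∈ N) : ∃ O, KS L O t N r :=
  let ⟨_, P⟩ := H.exists_np D p hs
  let ⟨_, P'⟩ := P.symm H
  ⟨_, P'.ks H D⟩

end H69.HS
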