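import Cfsg.Agent.H69.HS1
import Cfsg.Agent.H12.ExtTransfer
import Cfsg.Agent.H86.Misc

/-! Tower STD, row S1752: the centraliser of `2.HS` has no element of order four. -/

set_option autoImplicit false
set_option linter.unusedSectionVars false

namespace H69.HS

open Cfsg Subgroup H14 H98 H1.Gold H69.Std

universe u

variable {G : Type u} [Group G] [Finite G] {L L' O F S : Subgroup G}
  {a a' b c e f g h k l n s t u v x x' y : G}
  {M : Type*} [Group M] [Finite M] {N U : Subgroup M} {r : G → M} {m w z j i ω : M}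

theorem lift_closure (R : Rep L t N r) (e : EZ L t) {P : M → Prop} (ht : t ∈ S)
    (h : ∀ c ∈ L, P (r c) → c * c ∈ S) (ha : a ∈ L)
    (hr : r a ∈ closure {m | ∃ c ∈ N, P c ∧ m = c * c}) : a ∈ S := by
  have : closure {m | ∃ c ∈ N, P c ∧ m = c * c} ≤ (S.subgroupOf L).map (R.hom L fun _ => e.commL) :=
    (closure_le _).mpr (by
      rintro _ ⟨c, hc, h1, rfl⟩
      obtain ⟨l, hl, rfl⟩ := R.sur hc
      exact ⟨⟨l * l, mul_mem hl hl⟩, h l hl h1, R.mul (e.commL hl) (e.commL hl)⟩)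
  obtain ⟨l, h1, h2⟩ := this hr
  rcases R.eq_or e ha l.2 h2.symm with rfl | rfl
  exacts [h1, mul_mem ht h1]

theorem conj_nor {X : Type*} [Group X] {A : Subgroup X} {g k : X} (hg : g ∈ nor A) (hk : k ∈ cen A) :
    g * k * g⁻¹ ∈ cen A := conj_mem_of_mem_normalizer (normalizer_le_normalizer_centralizer A hg) hk

theorem HF.UU (H : HF N U z j i ω) : U ≤ cen U := fun u hu => by
  rcases H.tr u hu with rfl | ⟨n, -, hn, rfl⟩
  · exact one_mem _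
  · exact conj_nor hn (H.ii ▸ mul_mem H.iU H.iU)

/-- The subgroup `F` of order sixteen. -/
structure Cx (L L' O F : Subgroup G) (t s : G) (N U : Subgroup M) (r : G → M) (z j i ω : M) :
    Prop where
  H : HF N U z j i ω
  P : NP L L' t s N r z j
  K : KS L O t N r
  mem : ∀ {l}, l ∈ F ↔ l ∈ L ∧ r l ∈ U

namespace Cx

variable (C : Cx L L' O F t s N U r z j i ω)
include C

theorem ez : EZ L t := C.P.D.e
theorem R : Rep L t N r := C.P.D.R
theorem FL : F ≤ L := fun _ h => (C.mem.mp h).1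
theorem ct (h : a ∈ F) : Commute a t := C.ez.commL (C.FL h)
theorem rk (h : k ∈ cen L) : r k = 1 := (C.R.ker (C.ez.commK h)).mpr h
theorem tF : t ∈ F := C.mem.mpr ⟨C.ez.mem, C.rk C.ez.memK ▸ one_mem _⟩
theorem sF : s ∈ F := C.mem.mpr ⟨C.P.sL C.H, C.P.rs ▸ C.H.zU⟩
theorem KF : cen L ≤ cen F := centralizer_anti C.FL
theorem cc (h : x ∈ cen F) : Commute x t := comm_of_cen h C.tF
theorem ts : IsConj t s := let ⟨g, _, h⟩ := C.P.p.conj; isConj_iff.mpr ⟨g, h⟩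

theorem nor_of (hx : Commute x t) (h : r x ∈ nor U) : x ∈ nor F :=
  mem_normalizer_of_cj_le fun _ ⟨_, hl, e⟩ => e ▸ C.mem.mpr ⟨C.ez.conj_mem hx (C.FL hl),
    (C.R.conj hx (C.ct hl)).symm ▸ conj_mem_of_mem_normalizer h (C.mem.mp hl).2⟩

theorem r_nor (hx : Commute x t) (h : x ∈ nor F) : r x ∈ nor U :=
  mem_normalizer_of_cj_le fun _ ⟨u, hu, e⟩ => by
    obtain ⟨l, hl, rfl⟩ := C.R.sur (C.H.UN hu)
    rw [← e]
    exact (C.R.conj hx (C.ez.commL hl)).subst (motive := (· ∈ U))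
      (C.mem.mp (conj_mem_of_mem_normalizer h (C.mem.mpr ⟨hl, hu⟩))).2

theorem r_cen (h : x ∈ cen F) : r x ∈ cen U := fun u hu => by
  obtain ⟨l, hl, rfl⟩ := C.R.sur (C.H.UN hu)
  exact C.R.commute (C.ez.commL hl) (C.cc h) (h l (C.mem.mpr ⟨hl, hu⟩))

theorem rep (h : a ∈ F) : a = 1 ∨ a = t ∨ ∃ n ∈ L, n ∈ nor F ∧
    (a = n * s * n⁻¹ ∨ a = n * (t * s) * n⁻¹) := by
  rcases C.H.tr _ (C.mem.mp h).2 with e | ⟨n, h1, h2, e⟩
  · exact ((C.ez.zc _ (C.FL h)).mp ((C.R.ker (C.ct h)).mp e)).imp_right Or.inl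
  · obtain ⟨n, hn, rfl⟩ := C.R.sur h1
    have c := C.ez.commL hn
    refine Or.inr (Or.inr ⟨n, hn, C.nor_of c h2, (C.R.eq_or C.ez (C.FL h)
      (C.ez.conj_mem c (C.FL C.sF)) (by rw [C.R.conj c C.P.p.comm, C.P.rs, e])).imp_right
        fun e => ?_⟩)
    rw [e, ← mul_assoc n, c.eq]; group

theorem sq (h : a ∈ F) : a * a = 1 := by
  rcases C.rep h with rfl | rfl | ⟨n, -, -, rfl | rfl⟩
  · exact one_mul 1
  · exact C.ez.tt
  · rw [conj_mul, C.P.p.e'.tt]; group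
  · rw [conj_mul, C.P.p.comm.mul_mul_mul_comm, C.ez.tt, C.P.p.e'.tt]; group

theorem nc1 : ¬ IsConj t 1 := fun h => C.ez.ne_one (isConj_one_left.mp h)

theorem xor (h : a ∈ F) : IsConj t a ↔ ¬ IsConj t (t * a) := by
  have k : ∀ n ∈ L, t * (n * s * n⁻¹) = n * (t * s) * n⁻¹ := fun n hn => by
    rw [← mul_assoc n, (C.ez.commL hn).eq]; group
  have a1 : ∀ n, IsConj t (n * s * n⁻¹) := fun n => C.ts.trans (isConj_iff.mpr ⟨n, rfl⟩)
  have a2 : ∀ n, ¬ IsConj t (n * (t * s) * n⁻¹) := fun n h => C.P.nc C.H (isConj_of_conj h)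
  rcases C.rep h with rfl | rfl | ⟨n, hn, -, rfl | rfl⟩
  · exact iff_of_false C.nc1 (not_not.mpr (by rw [mul_one]))
  · exact iff_of_true (IsConj.refl _) (C.ez.tt ▸ C.nc1)
  · exact iff_of_true (a1 n) (k n hn ▸ a2 n)
  · refine iff_of_false (a2 n) (not_not.mpr ?_)
    rw [← k n hn, ← mul_assoc, C.ez.tt, one_mul]
    exact a1 n

theorem dF (h : a ∈ F) (hc : IsConj t a) : a = t ∨ ∃ n ∈ L, n ∈ nor F ∧ a = n * s * n⁻¹ := by
  rcases C.rep h with rfl | e | ⟨n, h1, h2, e | rfl⟩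
  exacts [(C.nc1 hc).elim, Or.inl e, Or.inr ⟨n, h1, h2, e⟩,
    (C.P.nc C.H (isConj_of_conj hc)).elim]

theorem cen_of (hx : Commute x t) (h : r x ∈ cen U) : x ∈ cen F := fun a ha => by
  rcases C.R.eq_or C.ez (C.ez.conj_mem hx (C.FL ha)) (C.FL ha) (by
    rw [C.R.conj hx (C.ct ha), ← h _ (C.mem.mp ha).2, mul_inv_cancel_right]) with e | e
  · exact (mul_inv_eq_iff_eq_mul.mp e).symm
  · have : IsConj a (t * a) := isConj_iff.mpr ⟨x, e⟩
    exact (iff_not_self ((C.xor ha).trans (not_congr ⟨fun h => h.trans this.symm,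
      fun h => h.trans this⟩))).elim

theorem FF : F ≤ cen F := fun _ h => C.cen_of (C.ct h) (C.H.UU (C.mem.mp h).2)

theorem of_sq (hl : e ∈ L) (h : e ∈ cen F) (h2 : r e * r e = 1) : e ∈ F :=
  C.mem.mpr ⟨hl, (C.H.sqA _ (C.R.map hl) (C.r_cen h)).2.1 h2⟩

theorem ne_t (hl : e ∈ L) (h : e ∈ cen F) : e * e ≠ t := fun h2 => C.ez.ne_one (by
  rw [← h2]
  exact C.sq (C.of_sq hl h (by rw [← C.R.mul (C.cc h) (C.cc h), h2, C.rk C.ez.memK])))

/-- The roots of the elements of `F`. -/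
theorem root (hn : n ∈ L) (h : n ∈ nor F) : ∃ β ∈ L, β ∈ cen F ∧ n * s * n⁻¹ = t * (β * β) ∧
    ∀ a ∈ L, a ∈ cen F → Commute a β := by
  obtain ⟨b, hb, eb⟩ := C.R.sur C.H.iN
  refine ⟨n * b * n⁻¹, C.ez.conj_mem (C.ez.commL hn) hb,
    conj_nor h (C.cen_of (C.ez.commL hb) (eb ▸ C.H.iU)), ?_, fun a h1 h2 => ?_⟩
  · rw [C.P.eq_tbb C.H hb eb, conj_mul, ← mul_assoc n, (C.ez.commL hn).eq]; group
  · have h3 := C.ez.conj_mem (C.ez.commL hn).inv_left h1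
    have : Commute (n⁻¹ * a * n⁻¹⁻¹) b := mem_cen1.mp (lift_closure C.R C.ez (S := cen1 b)
      (mem_cen1.mpr (C.ez.commL hb).symm)
      (fun c hc h => mem_cen1.mpr (C.R.comm_sq C.ez hc (C.ez.commL hb) (eb ▸ h))) h3
      (C.H.sqA _ (C.R.map h3) (C.r_cen (conj_nor (inv_mem h) h2))).2.2)
    simpa [mul_assoc] using this.map (MulAut.conj n)

theorem nc_sq (hl : e ∈ L) (h : e ∈ cen F) : ¬ IsConj t (e * e) := fun hc => by
  rcases C.dF (C.mem.mpr ⟨mul_mem hl hl, (C.R.mul (C.cc h) (C.cc h)).symm ▸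
    (C.H.sqA _ (C.R.map hl) (C.r_cen h)).1⟩) hc with e1 | ⟨n, h1, h2, e1⟩
  · exact C.ne_t hl h e1
  · obtain ⟨β, k1, k2, k3, k4⟩ := C.root h1 h2
    refine C.ne_t (mul_mem hl (inv_mem k1)) (mul_mem h (inv_mem k2)) ?_
    rw [(k4 e hl h).inv_right.symm.mul_mul_mul_comm, e1, k3]; group

theorem nd_rep (h : a ∈ F) (hc : ¬ IsConj t a) : ∃ β ∈ L, β ∈ cen F ∧ a = β * β ∧
    ∀ a ∈ L, a ∈ cen F → Commute a β := by
  rcases C.dF (mul_mem C.tF h) (not_not.mp (mt (C.xor h).mpr hc)) with e | ⟨n, h1, h2, e⟩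
  · exact ⟨1, one_mem _, one_mem _, by simpa using e, fun a _ _ => Commute.one_right a⟩
  · obtain ⟨β, k1, k2, k3, k4⟩ := C.root h1 h2
    exact ⟨β, k1, k2, mul_left_cancel (e.trans k3), k4⟩

theorem nd_mul (h : a ∈ F) (h' : a' ∈ F) (hc : ¬ IsConj t a) (hc' : ¬ IsConj t a') :
    ¬ IsConj t (a * a') := by
  obtain ⟨β, k1, k2, rfl, -⟩ := C.nd_rep h hc
  obtain ⟨γ, l1, l2, rfl, l4⟩ := C.nd_rep h' hc'
  rw [← (l4 β k1 k2).symm.mul_mul_mul_comm]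
  exact C.nc_sq (mul_mem k1 l1) (mul_mem k2 l2)

theorem le_of (h : ∀ a ∈ F, IsConj t a → a ∈ S) : F ≤ S := fun a ha => by
  by_cases hc : IsConj t a
  · exact h a ha hc
  · exact (mul_mem_cancel_left (h t C.tF (IsConj.refl t))).mp
      (h _ (mul_mem C.tF ha) (not_not.mp (mt (C.xor ha).mpr hc)))

theorem Lu (hu : g * t * g⁻¹ ∈ F) : F ≤ cj g L ∧ OK (cj g L) O := by
  by_cases e : g * t * g⁻¹ = t
  · rw [cj_eq_self (C.ez.nor_iff.mpr (mul_inv_eq_iff_eq_mul.mp e))]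
    exact ⟨C.FL, C.K.ok⟩
  obtain ⟨-, h1, -, h2⟩ := C.H.inner (O := O) C.P.D (C.ez.pair (C.ct hu) e) (C.R.map (C.FL hu))
  refine ⟨C.le_of fun a ha hc => ?_, h2 C.K.ok⟩
  have D := C.P.D.cj g
  by_cases e1 : a = g * t * g⁻¹
  · exact e1 ▸ D.e.mem
  obtain ⟨c, hc'⟩ := isConj_iff.mp ((isConj_iff.mpr ⟨g, rfl⟩ : IsConj t _).symm.trans hc)
  obtain ⟨β, -, k2, k3, -⟩ := C.nd_rep (mul_mem C.tF ha) ((C.xor ha).mp hc)
  have c1 := comm_of_cen k2 hu
  refine hc' ▸ (C.H.inner (O := O) D (D.e.pair (g := c) (hc' ▸ comm_of_cen (C.FF ha) hu)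
    (hc' ▸ e1)) ?_).1
  rw [hc', eq_inv_mul_of_mul_eq k3]
  have := D.R.mul (D.e.commL (inv_mem h1)) (c1.mul_left c1)
  have h4 := D.R.mul c1 c1
  rw [this, h4]
  exact mul_mem (D.R.map (inv_mem h1)) (sq_mem_of_two C.H.two _)

theorem norO (h : n ∈ nor F) : n ∈ nor O :=
  cj_eq_self_iff.mp ((C.K.ok.cj n).eq (C.Lu (conj_mem_of_mem_normalizer h C.tF)).2)

/-- Weak closure. -/
theorem wc (hk : k ∈ cen (cj g L)) (h2 : k * k = g * t * g⁻¹) (hn : k ∈ nor F) :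
    g * t * g⁻¹ ∈ F := by
  by_contra hu
  have e := C.ez.cj g
  let σ := MulAut.conj k
  have cF : ∀ {a}, a ∈ F → σ a ∈ F := conj_mem_of_mem_normalizer hn
  have cm : ∀ {a b}, a ∈ F → b ∈ F → Commute a b := fun ha hb => comm_of_cen (C.FF ha) hb
  have s0 : ∀ a, σ (σ a) = k * k * a * (k * k)⁻¹ := fun a => by
    simp only [σ, MulAut.conj_apply]; group
  have s1 : ∀ {a}, a ∈ F → σ (σ a) = a → σ a = a := fun {a} ha h => by
    have h3 : Commute a (g * t * g⁻¹) := by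
      rw [s0, h2] at h; exact (mul_inv_eq_iff_eq_mul.mp h).symm
    rcases C.K.uniq.cj g _ (show a * (σ a)⁻¹ ∈ _ by
      rw [show a * (σ a)⁻¹ = a * k * a⁻¹ * k⁻¹ by simp only [σ, MulAut.conj_apply]; group]
      exact mul_mem (e.conj_memK h3 hk) (inv_mem hk)) (C.sq (mul_mem ha (inv_mem (cF ha))))
      with e1 | e1
    · exact (mul_inv_eq_one.mp e1).symm
    · exact (hu (e1 ▸ mul_mem ha (inv_mem (cF ha)))).elim
  have s4 : ∀ a, σ (σ (σ (σ a))) = a := fun a => by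
    rw [s0, s0]
    calc _ = k * k * (k * k) * a * (k * k * (k * k))⁻¹ := by group
      _ = a := by rw [h2, e.tt]; group
  have s2 : k ∈ cen F := fun a ha => by
    have b1 := cF ha
    have b2 := cF b1
    have k1 := s1 (mul_mem ha b2) (by rw [map_mul, map_mul, s4, (cm ha b2).eq])
    have k2 := s1 (mul_mem ha b1) (by
      rw [map_mul] at k1
      rw [map_mul, map_mul, eq_inv_mul_of_mul_eq k1, inv_eq_of_mul_eq_one_left (C.sq b1),
        (cm b1 ha).left_comm, (cm b2 ha).left_comm, (cm b2 b1).left_comm, C.sq b2, mul_one])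
    rw [map_mul, (cm ha b1).eq] at k2
    exact (mul_inv_eq_iff_eq_mul.mp (s1 ha (mul_left_cancel k2))).symm
  have c := C.cc s2
  have h5 : g * t * g⁻¹ ∈ cen F := h2 ▸ mul_mem s2 s2
  have p := C.ez.pair (C.cc h5) fun e => hu (e.symm ▸ C.tF)
  exact hu (C.of_sq (C.H.inner (O := O) C.P.D p (by
    rw [← h2, C.R.mul c c]; exact sq_mem_of_two C.H.two _)).1 h5 (p.r_sq C.R))

theorem nor_of_cj (hk : k ∈ cen L) (h2 : k * k = t) (hS : IsSyl 2 S (cen F))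
    (hh : cj h S ≤ nor F) : h ∈ nor F := by
  refine mem_normalizer_of_cj_le (cj_le_iff.mpr (C.le_of fun a ha hc => ?_))
  obtain ⟨g, rfl⟩ := isConj_iff.mp hc
  have e := C.ez.cj g
  have k2 : g * k * g⁻¹ * (g * k * g⁻¹) = g * t * g⁻¹ := by rw [conj_mul, h2]
  have hk' : g * k * g⁻¹ ∈ cen (cj g L) := mem_cen_cj.mpr (by simpa [mul_assoc] using hk)
  obtain ⟨c, h3, h4⟩ := (hS.inf_of_le_normalizer (centralizer_anti (C.Lu ha).1) fun x hx =>
    e.norK_eq.ge (mem_cen1.mpr (comm_of_cen (hS.le hx) ha))).exists_cj_le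
    (isPGroup_zpowers (x := g * k * g⁻¹) (k := 2) (by
      rw [show 2 ^ 2 = 2 * 2 from rfl, pow_mul, pow_two (g * k * g⁻¹), k2, pow_two, e.tt]))
    (zpowers_le.mpr hk')
  have h5 := h4 (conj_mem_cj (mem_zpowers _))
  rw [mem_cj, inv_inv, show h * (g * t * g⁻¹) * h⁻¹ = h * g * t * (h * g)⁻¹ by group]
  refine C.wc (k := h * (c * (g * k * g⁻¹) * c⁻¹) * h⁻¹) ?_ ?_ (hh (conj_mem_cj h5.1))
  · rw [← cj_cj, cen, ← cj_centralizer]; exact conj_mem_cj h5.2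
  · rw [conj_mul, conj_mul, k2, (e.commK h3).eq]; group

theorem isSyl (hk : k ∈ cen L) (h2 : k * k = t) (hS : IsSyl 2 S (nor F)) : IsSyl 2 S ⊤ :=
  isSyl_of_isSyl_normalizer (hS.of_le (le_inf le_top le_normalizer) fun _ hh =>
    C.nor_of_cj hk h2 (hS.inf_of_le_normalizer (centralizer_le_normalizer _)
      (hS.le.trans (normalizer_le_normalizer_centralizer F)))
      ((cj_le_of_le inf_le_left hh.2).trans hS.le))

theorem trans (hk : k ∈ cen L) (h2 : k * k = t) :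
    ∃ n ∈ nor F, cj n L = L' ∧ n * t * n⁻¹ = s := by
  obtain ⟨g, h1, h3⟩ := C.P.p.conj
  obtain ⟨S, hS⟩ := exists_isSyl 2 (cen F)
  have h4 : ∀ x ∈ cj g⁻¹ S, Commute x t := fun x hx => by
    have := (comm_of_cen (hS.le (mem_cj.mp hx)) C.sF).map (MulAut.conj g⁻¹)
    simpa [← h3, mul_assoc] using this
  obtain ⟨c, hc, h5⟩ := C.H.syl (C.R.hom _ h4).range
    ((isPGroup_cj _ hS.isPGroup).of_surjective _ (MonoidHom.rangeRestrict_surjective _))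
  obtain ⟨c, hl, rfl⟩ := C.R.sur hc
  have c1 := C.ez.commL hl
  refine ⟨(c * g⁻¹)⁻¹, inv_mem (C.nor_of_cj hk h2 hS ?_), ?_, ?_⟩
  · rw [← cj_cj]
    rintro _ ⟨x, hx, rfl⟩
    exact C.nor_of ((c1.mul_left (h4 x hx)).mul_left c1.inv_left)
      ((C.R.conj c1 (h4 x hx)).symm ▸ h5 (conj_mem_cj ⟨⟨x, hx⟩, rfl⟩))
  · rw [mul_inv_rev, inv_inv, ← cj_cj, cj_eq_self_of_mem (inv_mem hl), h1]
  · rw [← h3, mul_inv_rev, inv_inv, mul_assoc g, c1.inv_left.eq]; group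

end Cx

/-- `x` acts on `L` like `ω`. -/
def Sg (t : G) (r : G → M) (U : Subgroup M) (ω : M) (x : G) : Prop := Commute x t ∧ r x * ω⁻¹ ∈ U

namespace Cx

variable (C : Cx L L' O F t s N U r z j i ω)
include C

theorem sg_mul (h : Sg t r U ω x) (ha : a ∈ F) : Sg t r U ω (a * x) :=
  ⟨(C.ct ha).mul_left h.1, by
    rw [C.R.mul (C.ct ha) h.1, mul_assoc]; exact mul_mem (C.mem.mp ha).2 h.2⟩

theorem sg_conj (h : Sg t r U ω x) (hc : Commute c t) (hn : c ∈ nor F) :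
    Sg t r U ω (c * x * c⁻¹) := ⟨(hc.mul_left h.1).mul_left hc.inv_left, by
  have h1 := C.r_nor hc hn
  rw [C.R.conj hc h.1, show r c * r x * (r c)⁻¹ * ω⁻¹ =
    r c * (r x * ω⁻¹) * (r c)⁻¹ * (r c * ω * (r c)⁻¹ * ω⁻¹) by group]
  exact mul_mem (conj_mem_of_mem_normalizer h1 h.2) (C.H.nω _ h1)⟩

theorem sg_r (h : Sg t r U ω x) (h' : Sg t r U ω x') : r (x' * x⁻¹) ∈ U := by
  rw [C.R.mul h'.1 h.1.inv_left, C.R.inv h.1,
    show r x' * (r x)⁻¹ = r x' * ω⁻¹ * (r x * ω⁻¹)⁻¹ by group]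
  exact mul_mem h'.2 (inv_mem h.2)

theorem sg_comm (h : Sg t r U ω x) (hl : n ∈ L) (hn : n ∈ nor F) : n * x * n⁻¹ * x⁻¹ ∈ F :=
  C.mem.mpr ⟨by
    rw [mul_assoc, mul_assoc, ← mul_assoc x]
    exact mul_mem hl (C.ez.conj_mem h.1 (inv_mem hl)),
    C.sg_r h (C.sg_conj h (C.ez.commL hl) hn)⟩

theorem sg_cen (h : Sg t r U ω x) : x ∈ cen F :=
  C.cen_of h.1 (by simpa using mul_mem (C.H.UU h.2) C.H.ωU)

theorem sg_out (h : Sg t r U ω x) : r x ∉ N := fun e =>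
  C.H.ωN (by simpa using mul_mem (inv_mem (C.H.UN h.2)) e)

theorem sg_dec (h : Sg t r U ω x) (h' : Sg t r U ω x') :
    ∃ a ∈ F, ∃ k ∈ cen L, x' * x⁻¹ = a * k ∧ x' * x⁻¹ * (x' * x⁻¹) = k * k := by
  have h1 := C.sg_r h h'
  obtain ⟨k, hk, l, hl, e⟩ := C.R.inner C.ez (h'.1.mul_left h.1.inv_left) (C.H.UN h1)
  rw [e, C.R.mul (C.ez.commK hk) (C.ez.commL hl), C.rk hk, one_mul] at h1
  have h2 := C.mem.mpr ⟨hl, h1⟩
  have c := comm_of_cen hk hl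
  exact ⟨l, h2, k, hk, e.trans c.eq, by rw [e, c.symm.mul_mul_mul_comm, C.sq h2, mul_one]⟩

theorem exists_sg (hk : k ∈ cen L) (h2 : k * k = t) (hn : n ∈ nor F) (h1 : cj n L = L')
    (h3 : n * t * n⁻¹ = s) : ∃ x, Sg t r U ω x ∧ Sg t r U ω (n⁻¹ * x * n) := by
  obtain ⟨x₀, h0⟩ : ∃ x, Sg t r U ω x := by
    obtain ⟨-, x, -, -, k1, k2⟩ := C.K.out
    obtain ⟨l, hl, e⟩ := C.R.sur (((C.H.two ω _).resolve_left C.H.ωN).resolve_left k2)
    exact ⟨l * x⁻¹, (C.ez.commL hl).mul_left k1.inv_left, by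
      rw [C.R.mul (C.ez.commL hl) k1.inv_left, C.R.inv k1, e]; simp⟩
  have x1 := conj_nor hn (C.sg_cen h0)
  have xt := C.cc x1
  have hf : ∀ {k}, k ∈ cen L → n * k * n⁻¹ ∈ cen L' := fun hk => by
    rw [← h1, cen, ← cj_centralizer]; exact conj_mem_cj hk
  have ft := comm_of_cen (hf hk) (C.P.tL C.H)
  have f4 := C.P.r_four C.H (hf hk) ft (by rw [← C.R.mul ft ft, conj_mul, h2, h3, C.P.rs])
  have rO : ∀ {o}, o ∈ O → r (n * o * n⁻¹) = 1 := fun ho =>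
    C.rk (C.K.ok.le (conj_mem_of_mem_normalizer (C.norO hn) ho))
  have xN : r (n * x₀ * n⁻¹) ∉ N := fun h => by
    have k1 := rO ((C.K.k3 k hk h2 x₀ h0.1).2 (C.sg_out h0))
    have k2 : Commute (r (n * x₀ * n⁻¹)) i := mem_cen1.mp ((closure_le (cen1 i)).mpr
      (by rintro _ ⟨c, -, hc, rfl⟩; exact mem_cen1.mpr (hc.mul_left hc))
      (C.H.sqA _ h (C.r_cen x1)).2.2)
    have k3 : Commute (r (n * x₀ * n⁻¹)) (r (n * k * n⁻¹)) := by
      rcases f4 with e | e <;> rw [e]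
      exacts [k2, k2.inv_right]
    have k4 := (xt.mul_left ft).mul_left xt.inv_left
    rw [show n * (t * (x₀ * k * x₀⁻¹ * k⁻¹)) * n⁻¹ = n * t * n⁻¹ * (n * x₀ * n⁻¹ * (n * k * n⁻¹) *
      (n * x₀ * n⁻¹)⁻¹ * (n * k * n⁻¹)⁻¹) by group, h3, C.R.mul C.P.p.comm (k4.mul_left ft.inv_left),
      C.R.mul k4 ft.inv_left, C.R.conj xt ft, C.R.inv ft, k3.eq, C.P.rs] at k1
    exact C.H.z1 (by simpa using k1)
  obtain ⟨_, κ1, κ2, κ3, κ4, κ5⟩ := C.H.ka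
  obtain ⟨l, hl, rfl⟩ := C.R.sur κ1
  have lt := C.ez.commL hl
  have ln := C.nor_of lt κ2
  have l0 : Commute (n⁻¹ * l * n) t := by
    simpa [← h3, mul_assoc] using (C.P.comm_s C.H lt κ3).map (MulAut.conj n⁻¹)
  obtain ⟨κ, hκ, q, hq, e⟩ := C.R.inner C.ez (l0.mul_left l0) (by
    rw [C.R.mul l0 l0]; exact sq_mem_of_two C.H.two _)
  have l1 : n⁻¹ * l * n ∈ nor F := mul_mem (mul_mem (inv_mem hn) ln) hn
  have qn : q ∈ nor F :=
    (mul_mem_cancel_left (centralizer_le_normalizer _ (C.KF hκ))).mp (e ▸ mul_mem l1 l1)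
  have l6 : (κ * q) ^ 3 = 1 := by
    have : (l * l) ^ 3 = 1 := by
      rw [(Commute.refl l).mul_pow]
      rcases (C.ez.zc _ (pow_mem hl 3)).mp ((C.R.ker (lt.pow_left 3)).mp
        (by rw [C.R.pow lt, κ4])) with e | e <;> rw [e]
      exacts [one_mul 1, C.ez.tt]
    rw [← e, show n⁻¹ * l * n * (n⁻¹ * l * n) = n⁻¹ * (l * l) * n⁻¹⁻¹ by group, conj_pow, this]
    group
  have od : ∀ {y : G}, y ∈ cen L → y ^ 3 = 1 → y ∈ O := fun hy h =>
    (C.K.ok _).mpr ⟨hy, Odd.of_dvd_nat (by decide) (orderOf_dvd_of_pow_eq_one h)⟩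
  have xO := C.norO (centralizer_le_normalizer _ (C.sg_cen h0))
  have κO : κ * (x₀ * κ⁻¹ * x₀⁻¹) ∈ O := by
    rw [(comm_of_cen hκ hq).mul_pow] at l6
    rcases (C.ez.zc _ (eq_inv_of_mul_eq_one_left l6 ▸ inv_mem (pow_mem hq 3))).mp (pow_mem hκ 3)
      with e | e
    · exact mul_mem (od hκ e) (conj_mem_of_mem_normalizer xO (inv_mem (od hκ e)))
    · have k1 := od (mul_mem hκ C.ez.memK) (by
        rw [(C.ez.commK hκ).mul_pow, e, ← pow_succ', show 3 + 1 = 2 * 2 from rfl, pow_mul, pow_two t,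
          C.ez.tt, one_pow])
      have := mul_mem k1 (conj_mem_of_mem_normalizer xO (inv_mem k1))
      rwa [show κ * t * (x₀ * (κ * t)⁻¹ * x₀⁻¹) =
        κ * (t * x₀ * t⁻¹ * κ⁻¹ * x₀⁻¹) by group, ← h0.1.eq, mul_inv_cancel_right] at this
  have k6 := κ5 _ (C.r_cen x1) xN (by
    have q1 := conj_mem_of_mem_normalizer hn (C.sg_comm h0 hq qn)
    have q2 := C.K.ok.le (conj_mem_of_mem_normalizer (C.norO hn) κO)
    have ll := lt.mul_left lt
    rw [← C.R.mul lt lt, ← C.R.conj ll xt, ← C.R.inv xt,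
      ← C.R.mul ((ll.mul_left xt).mul_left ll.inv_left) xt.inv_left,
      show l * l = n * (κ * q) * n⁻¹ by rw [← e]; group,
      show n * (κ * q) * n⁻¹ * (n * x₀ * n⁻¹) * (n * (κ * q) * n⁻¹)⁻¹ * (n * x₀ * n⁻¹)⁻¹ =
        n * (κ * (q * x₀ * q⁻¹ * x₀⁻¹) * (x₀ * κ⁻¹ * x₀⁻¹)) * n⁻¹ by group,
      (comm_of_cen hκ (C.FL (C.sg_comm h0 hq qn))).eq, mul_assoc _ κ, ← conj_mul,
      C.R.mul (C.ct q1) (C.ez.commK q2), C.rk q2, mul_one]
    exact (C.mem.mp q1).2)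
  rcases k6 with e6 | e6
  · exact ⟨_, ⟨xt, e6⟩, by simpa [mul_assoc] using h0⟩
  · have : ∃ k' ∈ cen L, Commute (n * k' * n⁻¹) t ∧ r (n * k' * n⁻¹) = i := by
      rcases f4 with e | e
      · exact ⟨k, hk, ft, e⟩
      · exact ⟨k⁻¹, inv_mem hk, by rw [← conj_inv]; exact ft.inv_left,
          by rw [← conj_inv, C.R.inv ft, e, inv_inv]⟩
    obtain ⟨k', a1, a2, a3⟩ := this
    refine ⟨n * x₀ * n⁻¹ * (n * k' * n⁻¹), ⟨xt.mul_left a2, by rwa [C.R.mul xt a2, a3]⟩, ?_⟩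
    rw [show n⁻¹ * (n * x₀ * n⁻¹ * (n * k' * n⁻¹)) * n = x₀ * k' by group]
    exact ⟨h0.1.mul_left (C.ez.commK a1), by
      rw [C.R.mul h0.1 (C.ez.commK a1), C.rk a1, mul_one]; exact h0.2⟩

theorem exists_xi (hk : k ∈ cen L) (h2 : k * k = t) : ∃ x, Sg t r U ω x ∧
    ∀ g ∈ nor F, ∃ a ∈ F, ∃ o ∈ O, g * x * g⁻¹ * x⁻¹ = a * o := by
  obtain ⟨n, hn, h1, h3⟩ := C.trans hk h2
  obtain ⟨x, x1, x2⟩ := C.exists_sg hk h2 hn h1 h3
  have all : ∀ g ∈ nor F, Sg t r U ω (g⁻¹ * x * g) := fun g hg => by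
    rcases C.dF (conj_mem_of_mem_normalizer hg C.tF) (isConj_iff.mpr ⟨g, rfl⟩) with e | ⟨l, l1, l2, e⟩
    · simpa using C.sg_conj x1 (Commute.inv_left (mul_inv_eq_iff_eq_mul.mp e)) (inv_mem hg)
    · have k1 := C.sg_conj (C.sg_mul x2 (conj_mem_of_mem_normalizer' hn
        (C.sg_comm x1 (inv_mem l1) (inv_mem l2)))) (c := g⁻¹ * l * n) (mul_inv_eq_iff_eq_mul.mp (by
          rw [show g⁻¹ * l * n * t * (g⁻¹ * l * n)⁻¹ = g⁻¹ * (l * (n * t * n⁻¹) * l⁻¹) * g by group,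
            h3, ← e]; group)) (mul_mem (mul_mem (inv_mem hg) l2) hn)
      convert k1 using 1
      group
  refine ⟨x, x1, fun g hg => ?_⟩
  obtain ⟨a, ha, κ, hκ, e1, e2⟩ := C.sg_dec x1 (all _ (inv_mem hg))
  obtain ⟨-, -, κ', hκ', -, e3⟩ := C.sg_dec x2 (all _ (mul_mem (inv_mem hg) hn))
  rw [inv_inv] at e1 e2
  rcases C.K.k1 κ hκ with h | h | h
  · exact ⟨a, ha, κ, h, e1⟩
  · exact ⟨a * t, mul_mem ha C.tF, _, h, by rw [e1, mul_assoc, ← mul_assoc t, C.ez.tt, one_mul]⟩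
  · refine (C.P.p.symm.not_memK ((mul_mem_cancel_right (y := t) ?_).mp
      (((C.H.inner C.P.D C.P.p (C.P.rsN C.H)).2.2.2 C.K.ok).le h))).elim
    rw [← e2, ← h1, mem_cen_cj]
    convert mul_mem hκ' hκ' using 1
    rw [← e3]; group

theorem thin [IsSimpleGroup G] (hG : ¬ IsMulCommutative G) : Thin L t := by
  intro k hk h4
  refine C.K.uniq k hk ((C.K.uniq _ (mul_mem hk hk) (by
    rw [← h4, show 4 = 2 + 2 from rfl, pow_add, pow_two])).resolve_right fun h2 => ?_)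
  obtain ⟨x, x1, hx⟩ := C.exists_xi hk h2
  have cO : ∀ {a o}, a ∈ F → o ∈ O → Commute o a := fun ha ho =>
    comm_of_cen (C.K.ok.le ho) (C.FL ha)
  let V : Subgroup G :=
    { carrier := {y | ∃ a ∈ F, ¬ IsConj t a ∧ ∃ o ∈ O, y = a * o}
      one_mem' := ⟨1, one_mem _, C.nc1, 1, one_mem _, (one_mul 1).symm⟩
      mul_mem' := by
        rintro _ _ ⟨a, h1, h2, o, h3, rfl⟩ ⟨b, k1, k2, q, k3, rfl⟩
        exact ⟨_, mul_mem h1 k1, C.nd_mul h1 k1 h2 k2, _, mul_mem h3 k3,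
          (cO k1 h3).mul_mul_mul_comm _ _⟩
      inv_mem' := by
        rintro _ ⟨a, h1, h2, o, h3, rfl⟩
        exact ⟨a, h1, h2, _, inv_mem h3, by
          rw [mul_inv_rev, inv_eq_of_mul_eq_one_left (C.sq h1), (cO h1 h3).inv_left.eq]⟩ }
  have Vc : ∀ {n y}, n ∈ nor F → y ∈ V → n * y * n⁻¹ ∈ V := by
    rintro n _ hn ⟨a, h1, h2, o, h3, rfl⟩
    exact ⟨_, conj_mem_of_mem_normalizer hn h1, fun h => h2 (isConj_of_conj h), _,
      conj_mem_of_mem_normalizer (C.norO hn) h3, conj_mul.symm⟩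
  have tV : t ∉ V := fun ⟨a, h1, h2, o, h3, e⟩ => h2 (by
    have := C.ez.tt
    rw [e, (cO h1 h3).mul_mul_mul_comm, C.sq h1, one_mul] at this
    rw [e, C.K.ok.eq_one h3 this, mul_one])
  have id1 : ∀ n m, n * m * x * (n * m)⁻¹ * x⁻¹ =
      n * (m * x * m⁻¹ * x⁻¹) * n⁻¹ * (n * x * n⁻¹ * x⁻¹) := fun n m => by group
  let D : Subgroup G :=
    { carrier := {n | n ∈ nor F ∧ n * x * n⁻¹ * x⁻¹ ∈ V}
      one_mem' := ⟨one_mem _, by simp⟩
      mul_mem' := fun {n m} h1 h2 => ⟨mul_mem h1.1 h2.1, id1 n m ▸ mul_mem (Vc h1.1 h2.2) h1.2⟩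
      inv_mem' := fun {n} h => ⟨inv_mem h.1, by
        convert Vc (inv_mem h.1) (inv_mem h.2) using 1; group⟩ }
  have two : ∀ {n m}, n ∈ nor F → m ∈ nor F → n ∉ D → m ∉ D → n * m ∈ D := by
    intro n m hn hm h1 h3
    obtain ⟨a, a1, o, a2, e1⟩ := hx n hn
    obtain ⟨b, b1, q, b2, e2⟩ := hx m hm
    have a3 : IsConj t a := by_contra fun h => h1 ⟨hn, a, a1, h, o, a2, e1⟩
    have b3 : IsConj t b := by_contra fun h => h3 ⟨hm, b, b1, h, q, b2, e2⟩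
    have b4 := conj_mem_of_mem_normalizer hn b1
    have b5 := conj_mem_of_mem_normalizer (C.norO hn) b2
    refine ⟨mul_mem hn hm, _, mul_mem b4 a1, ?_, _, mul_mem b5 a2, by
      rw [id1, e1, e2, ← conj_mul, (cO a1 b5).mul_mul_mul_comm]⟩
    have := C.nd_mul (mul_mem C.tF b4) (mul_mem C.tF a1)
      ((C.xor b4).mp (b3.trans (isConj_iff.mpr ⟨n, rfl⟩))) ((C.xor a1).mp a3)
    rwa [(C.ct b4).mul_mul_mul_comm, C.ez.tt, one_mul] at this
  have Dc : ∀ {n y}, n ∈ nor F → y ∈ D → n * y * n⁻¹ ∈ D := fun {n y} hn hy => by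
    by_cases h : n ∈ D
    · exact mul_mem (mul_mem h hy) (inv_mem h)
    · exact two (mul_mem hn hy.1) (inv_mem hn) (fun e => h ((mul_mem_cancel_right hy).mp e))
        fun e => h (inv_mem_iff.mp e)
  have kD : ∀ {k}, k ∈ cen L → k * k = t → k ∉ D := fun {k} hk h2 h => tV (by
    have := mul_mem (show _ ∈ V from ⟨1, one_mem _, C.nc1, _,
      (C.K.k3 k hk h2 x x1.1).2 (C.sg_out x1), (one_mul _).symm⟩) h.2
    convert this using 1
    group)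
  have LD : ∀ {l}, l ∈ L → l ∈ nor F → l ∈ D := fun hl hn => lift_closure C.R C.ez
    ⟨le_normalizer C.tF, by rw [← x1.1.eq]; simp⟩ (fun c hc h => by
      have := C.nor_of (C.ez.commL hc) h
      by_cases e : c ∈ D
      exacts [mul_mem e e, two this this e e]) hl
    (C.H.sqN _ (C.R.map hl) (C.r_nor (C.ez.commL hl) hn))
  obtain ⟨l, hl, el⟩ := C.R.sur C.H.jN
  have ll := C.P.D.l4 j (IsConj.refl _) l hl el
  have ln := C.nor_of (C.ez.commL hl) (el ▸ C.H.jU)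
  have kn : k ∈ nor F := centralizer_le_normalizer _ (C.KF hk)
  have kl := comm_of_cen hk hl
  have y2 : k * l * (k * l) = 1 := by rw [kl.symm.mul_mul_mul_comm, h2, ll, C.ez.tt]
  have ky : Commute k (k * l) := (Commute.refl k).mul_right kl
  have R2 : IsPGroup 2 (zpowers k ⊔ zpowers (k * l) : Subgroup G) :=
    isPGroup_sup_of_le_normalizer (isPGroup_zpowers (k := 2) h4)
      (isPGroup_zpowers (k := 1) (by rw [pow_one, pow_two, y2]))
      (le_normalizer_of_le_centralizer (by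
        rw [centralizer_zpowers]; exact zpowers_le.mpr (mem_cen1.mpr ky)))
  obtain ⟨S, hS, RS⟩ := exists_isSyl_le R2
    (sup_le (zpowers_le.mpr kn) (zpowers_le.mpr (mul_mem kn ln)))
  have y0 : k * l ∉ D := fun h => kD hk h2 ((mul_mem_cancel_right (LD hl ln)).mp h)
  refine H12.not_mem_res_of_extremal (D := D) (C.isSyl hk h2 hS)
    (commutator_le.mpr fun a ha b hb => ?_) y2 (RS (mem_sup_right (mem_zpowers _))) y0
    (mem_sup_right (mem_zpowers _)) R2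
    (fun s hs => mem_cen1.mp ((sup_le (zpowers_le.mpr (mem_cen1.mpr ky))
      (zpowers_le.mpr (mem_cen1.mpr rfl)) : _ ≤ cen1 (k * l)) hs)) (fun a ha => ?_)
    (by rw [res_top, H86.pResidual_eq_top_of_simple hG]; exact mem_top _)
  · rw [commutatorElement_def]
    by_cases h : b ∈ D
    · exact mul_mem (Dc (hS.le ha) h) (inv_mem h)
    · exact two (mul_mem (mul_mem (hS.le ha) (hS.le hb)) (inv_mem (hS.le ha))) (inv_mem (hS.le hb))
        (fun e => h (by simpa [mul_assoc] using Dc (inv_mem (hS.le ha)) e))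
        fun e => h (inv_mem_iff.mp e)
  · have a1 := hS.le (ha (conj_mem_cj (mem_sup_left (mem_zpowers k))))
    have a2 := hS.le (ha (conj_mem_cj (mem_sup_right (mem_zpowers (k * l)))))
    obtain ⟨g, hg, e⟩ : ∃ g ∈ nor F, g * (a * t * a⁻¹) * g⁻¹ = t := by
      rcases C.dF (C.wc (g := a) (mem_cen_cj.mpr (by simpa [mul_assoc] using hk))
        (by rw [conj_mul, h2]) a1) (isConj_iff.mpr ⟨a, rfl⟩) with e | ⟨q, -, q2, e⟩
      · exact ⟨1, one_mem _, by simpa using e⟩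
      · obtain ⟨n, hn, -, h3⟩ := C.trans hk h2
        exact ⟨(q * n)⁻¹, inv_mem (mul_mem q2 hn), by rw [e, ← h3]; group⟩
    have c : Commute (g * a) t := mul_inv_eq_iff_eq_mul.mp (by rw [← e]; nth_rewrite 1 [e]; group)
    refine two a2 (mul_mem kn ln) (fun h => kD (C.ez.conj_memK c hk)
      (by rw [conj_mul, h2, c.eq, mul_inv_cancel_right]) ?_) y0
    have a3 := Dc hg h
    rw [show g * (a * (k * l) * a⁻¹) * g⁻¹ = g * a * k * (g * a)⁻¹ * (g * a * l * (g * a)⁻¹) by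
      group] at a3
    refine (mul_mem_cancel_right (LD (C.ez.conj_mem c hl) ((mul_mem_cancel_left ?_).mp a3.1))).mp a3
    exact centralizer_le_normalizer _ (C.KF (C.ez.conj_memK c hk))

end Cx

theorem NP.thin [IsSimpleGroup G] (hG : ¬ IsMulCommutative G) (H : HF N U z j i ω)
    (P : NP L L' t s N r z j) (K : KS L O t N r) : Thin L t :=
  Cx.thin (F := (U.comap (P.D.R.hom L fun _ => P.D.e.commL)).map L.subtype) ⟨H, P, K,
    ⟨by rintro ⟨l, h, rfl⟩; exact ⟨l.2, h⟩, fun h => ⟨⟨_, h.1⟩, h.2, rfl⟩⟩⟩ hG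

end H69.HS
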