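import Cfsg.Agent.H69.HS2
import Cfsg.Agent.H56.HNG
import Cfsg.Agent.H71.Cover

/-! Tower STD, row S1752: the quotient by the odd core of `C(t)` is the Harada–Norton group. -/

set_option autoImplicit false
set_option linter.unusedSectionVars false

namespace H69.HS

open Cfsg Subgroup H14 H98 H1.Gold H69.Std H22.HN

universe u

section
variable {A Y : Type*} [Group A] [Finite A] [Group Y] {π : A →* Y} {a b : A}

/-- An epimorphism with kernel of odd order that is injective on involutions. -/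
structure OC (π : A →* Y) : Prop where
  sur : Function.Surjective π
  odd : ∀ a, π a = 1 → Odd (orderOf a)
  uq : ∀ {a b}, a * a = 1 → b * b = 1 → π a = π b → a = b

namespace OC

theorem lift (h : OC π) {y : Y} (hy : y * y = 1) : ∃ a, a * a = 1 ∧ π a = y := by
  have : Finite Y := Finite.of_surjective _ h.sur
  obtain ⟨a, rfl⟩ := h.sur y
  have := h.odd (a * a) (by rw [map_mul, hy])
  exact ⟨a ^ orderOf (a * a), by rw [← (Commute.refl a).mul_pow, pow_orderOf_eq_one],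
    by rw [map_pow, pow_odd_of_sq hy this]⟩

theorem conj (h : OC π) (ha : a * a = 1) (hb : b * b = 1) {c : A}
    (e : π c * π a * (π c)⁻¹ = π b) : c * a * c⁻¹ = b :=
  h.uq (by rw [conj_mul, ha]; group) hb (by rw [map_mul, map_mul, map_inv, e])

theorem comm (h : OC π) (ha : a * a = 1) (e : π b * π a = π a * π b) : b * a = a * b :=
  mul_inv_eq_iff_eq_mul.mp (h.conj ha ha (by rw [e, mul_inv_cancel_right]))

theorem isConj (h : OC π) (ha : a * a = 1) (hb : b * b = 1) (e : IsConj (π a) (π b)) :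
    IsConj a b := by
  obtain ⟨c, hc⟩ := isConj_iff.mp e
  obtain ⟨c, rfl⟩ := h.sur c
  exact isConj_iff.mpr ⟨c, h.conj ha hb hc⟩

theorem ord (h : OC π) (ha : orderOf a = 2) : orderOf (π a) = 2 :=
  orderOf_two_of_mul_self (by rw [← map_mul, mul_self_of_two ha, map_one]) fun e =>
    absurd (ha ▸ h.odd a e) (by decide)

theorem comp (h : OC π) {Y' : Type*} [Group Y'] (e : Y ≃* Y') : OC (e.toMonoidHom.comp π) :=
  ⟨e.surjective.comp h.sur, fun a ha => h.odd a (e.map_eq_one_iff.mp ha),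
    fun ha hb k => h.uq ha hb (e.injective k)⟩

end OC
end

theorem OC.factsG {A Y : Type} [Group A] [Finite A] [Group Y] {π : A →* Y} (h : OC π)
    {Z : Subgroup Y} {Ω : Set Y} {t : A} {z w q : Y} (F : FactsG Z Ω (π t) z w q)
    (tt : t * t = 1) : ∃ z' w' q', π z' = z ∧
      FactsG (Z.comap π) {a | a * a = 1 ∧ π a ∈ Ω} t z' w' q' := by
  have cs : ∀ {a b : Y}, a * a = 1 → IsConj a b → b * b = 1 := fun ha hb => by
    obtain ⟨c, rfl⟩ := isConj_iff.mp hb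
    rw [conj_mul, ha]; group
  have t2 := mul_self_of_two F.t2
  have z2 := mul_self_of_two F.z2
  have o2 : ∀ a ∈ Ω, a * a = 1 := fun a ha =>
    let ⟨m, _, e⟩ := (F.om a).mp ha
    cs t2 (isConj_iff.mpr ⟨m, e⟩)
  obtain ⟨z, zz, rfl⟩ := h.lift z2
  obtain ⟨w, ww, rfl⟩ := h.lift (o2 _ F.wΩ)
  obtain ⟨q, qq, rfl⟩ := h.lift (cs z2 F.q1)
  have ord : ∀ {a}, a * a = 1 → orderOf (π a) = 2 → orderOf a = 2 := fun ha e =>
    orderOf_two_of_mul_self ha fun e1 => by simp [e1] at e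
  have mc : ∀ {a b : A}, a * b = b * a → π a * π b = π b * π a := fun e => by
    rw [← map_mul, e, map_mul]
  have ms : ∀ {a b : A}, a * a = 1 → b * b = 1 → π a * π b = π b * π a → a * b * (a * b) = 1 :=
    fun ha hb e => by
      rw [(show Commute _ _ from h.comm hb e).symm.mul_mul_mul_comm, ha, hb, one_mul]
  have QZ : closure Ω ≤ Z := (closure_le _).mpr (H56.HNG.omZ F)
  obtain ⟨σ₀, hσ₀⟩ := H69.He.exists_section (π.subgroupComap (closure Ω))
    (π.subgroupComap_surjective_of_surjective _ h.sur)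
    (isPGroup_iff_forall.mpr fun x hx => ⟨2, by
      rw [show 2 ^ 2 = 2 * 2 from rfl, pow_mul, pow_two, pow_two]
      rcases F.sq x hx with e | e <;> rw [e]
      exacts [one_mul 1, z2]⟩)
    fun a h1 h2 => Subtype.ext (h.uq (congrArg Subtype.val h2) (one_mul 1)
      ((congrArg Subtype.val h1).trans π.map_one.symm))
  let σ := (Subgroup.subtype _).comp σ₀
  have hσ : ∀ x, π (σ x) = x := fun x => congrArg Subtype.val (hσ₀ x)
  have σi : ∀ {a} (x : closure Ω), a * a = 1 → π a = x → σ x = a := fun {a} x ha e =>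
    h.uq (by rw [← map_mul, show x * x = 1 from Subtype.ext (by
      show (x : Y) * x = 1; rw [← e, ← map_mul, ha, map_one]), map_one]) ha ((hσ x).trans e.symm)
  have hQ : closure {a | a * a = 1 ∧ π a ∈ Ω} = σ.range := by
    refine le_antisymm ((closure_le _).mpr fun a ha =>
      ⟨⟨_, subset_closure ha.2⟩, σi _ ha.1 rfl⟩) ?_
    rintro _ ⟨⟨x, hx⟩, rfl⟩
    induction hx using closure_induction with
    | mem x hx =>
      obtain ⟨a, ha, rfl⟩ := h.lift (o2 x hx)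
      rw [σi ⟨_, Subgroup.subset_closure hx⟩ ha rfl]
      exact Subgroup.subset_closure ⟨ha, hx⟩
    | one => exact σ.map_one.symm ▸ one_mem _
    | mul x y hx hy h1 h2 => exact σ.map_mul ⟨x, hx⟩ ⟨y, hy⟩ ▸ mul_mem h1 h2
    | inv x hx h1 => exact σ.map_inv ⟨x, hx⟩ ▸ inv_mem h1
  have σz := σi ⟨_, F.zQ⟩ zz rfl
  refine ⟨z, w, q, rfl, ord tt F.t2, ord zz F.z2, F.tZ, fun m hm => h.comm zz (F.Zz _ hm),
    fun y h1 h2 => F.cent _ (mc h1) (mc h2), fun a => ⟨fun ha => ?_, ?_⟩, ?_, fun y hy y2 => ?_,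
    fun y y2 h1 h2 => ?_, fun y y2 h1 => ?_, ?_, hQ ▸ ⟨_, σz⟩, ?_, ?_, ?_, ⟨ww, F.wΩ⟩,
    ⟨ms tt ww ?_, π.map_mul t w ▸ F.twΩ⟩, hQ ▸ ⟨_, σi ⟨_, F.qQ⟩ qq rfl⟩, fun e => F.qz (e ▸ rfl),
    h.isConj zz qq F.q1, h.isConj zz (ms qq zz (F.Zz _ (QZ F.qQ))) (π.map_mul q z ▸ F.q2)⟩
  · obtain ⟨m, hm, e⟩ := (F.om _).mp ha.2
    obtain ⟨m, rfl⟩ := h.sur m
    exact ⟨m, hm, h.conj tt ha.1 e⟩
  · rintro ⟨m, hm, rfl⟩
    exact ⟨by rw [conj_mul, tt]; group, (F.om _).mpr ⟨_, hm, by simp⟩⟩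
  · rw [← F.card]
    refine Set.ncard_congr (fun a _ => π a) (fun a ha => ha.2)
      (fun a b ha hb e => h.uq ha.1 hb.1 e) fun y hy => ?_
    obtain ⟨a, ha, rfl⟩ := h.lift (o2 y hy)
    exact ⟨a, ⟨ha, hy⟩, rfl⟩
  · obtain ⟨a, ha, e⟩ := F.fix _ hy (by rw [← map_mul, y2, map_one])
    obtain ⟨a, a2, rfl⟩ := h.lift (o2 a ha)
    exact ⟨a, ⟨a2, ha⟩, h.comm a2 e⟩
  · have yy := mul_self_of_two y2
    exact (F.pat _ (h.ord y2) (mc h1) (mc h2)).imp (fun e => ⟨yy, e⟩) (Or.imp (h.isConj zz yy)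
      fun e => h.isConj zz (ms yy zz (mc h2)) (π.map_mul y z ▸ e))
  · have yy := mul_self_of_two y2
    exact (F.cls _ (h.ord y2) (mc h1)).imp (h.isConj tt yy) (h.isConj zz yy)
  · rw [hQ, ← Nat.card_congr (MonoidHom.ofInjective (f := σ) fun x y e =>
      Subtype.ext (by rw [← hσ, e, hσ])).toEquiv]
    exact F.cardQ
  · rw [hQ]
    rintro _ ⟨x, rfl⟩
    rw [← map_mul, ← σz, ← σ.map_one]
    exact (F.sq _ x.2).imp (fun e => congrArg σ (Subtype.ext e)) fun e => congrArg σ (Subtype.ext e)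
  · rw [hQ]
    rintro _ ⟨x, rfl⟩ hx
    rw [← σz, ← σ.map_one]
    refine (F.cenQ _ x.2 fun a ha => ?_).imp (fun e => congrArg σ (Subtype.ext e))
      fun e => congrArg σ (Subtype.ext e)
    obtain ⟨a, a2, rfl⟩ := h.lift (o2 a ha)
    exact hσ x ▸ (hx a ⟨a2, ha⟩).map π
  · rw [hQ]
    rintro _ ⟨x, rfl⟩ hx
    obtain ⟨a, ha, k⟩ := F.ns _ x.2 fun e => hx (by
      rw [← map_mul, show x * x = 1 from Subtype.ext e, map_one])
    obtain ⟨a, a2, rfl⟩ := h.lift (o2 a ha)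
    refine ⟨a, ⟨a2, ha⟩, fun m hm e => (k _ hm (e.imp (fun e => ?_) fun e => ?_)).imp
      (h.conj a2 a2) fun e => h.conj a2 (ms a2 zz (F.Zz _ (H56.HNG.omZ F ha))) (π.map_mul a z ▸ e)⟩
    · simpa [hσ] using congrArg π e
    · simpa [hσ] using congrArg π e
  · have := eq_inv_of_mul_eq_one_left (o2 _ F.twΩ)
    rwa [mul_inv_rev, inv_eq_of_mul_eq_one_left t2, inv_eq_of_mul_eq_one_left (o2 _ F.wΩ)] at this

theorem inv_of_fpf {Y : Type*} [Group Y] [Finite Y] {B : Subgroup Y} [B.Normal] {τ b : Y}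
    (h2 : τ * τ = 1) (h : ∀ b ∈ B, b * τ = τ * b → b = 1) (hb : b ∈ B) : τ * b * τ⁻¹ = b⁻¹ :=
  congrArg Subtype.val (congrFun (MonoidHom.FixedPointFree.coe_eq_inv_of_involutive
    (φ := MulAut.conjNormal (H := B) τ) (fun x e => Subtype.ext (h _ x.2
      (mul_inv_eq_iff_eq_mul.mp (congrArg Subtype.val e)).symm))
    fun x => by rw [← MulAut.mul_apply, ← map_mul, h2, map_one, MulAut.one_apply]) ⟨b, hb⟩)

variable {G : Type u} [Group G] [Finite G] {L L' O B : Subgroup G} {b g k l s t x : G}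
  {M : Type*} [Group M] [Finite M] {N U : Subgroup M} {r : G → M} {z j i ω : M}

theorem le_of_nc (e : EZ L t) (hB : L ≤ nor B) (hx : x ∈ B) (hl : x ∈ L) (h : x ∉ cen L) : L ≤ B :=
  (quasi_sub_normalized e.std.1 hB).resolve_right fun e1 =>
    h (commutator_eq_bot_iff_le_centralizer.mp e1 ⟨hx, hl⟩)

/-- `C(L) = ⟨t⟩ O` -/
def KO (L O : Subgroup G) (t : G) : Prop := ∀ k ∈ cen L, k ∈ O ∨ t * k ∈ O

theorem KO.cj (h : KO L O t) (hg : g ∈ nor O) : KO (cj g L) O (g * t * g⁻¹) := fun k hk =>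
  (h _ (mem_cen_cj.mp hk)).imp
    (fun e => by simpa [mul_assoc] using conj_mem_of_mem_normalizer hg e)
    fun e => by simpa [mul_assoc] using conj_mem_of_mem_normalizer hg e

theorem KO.mem (h : KO L O t) (e : EZ L t) (hO : O ≤ B) (hB : L ≤ nor B) (ht : t ∉ B) (hb : b ∈ B)
    (hc : Commute b t) : b ∈ O := by
  refine (h b fun l hl => ?_).resolve_right fun e1 => ht ((mul_mem_cancel_right hb).mp (hO e1))
  have h1 : l * b * l⁻¹ * b⁻¹ ∈ B := mul_mem (conj_mem_of_mem_normalizer (hB hl) hb) (inv_mem hb)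
  have h2 : l * b * l⁻¹ * b⁻¹ ∈ L := by
    rw [mul_assoc, mul_assoc, ← mul_assoc b]
    exact mul_mem hl (e.conj_mem hc (inv_mem hl))
  rcases (e.zc _ h2).mp (by_contra fun h3 => ht (le_of_nc e hB h1 h2 h3 e.mem)) with e1 | e1
  · exact commutatorElement_eq_one_iff_commute.mp e1
  · exact (ht (e1 ▸ h1)).elim

theorem KS.ko (K : KS L O t N r) (e : EZ L t) (h : Thin L t) : KO L O t := fun k hk =>
  (K.k1 k hk).imp_right fun h1 => h1.resolve_right fun h2 => by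
    obtain ⟨-, o⟩ := (K.ok _).mp h2
    have h3 := pow_orderOf_eq_one (t * (k * k))
    generalize orderOf (t * (k * k)) = n at o h3
    rw [((e.commK hk).mul_left (e.commK hk)).symm.mul_pow, pow_odd_of_sq e.tt o,
      (Commute.refl k).mul_pow] at h3
    have h4 := (eq_inv_of_mul_eq_one_right h3).trans (inv_eq_of_two e.ord)
    rcases h _ (pow_mem hk n) (by
      rw [show 4 = 2 * 2 from rfl, pow_mul, pow_two (k ^ n), h4, pow_two, e.tt]) with e1 | e1 <;>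
      rw [e1] at h4
    exacts [e.ne_one (by simpa using h4.symm), e.ne_one (h4.symm.trans e.tt)]

section
variable {A Y : Type} [Group A] [Finite A] [Group Y] [Finite Y] {Φ : A →* G} {π : A →* Y}

theorem le_of_ne_bot (hπ : OC π) (hΦ : Function.Injective Φ) (hk : ∀ a, π a = 1 ↔ Φ a ∈ O)
    (hO : O ≤ Φ.range) (e : EZ L t) (e' : EZ L' s) (hs : s ∈ L) (ht : t ∈ L') (s0 : s ∉ cen L)
    (t0 : t ∉ cen L') (k : KO L O t) (k' : KO L' O s) (h : L ≤ Φ.range) (h' : L' ≤ Φ.range)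
    {B : Subgroup Y} [hn : B.Normal] (h0 : B ≠ ⊥) : L ≤ (B.comap π).map Φ := by
  have nr : ∀ (B : Subgroup Y) [B.Normal], Φ.range ≤ nor ((B.comap π).map Φ) := fun B _ => by
    rw [MonoidHom.range_eq_map]
    exact map_le_normalizer_map Φ le_normalizer_of_normal
  have OB : O ≤ (B.comap π).map Φ := fun o ho => by
    obtain ⟨a, rfl⟩ := hO ho
    exact ⟨a, show π a ∈ B by rw [(hk a).mpr ho]; exact one_mem _, rfl⟩
  by_contra hL
  have s1 : s ∉ (B.comap π).map Φ := fun h1 => hL (le_of_nc e (h.trans (nr B)) h1 hs s0)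
  have t1 : t ∉ (B.comap π).map Φ := fun h1 => s1 (le_of_nc e' (h'.trans (nr B)) h1 ht t0 e'.mem)
  have fp : ∀ {L : Subgroup G} {a : A}, EZ L (Φ a) → KO L O (Φ a) → L ≤ Φ.range →
      Φ a ∉ (B.comap π).map Φ → π a * π a = 1 ∧ ∀ b ∈ B, b * π a = π a * b → b = 1 :=
    fun {L a} e k h t1 => by
      have aa : a * a = 1 := hΦ (by rw [map_mul, e.tt, map_one])
      refine ⟨by rw [← map_mul, aa, map_one], fun b hb hc => ?_⟩
      obtain ⟨b, rfl⟩ := hπ.sur b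
      exact (hk b).mpr (k.mem e OB (h.trans (nr B)) t1 ⟨b, hb, rfl⟩
        ((show Commute _ _ from hπ.comm aa hc).map Φ))
  obtain ⟨t, rfl⟩ := h e.mem
  obtain ⟨s, rfl⟩ := h hs
  obtain ⟨a1, a2⟩ := fp e k h t1
  obtain ⟨a3, a4⟩ := fp e' k' h' s1
  have := normal_centralizer (H := B)
  obtain ⟨a, ha, e1⟩ := le_of_nc (B := ((cen B).comap π).map Φ) e (h.trans (nr _))
    ⟨t * s, fun b hb => (mul_inv_eq_iff_eq_mul.mp (by
      rw [map_mul, show π t * π s * b * (π t * π s)⁻¹ = π t * (π s * b * (π s)⁻¹) * (π t)⁻¹ by group,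
        inv_of_fpf a3 a4 hb, inv_of_fpf a1 a2 (inv_mem hb), inv_inv])).symm, rfl⟩
    (Φ.map_mul t s ▸ mul_mem e.mem hs)
    (fun h1 => s0 ((mul_mem_cancel_left e.memK).mp (Φ.map_mul t s ▸ h1))) e.mem
  exact h0 (eq_bot_iff.mpr fun b hb => a2 b hb (hΦ e1 ▸ ha b hb))

end

theorem exists_small (H : Subgroup G) :
    ∃ (A : Type) (_ : Group A) (Φ : A →* G), Function.Injective Φ ∧ Φ.range = H := by
  let ε : Shrink.{0} H ≃* H := Shrink.mulEquiv
  exact ⟨Shrink.{0} H, inferInstance, H.subtype.comp ε.toMonoidHom,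
    H.subtype_injective.comp ε.injective, by
      rw [MonoidHom.range_comp, MonoidHom.range_eq_top.mpr ε.surjective, ← MonoidHom.range_eq_map,
        range_subtype]⟩

/-- The recognition theorem. -/
def Rec {Y₀ : Type} [Group Y₀] (t₀ : Y₀) : Prop :=
  ∀ {Y : Type} [Group Y] [Finite Y] [IsSimpleGroup Y] (t : Y), orderOf t = 2 →
    ∀ (M : Subgroup (centralizer ({t} : Set Y))) [M.Normal], M.index = 2 →
      centralizer (M : Set (centralizer ({t} : Set Y))) ≤ M → IsNonsplitDoubleCover M Spor.HS →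
      ∃ E : Y ≃* Y₀, E t = t₀

theorem NP.iso [IsSimpleGroup G] (hG : ¬ IsMulCommutative G) (H : HF N U z j i ω)
    (P : NP L L' t s N r z j) (hL : IsNonsplitDoubleCover L Spor.HS)
    {Y₀ : Type} [Group Y₀] {Z : Subgroup Y₀} {Ω : Set Y₀} {t₀ z₀ w q : Y₀}
    (F : FactsG Z Ω t₀ z₀ w q) (hcl : ∀ y : Y₀, orderOf y = 2 → IsConj y t₀ ∨ IsConj y z₀)
    (hrec : Rec t₀) : Nonempty (G ≃* Y₀) := by
  obtain ⟨O, K⟩ := H.exists_ks P.D P.p (P.rsN H)
  have e := P.D.e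
  have R := P.D.R
  have ko := K.ko e (P.thin hG H K)
  have okc : ∀ {g}, g ∈ nor O → OK (cj g L) O := fun {g} hg => cj_eq_self hg ▸ K.ok.cj g
  let M₀ : Subgroup G := closure {x | ∃ g ∈ nor O, x ∈ cj g L}
  have m1 : ∀ {g}, g ∈ nor O → cj g L ≤ O ⊔ M₀ := fun hg _ hx =>
    mem_sup_right (subset_closure ⟨_, hg, hx⟩)
  have m2 : M₀ ≤ cen O := (closure_le _).mpr fun _ ⟨_, hg, hx⟩ => le_centralizer_iff.mp (okc hg).le hx
  have m3 : L ≤ O ⊔ M₀ := cj_one L ▸ m1 (one_mem _)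
  have m4 : O ⊔ M₀ ≤ nor O := sup_le le_normalizer (le_normalizer_of_le_centralizer m2)
  obtain ⟨g₁, x₁, o1, o2, o3, o4⟩ := K.out
  have inn : ∀ {x}, Commute x t → r x ∈ N → ∃ o ∈ O, ∃ l ∈ L, x = o * l := fun hx h => by
    obtain ⟨k, hk, l, hl, rfl⟩ := R.inner e hx h
    rcases ko k hk with h | h
    · exact ⟨k, h, l, hl, rfl⟩
    · exact ⟨_, h, t * l, mul_mem e.mem hl, by
        rw [← (e.commK hk).eq, mul_assoc, ← mul_assoc t, e.tt, one_mul]⟩
  have m5 : ∀ x, Commute x t → x ∈ O ⊔ M₀ := fun x hx => by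
    have k : ∀ {x}, Commute x t → r x ∈ N → x ∈ O ⊔ M₀ := fun hx h =>
      let ⟨_, h1, _, h2, e⟩ := inn hx h
      e ▸ mul_mem (mem_sup_left h1) (m3 h2)
    rcases (H.two (r x₁) (r x)).resolve_left o4 with h | h
    · exact k hx h
    · exact (mul_mem_cancel_left (m1 (cj_eq_self_iff.mp o1) o2)).mp
        (k (o3.mul_left hx) (by rwa [R.mul o3 hx]))
  have m6 : ∀ {x}, x ∈ O ⊔ M₀ → x * x = 1 → x ∈ cen O := fun hx h2 => by
    obtain ⟨o, ho, m, hm, rfl⟩ := (mem_sup_right_norm (le_normalizer_of_le_centralizer m2)).mp hx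
    obtain ⟨n, hn⟩ := exists_pow_eq_self_of_coprime (x := o) (n := 2)
      (Nat.coprime_two_left.mpr ((K.ok o).mp ho).2)
    rw [(comm_of_cen (m2 hm) ho).mul_mul_mul_comm] at h2
    refine mul_mem ?_ (m2 hm)
    rw [← hn, pow_two, eq_inv_of_mul_eq_one_left h2]
    exact pow_mem (inv_mem (mul_mem (m2 hm) (m2 hm))) n
  obtain ⟨A, _, Φ, hΦ, hr⟩ := exists_small (O ⊔ M₀)
  have : Finite A := Finite.of_injective _ hΦ
  have hA : ∀ a, Φ a ∈ O ⊔ M₀ := fun a => hr ▸ ⟨a, rfl⟩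
  have : (O.comap Φ).Normal := ⟨fun n hn g => by
    rw [mem_comap, map_mul, map_mul, map_inv]; exact conj_mem_of_mem_normalizer (m4 (hA g)) hn⟩
  let π := QuotientGroup.mk' (O.comap Φ)
  have hk : ∀ a, π a = 1 ↔ Φ a ∈ O := fun a => QuotientGroup.eq_one_iff a
  have hπ : OC π := ⟨QuotientGroup.mk'_surjective _,
    fun a ha => orderOf_injective Φ hΦ a ▸ ((K.ok _).mp ((hk a).mp ha)).2, fun {a b} ha hb h => by
      have h1 := (hk (a * b⁻¹)).mp (by rw [map_mul, map_inv, h, mul_inv_cancel])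
      have h2 := comm_of_cen (m6 (hA b) (by rw [← map_mul, hb, map_one])) h1
      refine mul_inv_eq_one.mp (hΦ ((K.ok.eq_one h1 ?_).trans Φ.map_one.symm))
      have h3 := h2.symm.mul_mul_mul_comm (Φ b) (Φ (a * b⁻¹))
      rw [← Φ.map_mul b b, hb, map_one, one_mul, h2.eq, ← map_mul, inv_mul_cancel_right, ← map_mul,
        ha, map_one] at h3
      exact h3.symm⟩
  obtain ⟨g₀, rfl, rfl⟩ := P.p.conj
  have g0 : g₀ ∈ nor O := cj_eq_self_iff.mp
    ((K.ok.cj g₀).eq ((H.inner P.D P.p (P.rsN H)).2.2.2 K.ok))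
  obtain ⟨t, rfl⟩ : t ∈ Φ.range := hr ▸ m3 e.mem
  have t2 : orderOf t = 2 := orderOf_injective Φ hΦ t ▸ e.ord
  have tt := mul_self_of_two t2
  have : IsSimpleGroup (A ⧸ O.comap Φ) :=
    { exists_pair_ne := ⟨π t, 1, ne_one_of_two (hπ.ord t2)⟩
      eq_bot_or_eq_top_of_normal := fun B hB => or_iff_not_imp_left.mpr fun h0 => by
        have : O ⊔ M₀ ≤ (B.comap π).map Φ := sup_le (fun o ho => by
          obtain ⟨a, rfl⟩ : o ∈ Φ.range := hr ▸ mem_sup_left ho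
          exact ⟨a, show π a ∈ B by rw [(hk a).mpr ho]; exact one_mem _, rfl⟩)
          ((closure_le _).mpr fun _ ⟨g, hg, hx⟩ => le_of_ne_bot hπ hΦ hk (hr ▸ le_sup_left) (e.cj g)
            (P.p.e'.cj g) (conj_mem_cj (P.sL H)) (conj_mem_cj (P.tL H))
            (fun h => P.p.not_memK (by simpa [mul_assoc] using mem_cen_cj.mp h))
            (fun h => P.p.symm.not_memK (by simpa [mul_assoc] using mem_cen_cj.mp h))
            (ko.cj hg) ((ko.cj g0).cj hg) (hr ▸ m1 hg) (by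
              rw [cj_cj, hr]; exact m1 (mul_mem hg g0)) h0 hx)
        refine eq_top_iff.mpr fun y _ => ?_
        obtain ⟨a, rfl⟩ := hπ.sur y
        obtain ⟨b, hb, e⟩ := this (hA a)
        exact hΦ e ▸ hb }
  let ψ₀ : L →* A := (MonoidHom.ofInjective hΦ).symm.toMonoidHom.comp (inclusion (hr ▸ m3))
  have p0 : ∀ l, Φ (ψ₀ l) = l := fun l => MonoidHom.apply_ofInjective_symm hΦ _
  let ψ : L →* cen1 (π t) := (π.comp ψ₀).codRestrict _ fun l => mem_cen1.mpr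
    ((show Commute (ψ₀ l) t from hΦ (by rw [map_mul, map_mul, p0, (e.commL l.2).eq])).map π)
  have p1 : Function.Injective ψ := (injective_iff_map_eq_one _).mpr fun l h => by
    have h1 := (hk _).mp (congrArg Subtype.val h)
    rw [p0] at h1
    refine Subtype.ext (K.ok.eq_one h1 ?_)
    rcases (e.zc _ l.2).mp (K.ok.le h1) with e1 | e1 <;> rw [e1]
    exacts [one_mul 1, e.tt]
  have p2 : ∀ y : cen1 (π t), ∃ a, π a = y ∧ Commute (Φ a) (Φ t) := fun y =>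
    let ⟨a, ha⟩ := hπ.sur y
    ⟨a, ha, (show Commute _ _ from hπ.comm tt (ha ▸ mem_cen1.mp y.2)).map Φ⟩
  have p3 : ∀ {y : cen1 (π t)} {a}, π a = y → Commute (Φ a) (Φ t) →
      (y ∈ ψ.range ↔ r (Φ a) ∈ N) := fun {y a} ha hc => by
    constructor
    · rintro ⟨l, rfl⟩
      have h1 := (hk (a * (ψ₀ l)⁻¹)).mp (by rw [map_mul, map_inv, ha]; exact mul_inv_cancel _)
      rw [map_mul, map_inv, p0] at h1
      exact (R.eq_iff hc (e.commL l.2)).mpr (K.ok.le h1) ▸ R.map l.2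
    · intro h
      obtain ⟨o, ho, l, hl, e1⟩ := inn hc h
      refine ⟨⟨l, hl⟩, Subtype.ext (ha ▸ (mul_inv_eq_one.mp ?_).symm)⟩
      show π a * (π (ψ₀ _))⁻¹ = 1
      rw [← map_inv, ← map_mul, hk, map_mul, map_inv, p0, e1, mul_inv_cancel_right]
      exact ho
  have i2 : ψ.range.index = 2 := by
    obtain ⟨x₁, rfl⟩ : x₁ ∈ Φ.range := hr ▸ m5 _ o3
    have c : Commute x₁ t := hΦ (by rw [map_mul, map_mul, o3.eq])
    refine index_eq_two_iff_exists_notMem_and.mpr ⟨⟨π x₁, mem_cen1.mpr (c.map π)⟩,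
      fun h => o4 ((p3 rfl o3).mp h), fun y => ?_⟩
    obtain ⟨a, h1, h2⟩ := p2 y
    rw [p3 h1 h2, p3 (a := a * x₁) (by rw [map_mul, h1]; rfl) (Φ.map_mul a x₁ ▸ h2.mul_left o3),
      map_mul, R.mul h2 o3]
    exact (H.two _ _).elim Or.inr fun h => Or.inl (h.resolve_left o4)
  have := normal_of_index_eq_two i2
  obtain ⟨E, hc⟩ := hrec (π t) (hπ.ord t2) ψ.range i2 (fun y hy => by
    obtain ⟨a, h1, h2⟩ := p2 y
    rw [p3 h1 h2, (R.ker h2).mpr fun l hl => ?_]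
    · exact one_mem _
    · have h3 : π (ψ₀ ⟨l, hl⟩) * π a = π a * π (ψ₀ ⟨l, hl⟩) :=
        h1 ▸ congrArg Subtype.val (hy _ ⟨⟨l, hl⟩, rfl⟩)
      have h4 := (hk (ψ₀ ⟨l, hl⟩ * a * (ψ₀ ⟨l, hl⟩)⁻¹ * a⁻¹)).mp (by simp [h3])
      simp only [map_mul, map_inv, p0] at h4
      refine commutatorElement_eq_one_iff_commute.mp (K.ok.eq_one h4 ?_)
      rw [commutatorElement_def]
      rcases (e.zc _ (by
        rw [mul_assoc, mul_assoc, ← mul_assoc (Φ a)]
        exact mul_mem hl (e.conj_mem h2 (inv_mem hl)))).mp (K.ok.le h4) with e1 | e1 <;> rw [e1]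
      exacts [one_mul 1, e.tt])
    (H71.nonsplit_congr hL (MonoidHom.ofInjective p1) (MulEquiv.refl _))
  have hπ' := hπ.comp E
  obtain ⟨z', w', q', hz, F'⟩ := hπ'.factsG (t := t) (hc.symm ▸ F) tt
  have sj := (H56.HNG.specG F' Φ hΦ (fun g hg => hr ▸ m5 g hg) fun h => by
    obtain ⟨s, hs⟩ : g₀ * Φ t * g₀⁻¹ ∈ Φ.range := hr ▸ m3 (P.sL H)
    have k1 : t * s * (t * s) = 1 := hΦ (by
      rw [map_mul, map_mul, hs, P.p.comm.mul_mul_mul_comm, e.tt, P.p.e'.tt, map_one, one_mul])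
    have k2 : ¬ IsConj (Φ t) (Φ (t * s)) := by rw [map_mul, hs]; exact P.nc H
    rcases hcl _ (hπ'.ord (orderOf_two_of_mul_self k1 fun e => P.p.not_memK (by
      rw [← hs, eq_inv_of_mul_eq_one_right e, map_inv]; exact inv_mem P.D.e.memK))) with k | k
    · exact k2 (Φ.map_isConj (hπ'.isConj k1 tt (hc.symm.subst (motive := IsConj _) k))).symm
    · exact k2 (h.trans (Φ.map_isConj
        (hπ'.isConj k1 (mul_self_of_two F'.z2) (hz ▸ k))).symm)).1
  have hO : O = ⊥ := ((normal_of_top_le_normalizer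
    (by rw [← MonoidHom.range_eq_top.mpr sj, hr]; exact m4)).eq_bot_or_eq_top).resolve_right
      fun h => e.ne_one (K.ok.eq_one (h ▸ mem_top _) e.tt)
  exact ⟨(MulEquiv.ofBijective Φ ⟨hΦ, sj⟩).symm.trans ((MulEquiv.ofBijective π
    ⟨(injective_iff_map_eq_one _).mpr fun a ha => hΦ (by
      rw [map_one, ← mem_bot, ← hO]; exact (hk a).mp ha), hπ.sur⟩).trans E)⟩

end H69.HS
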