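import Cfsg.Agent.H67.P6.Core
import Cfsg.Agent.H81.Glue
import Cfsg.Agent.H81.BaseU
import Cfsg.Agent.H81.SUMult
import Cfsg.Agent.S2091

/-! P6 port (row S3133): the multipliers of the models divide `4`. -/

set_option autoImplicit false

namespace H69.P6M

open Subgroup
open H85.P6.H67.UA (XU FQ)

theorem mX (n : ℕ) (F : Type) [Field F] [StarRing F] [TrivialStar F] [CharP F 2] [Finite F]
    [H85.P6.H67.SP.Par n F] (q : Nat.card F = 2) : H21.multCard (XU n F) ∣ 4 :=
  H67.P6.Fin.mult n F q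

theorem mL (m : ℕ) (F : Type) [Field F] [CharP F 2] [Finite F] (h : 5 ≤ m) :
    H21.multCard (H67.SA.SLn m F) ∣ 4 := by
  have : H21.multCard (H67.SA.SLn m F) = 1 := H21.sl_multCard (by omega) (by omega) (by omega)
  rw [this]
  exact one_dvd _

theorem su5 (K : Type) [Field K] [Fintype K] (hK : Fintype.card K = 2 ^ 2) :
    H21.multCard (Cfsg.SU 5 K 2) = 1 := by
  have : Finite H81.U52M.G := Nat.finite_of_card_ne_zero (by rw [H81.U52M.card]; norm_num)
  exact (H21.multCard_congr (H55.suCongr (FiniteField.ringEquivOfCardEq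
    (H81.QM.card4.trans hK.symm)) 5 2)).trans (Nat.dvd_one.1 H81.QM.mcU52)

theorem su6 (K : Type) [Field K] [Fintype K] (hK : Fintype.card K = 2 ^ 2) :
    H21.multCard (Cfsg.SU 6 K 2) ∣ 4 := by
  have h1 := H81.multCard_mul_center_dvd (G := Cfsg.SU 6 K 2)
    (H59.commutator_SU hK (by omega) (by omega))
  rw [H59.card_center_SU hK (by omega)] at h1
  have h2 : H21.multCard (Cfsg.PSU 6 K 2) = 12 := by
    rw [H21.multCard_eq (Cfsg.Agent.S2091.result (F := K) hK)]
    simp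
  have h3 : H21.multCard (Cfsg.SU 6 K 2) * 3 ∣ 4 * 3 := h1.trans (dvd_of_eq h2)
  exact Nat.dvd_of_mul_dvd_mul_right (by norm_num) h3

theorem mU (m : ℕ) (K : Type) [Field K] [StarRing K] [CharP K 2] [Finite K]
    [hp : H85.P6.H67.UA.Par m K] (h : m = 5 ∨ m = 6) (q : H85.P6.H67.UA.qK K = 2) :
    H21.multCard (XU m K) ∣ 4 := by
  have := H85.P6.H67.UA.jobFQ m K
  have := Fintype.ofFinite K
  obtain ⟨P, e, -⟩ := H85.P6.H81.UAX.exists_iso (n := m) (K := K)
  have hK := H85.P6.H81.UAX.hF (K := K)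
  rw [q] at hK e
  rw [H21.multCard_congr e.symm]
  rcases h with rfl | rfl
  · exact su6 K hK
  · rw [H81.su_mult hK (fun _ => su5 K hK) (by omega) (by omega) (by omega) (by omega)]
    exact one_dvd _

theorem mO (n : ℕ) (F : Type) [Field F] [StarRing F] [TrivialStar F] [CharP F 2] [Finite F]
    [H85.P6.H67.SP.Par n F] (δ : F) :
    H21.multCard (H59.SO.Om (H85.P6.H86.SPI.QD n F δ)) ∣ 4 := by
  obtain ⟨A, _, h1, h2, -⟩ := ((H85.P6.H86.SPI.mi n F).par δ).exists_mult
  rw [H21.multCard_eq h1]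
  exact h2

theorem mu : H67.P6.Core.Mu :=
  ⟨mL, fun m K _ _ _ _ _ h q => mU m K h q, mO⟩

end H69.P6M
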