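import Cfsg.Agent.H74.RESpec
import Cfsg.Agent.H98.Core
import Cfsg.Agent.S0205

/-! Tower NF (S1308), chapter RE: job `SV`. -/

set_option autoImplicit false

namespace H69.RESV

open Cfsg Subgroup H14 H98 H1.Gold H31.S2 H14.GC H14.FE H14.NF H74.RE

universe u

theorem jobSV : H74.RE.JobSV.{u} := by
  intro sc go sv0 G _ _ Q R T h
  have f2 : Fact (Nat.Prime 2) := ⟨Nat.prime_two⟩
  obtain ⟨O, On, Oo, hF⟩ := go G Q R T h
  obtain ⟨-, -, eF, dF⟩ := sc G Q R T h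
  have := h.normal
  have odd : ∀ (K : Subgroup G), ∀ o ∈ O, o * o ∈ K → o ∈ K := fun K o ho h2 =>
    mem_of_pow_mem_of_coprime (n := 2) (by rwa [pow_two])
      (Nat.Coprime.coprime_dvd_left (O.orderOf_dvd_natCard ho) (Nat.coprime_two_right.2 Oo))
  have OQ : O ≤ Q := fun o ho => odd Q o ho (by
    obtain ⟨q, hq, t, ht, rfl⟩ := h.top o
    have e : q * t * (q * t) = q * (t * q * t⁻¹) * (t * t) := by group
    rw [e, h.elT t ht, mul_one]
    exact Q.mul_mem hq (this.conj_mem q hq t))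
  have OR : ∀ o ∈ O, o ∈ R → o = 1 := fun o ho hr => mem_bot.1 (odd ⊥ o ho (h.elR o hr))
  have cR : ∀ a ∈ R, ∀ b ∈ R, a * b = b * a := fun a ha b hb => by
    rw [← inv_eq_of_mul_eq_one_right (h.elR _ (R.mul_mem ha hb)), mul_inv_rev,
      inv_eq_of_mul_eq_one_right (h.elR a ha), inv_eq_of_mul_eq_one_right (h.elR b hb)]
  let π := QuotientGroup.mk' O
  have πs : Function.Surjective π := QuotientGroup.mk'_surjective O
  have nF : ((FF R T).map π).Normal := by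
    have := hF.map π πs
    rwa [Subgroup.map_sup, (map_eq_bot_iff O).2 (QuotientGroup.ker_mk' O).ge, sup_bot_eq] at this
  have pF : IsPGroup 2 (FF R T) := fun a => ⟨1, Subtype.ext (by simpa [pow_two] using eF a a.2)⟩
  have s := sv0 (G ⧸ O) (Q.map π) (R.map π) ((FF R T).map π) (this.map π πs) nF (h.syl.map π)
    (pF.map π) ?_ ?_
  · have := Cfsg.Agent.S0205.result Oo
    refine Group.isSolvable_of_ker_le_range (inclusion OQ) (π.subgroupMap Q) fun x hx => ?_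
    exact ⟨⟨x, (QuotientGroup.eq_one_iff _).1 (congrArg Subtype.val hx)⟩, rfl⟩
  · rintro _ ⟨⟨f, hf, rfl⟩, q, hq, e⟩ _ ⟨x, hx, rfl⟩
    obtain ⟨t, ht, r, hr, -, rfl⟩ := dF f hf
    have h1 : t * r ∈ Q := (Q.mul_mem_cancel_left (Q.inv_mem hq)).1 (OQ (QuotientGroup.eq.1 e))
    rw [h.disj t ht ((Q.mul_mem_cancel_right (h.syl.le hr)).1 h1), one_mul, ← map_mul, ← map_mul,
      cR x hx r hr]
  · rintro _ ⟨⟨r, hr, rfl⟩, hc⟩
    refine ⟨r, mem_sup_right ⟨hr, fun t ht => ?_⟩, rfl⟩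
    have e := hc (π t) ⟨t, mem_sup_left ht, rfl⟩
    rw [← map_mul, ← map_mul] at e
    have h1 := OR _ (QuotientGroup.eq.1 e) (by
      rw [mul_inv_rev, mul_assoc, ← mul_assoc t⁻¹]
      exact R.mul_mem (R.inv_mem hr) (conj_mem_of_mem_normalizer' (h.nR ht) hr))
    exact inv_mul_eq_one.1 h1

end H69.RESV
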