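import Cfsg.Agent.H25.STHc
import Cfsg.Agent.H88.Loc

/-! STD-S, good generating sets: product relations between halves, and words in a permutation
model. -/

set_option autoImplicit false

namespace H69.SG

open H64.SG Subgroup H25.ST
open H67.SA (cm cm_eq_one)

universe u

section Amb

variable {X : Type} [Group X] {G : Type u} [Group G] {e : X →* G} {t : G} {h : X → G}
  {a b c x y : X}

/-- The pair `a, b` is conjugate to the pair `x, y`. -/
def Cj (x y a b : X) : Prop := ∃ g, g * x * g⁻¹ = a ∧ g * y * g⁻¹ = b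

/-- The product formula for `a, b`. -/
def PF (h : X → G) (a b : X) : Prop := I a ∧ I b ∧ I (a * b) ∧ h (a * b) = h a * h b

theorem PF.cj (H : HC e t h) (p : PF h x y) (k : Cj x y a b) : PF h a b := by
  obtain ⟨g, rfl, rfl⟩ := k
  obtain ⟨h1, h2, h3, h4⟩ := p
  refine ⟨h1.conj g, h2.conj g, by rw [conj_mul]; exact h3.conj g, ?_⟩
  rw [conj_mul, H.eqv _ g h1, H.eqv _ g h2, H.eqv _ g h3, h4, conj_mul]

theorem gd_cj (H : HC e t h) (hx : I x) (hy : I y) (p : Gd e h x y) (k : Cj x y a b) :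
    Gd e h a b := by
  obtain ⟨g, rfl, rfl⟩ := k
  exact H.gd_conj hx hy p g

theorem ln2_cj (p : Ln2 x y) (k : Cj x y a b) : Ln2 a b := by
  obtain ⟨g, rfl, rfl⟩ := k
  exact p.conj g

theorem ln3_cj (p : Ln3 x y) (k : Cj x y a b) : Ln3 a b := by
  obtain ⟨g, rfl, rfl⟩ := k
  exact p.conj g

theorem comm_of_I (ha : I a) (hb : I b) (hc : I (a * b)) : a * b = b * a := by
  have := inv_eq_of_mul_eq_one_right hc.sq
  rwa [mul_inv_rev, inv_eq_of_mul_eq_one_right ha.sq, inv_eq_of_mul_eq_one_right hb.sq,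
    eq_comm] at this

/-- Two common neighbours force the product formula. -/
theorem pf_hyp (hF : F0 X) (hN : FN X) (H : HP Ln2 e t h) {c' : X} (hne : c ≠ c')
    (l1 : Ln2 c a) (l2 : Ln2 c b) (l3 : Ln2 c (a * b)) (m1 : Ln2 c' a) (m2 : Ln2 c' b)
    (m3 : Ln2 c' (a * b)) : PF h a b := by
  have ne : e c ≠ e c' := fun k => hne (H.inj k)
  have n1 : e c ≠ 1 := fun k => l1.1.ne (H.inj (by rw [k, map_one]))
  have k0 : ∀ {x y : X}, x * y = y * x → Ln2 c x → Ln2 c y → Ln2 c' x → Ln2 c' y →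
      h x * h y = h y * h x := fun hxy a1 a2 b1 b2 => cm_eq_one.1 (by
    rcases H.n0 hF (hN c a1.1) a1.2.1 a2.2.1 a1.2.2.2 a2.2.2.2 a1 a2 hxy with k | k
    · exact k
    rcases H.n0 hF (hN c' b1.1) a1.2.1 a2.2.1 b1.2.2.2 b2.2.2.2 b1 b2 hxy with k' | k'
    · exact k'
    exact absurd (k.symm.trans k') ne)
  have hab := comm_of_I l1.2.1 l2.2.1 l3.2.1
  have c1 := k0 hab l1 l2 m1 m2
  have c2 := k0 (by rw [mul_assoc, hab]) l1 l3 m1 m3
  have c3 := k0 (by rw [← mul_assoc, hab]) l2 l3 m2 m3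
  refine ⟨l1.2.1, l2.2.1, l3.2.1, ?_⟩
  rcases H.n2 hF (hN c l1.1) l1.2.1 l2.2.1 l1.2.2.2 l2.2.2.2 l1 l2 hab l3.2.1 l3 c1 c2 c3
    with k | k
  · exact k
  rcases H.n2 hF (hN c' m1.1) l1.2.1 l2.2.1 m1.2.2.2 m2.2.2.2 m1 m2 hab l3.2.1 m3 c1 c2 c3
    with k' | k'
  · exact k'
  exact absurd (mul_left_cancel (k.symm.trans k')) ne

/-- Lemma G. -/
theorem lemG (H : HC e t h) {r u d v : X} (hv : v = u * d * u⁻¹) (p1 : PF h r u) (p2 : PF h r d)
    (p3 : PF h u c) (p4 : PF h (r * d) (u * c)) (p5 : PF h (r * u) (v * c)) (p6 : PF h v c) :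
    Gd e h d u := by
  have k : r * d * (u * c) = r * u * (v * c) := by
    rw [hv, inv_eq_of_mul_eq_one_right p1.2.1.sq]
    simp only [mul_assoc]
    rw [← mul_assoc u u, p1.2.1.sq, one_mul]
  have k1 := p4.2.2.2
  rw [k, p5.2.2.2, p1.2.2.2, p6.2.2.2, p2.2.2.2, p3.2.2.2, mul_assoc, mul_assoc, mul_right_inj,
    ← mul_assoc, ← mul_assoc, mul_left_inj] at k1
  rw [Gd, commute_iff_eq, mul_assoc, H.e_mul p2.2.1, ← hv, ← mul_assoc, ← mul_assoc, k1]

end Amb

section Md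

open H71 H81 H88

variable {X : Type} [Group X] {ρ : X →* Equiv.Perm ℕ} {N : ℕ} {LS : List Lt} {bs : List ℕ}

open Classical in
/-- The element given by a letter. -/
noncomputable def xl (ρ : X →* Equiv.Perm ℕ) (LS : List Lt) (l : ℕ) : X :=
  if h : vL LS l ∈ ρ.range then h.choose else 1

/-- The element given by a word. -/
noncomputable abbrev xw (ρ : X →* Equiv.Perm ℕ) (LS : List Lt) (w : List ℕ) : X := evw (xl ρ LS) w

theorem ρ_xl (hL : AOK N ρ.range LS) (l : ℕ) : ρ (xl ρ LS l) = vL LS l := by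
  have : vL LS l ∈ ρ.range := by
    rcases Nat.lt_or_ge l LS.length with h | h
    · exact (hL.nthD h).2.1
    · rw [vL, nthD_eq, List.getD_eq_default _ _ h]; exact one_mem _
  rw [xl, dif_pos this]
  exact this.choose_spec

theorem ρ_xw (hL : AOK N ρ.range LS) (w : List ℕ) : ρ (xw ρ LS w) = evw (vL LS) w := by
  rw [map_evw]; congr 1; exact funext (ρ_xl hL)

variable (hi : Function.Injective ρ) (hb : IsBase N ρ.range bs) (hL : AOK N ρ.range LS)
include hL

theorem xw_ne {s t : List ℕ} {p : ℕ} (k : mvI N LS s t p = true) : xw ρ LS s ≠ xw ρ LS t :=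
  fun e => of_mvI hL k (by rw [← ρ_xw hL, ← ρ_xw hL, e])

include hi hb

theorem xw_eq {s t : List ℕ} (k : eqI LS bs s t = true) : xw ρ LS s = xw ρ LS t :=
  hi (by rw [ρ_xw hL, ρ_xw hL, of_eqI hb hL k])

theorem xw_cj {x a g : List ℕ} (k : eqI LS bs (g ++ x) (a ++ g) = true) :
    xw ρ LS g * xw ρ LS x * (xw ρ LS g)⁻¹ = xw ρ LS a := by
  have := xw_eq hi hb hL k
  rw [xw, xw, evw_append, evw_append] at this
  exact mul_inv_eq_iff_eq_mul.2 this

theorem cj_of {x y a b : List ℕ} (g : List ℕ)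
    (k : band (eqI LS bs (g ++ x) (a ++ g)) (eqI LS bs (g ++ y) (b ++ g)) = true) :
    Cj (xw ρ LS x) (xw ρ LS y) (xw ρ LS a) (xw ρ LS b) :=
  ⟨_, xw_cj hi hb hL (band_iff.1 k).1, xw_cj hi hb hL (band_iff.1 k).2⟩

/-- The letter is a word in the words of `D`. -/
theorem mem_closure_of {D : List (List ℕ)} {l : ℕ} (w : List ℕ)
    (k : band (inR D.length w) (eqI LS bs [l] (w.flatMap fun i => D.getD i [])) = true) :
    xl ρ LS l ∈ closure (xw ρ LS '' {d | d ∈ D}) := by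
  obtain ⟨k1, k2⟩ := band_iff.1 k
  have := xw_eq hi hb hL k2
  rw [xw, evw_cons, evw_nil, mul_one] at this
  rw [this]
  clear this k k2
  induction w with
  | nil => exact one_mem _
  | cons i w ih =>
    obtain ⟨h1, h2⟩ := band_iff.1 (show band (Nat.blt i D.length) (inR D.length w) = true from k1)
    rw [List.flatMap_cons, xw, evw_append]
    refine mul_mem (subset_closure ⟨_, ?_, rfl⟩) (ih h2)
    rw [List.getD_eq_getElem _ _ (Nat.blt_eq ▸ h1)]
    exact List.getElem_mem _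

end Md

end H69.SG
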