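import Cfsg.Agent.H69.StdAlt

/-! Tower STD: the facts `AD` for the symmetric group of degree 8 (generated by tools/h69/genalt.py). -/

set_option autoImplicit false
set_option Elab.async false
set_option maxRecDepth 100000

namespace H69.Std.A8
open H49 H69.Std

noncomputable abbrev C := csP 3 7 8 16434824
noncomputable abbrev AA : Act C := Act.perm 3 7 8 16434824
noncomputable abbrev pm (a b : ℕ) (h : UG.chk C a b = true := by decide +kernel) : UG C := UG.mk' C a b h
noncomputable abbrev eqv : UG C ≃* Equiv.Perm (Fin 8) := equivP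
noncomputable abbrev M0 : Subgroup (UG C) := (alternatingGroup (Fin 8)).comap eqv.toMonoidHom
theorem two (a b : UG C) : a ∈ M0 ∨ b ∈ M0 ∨ a * b ∈ M0 := by
  simp only [Subgroup.mem_comap, map_mul]; exact alt_two _ _
noncomputable def sg : List (UG C) := UG.mkL C [(16434817, 16434817), (16433690, 16433690), (6852524, 6852524)]
noncomputable def syS : List (UG C) := UG.litL (sg ++ List.map (wd sg) [[1, 0, 1], [2, 0, 2], [2, 1, 2], [1, 2, 1, 0, 1, 2, 1]])
  [(16434817, 16434817), (16433690, 16433690), (6852524, 6852524), (16434376, 16434376), (16406152, 16406152), (11789960, 11789960), (14599816, 14599816)]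
theorem syS_cl : Subgroup.closure {x | x ∈ syS} = Subgroup.closure {x | x ∈ sg} := by
  unfold syS; rw [UG.litL_eq, closure_append_wd]
noncomputable def syL : List (Lv C) := [⟨syS, [[], [0], [1], [2], [1, 0], [2, 0], [2, 1], [2, 1, 0]], 0, pap 4 15 1985167888⟩,
  ⟨List.map (nthD 1 syS) [3, 4, 5, 6], [[], [0]], 2, pap 2 3 64⟩,
  ⟨List.map (nthD 1 syS) [4, 5, 6], [[], [0], [1], [1, 0]], 4, pap 3 7 6848512⟩,
  ⟨List.map (nthD 1 syS) [6], [[], [0]], 6, pap 2 3 16384⟩]
theorem syL_top : Subgroup.closure {x | x ∈ topS syL} = Subgroup.closure {x | x ∈ sg} := by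
  rw [← syS_cl]; unfold syL; simp only [topS]
theorem syL_ub : ubOK (AA).ap syL = true := by decide +kernel
theorem syL_lb : lbOK (AA) syL = true := by decide +kernel
theorem sy_card : Nat.card (Subgroup.closure {x | x ∈ sg}) = 128 := by
  rw [← syL_top, card_of_chain syL_ub syL_lb]; decide +kernel
theorem sy_all {P : UG C → Prop} [DecidablePred P]
    (hP : allProd (trs syL) (fun x => decide (P x)) = true) {x : UG C}
    (hx : x ∈ Subgroup.closure {x | x ∈ sg}) : P x :=
  forall_of_chain syL_ub hP (by rwa [syL_top])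
noncomputable def SL : List (UG C) := UG.mkL C [(16434824, 16434824), (14599816, 14599816), (16406152, 16406152), (14571144, 14571144), (11789960, 11789960), (9954952, 11761288), (11761288, 9954952), (9926280, 9926280), (16434376, 16434376), (14599368, 14599368), (16405704, 16405704), (14570696, 14570696), (11789512, 11789512), (9954504, 11760840), (11760840, 9954504), (9925832, 9925832), (16434817, 16434817), (14599809, 14599809), (16406145, 16406145), (14571137, 14571137), (11789953, 11789953), (9954945, 11761281), (11761281, 9954945), (9926273, 9926273), (16434369, 16434369), (14599361, 14599361), (16405697, 16405697), (14570689, 14570689), (11789505, 11789505), (9954497, 11760833), (11760833, 9954497), (9925825, 9925825), (16433690, 16433690), (14598682, 14598682), (16405018, 16405018), (14570010, 14570010), (11788826, 11788826), (9953818, 11760154), (11760154, 9953818), (9925146, 9925146), (16433242, 16433683), (14598234, 14598675), (16404570, 16405011), (14569562, 14570003), (11788378, 11788819), (9953370, 11760147), (11759706,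 9953811), (9924698, 9925139), (6852524, 6852524), (5017516, 6852076), (6823852, 6852517), (4988844, 6852069), (2207660, 6851390), (372652, 6851383), (2178988, 6850942), (343980, 6850935), (6852076, 5017516), (5017068, 5017068), (6823404, 5017509), (4988396, 5017061), (2207212, 5016382), (372204, 5016375), (2178540, 5015934), (343532, 5015927), (16433683, 16433242), (14598675, 14598234), (16405011, 16404570), (14570003, 14569562), (11788819, 11788378), (9953811, 11759706), (11760147, 9953370), (9925139, 9924698), (16433235, 16433235), (14598227, 14598227), (16404563, 16404563), (14569555, 14569555), (11788371, 11788371), (9953363, 11759699), (11759699, 9953363), (9924691, 9924691), (6852517, 6823852), (5017509, 6823404), (6823845, 6823845), (4988837, 6823397), (2207653, 6822718), (372645, 6822711), (2178981, 6822270), (343973, 6822263), (6852069, 4988844), (5017061, 4988396), (6823397, 4988837), (4988389, 4988389), (2207205, 4987710), (372197, 4987703), (2178533, 4987262), (343525, 4987255), (6851390, 2207660), (5016382, 2207212),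 (6822718, 2207653), (4987710, 2207205), (2206526, 2206526), (371518, 2206519), (2177854, 2206078), (342846, 2206071), (6850942, 2178988), (5015934, 2178540), (6822270, 2178981), (4987262, 2178533), (2206078, 2177854), (371070, 2177847), (2177406, 2177406), (342398, 2177399), (6851383, 372652), (5016375, 372204), (6822711, 372645), (4987703, 372197), (2206519, 371518), (371511, 371511), (2177847, 371070), (342839, 371063), (6850935, 343980), (5015927, 343532), (6822263, 343973), (4987255, 343525), (2206071, 342846), (371063, 342839), (2177399, 342398), (342391, 342391)]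
theorem SL_all (x : UG C) (hx : x ∈ Subgroup.closure {x | x ∈ sg}) : x ∈ SL :=
  memB_iff.mp (sy_all (P := fun x => memB x SL = true) (by decide +kernel) hx)
noncomputable def x0 : UG C := (pm 16433690 16433690)
noncomputable def x1 : UG C := (pm 11788826 11788826)
noncomputable def tau : UG C := (pm 16434698 16434698)
noncomputable def F : UG C := (pm 16433361 16434243)
noncomputable def F2 : UG C := (pm 6053089 13505989)
noncomputable def y1 : UG C := (pm 16434369 16434369)
theorem t0 : tau ∉ M0 := by
  have : eqv tau = Equiv.swap 0 2 := Equiv.ext (by decide +kernel)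
  show ¬ Equiv.Perm.sign (eqv tau) = 1
  rw [this, Equiv.Perm.sign_swap (by decide)]; decide
noncomputable def DL : List (UG C) := UG.mkL C [(16434824, 16434824), (13904345, 6238981), (2219476, 5114494), (13097154, 12465201), (15815366, 14837081), (4707878, 10622962), (6044969, 13412805), (10566094, 4438350), (14132748, 12519178), (5115509, 6577620), (10201800, 12186888), (1095150, 4253935), (10399886, 12777611), (13379695, 1883413), (15509830, 14761257), (10569615, 771918), (8292753, 13286980), (6982094, 4374412), (3130792, 11062520), (15554672, 15088976), (10296216, 13235040), (2830653, 3418555), (3372866, 9791033), (13992930, 6232604), (15783299, 15360233), (7047565, 11026316), (16097830, 14883610), (12637660, 6161134), (8892821, 11040883), (10271765, 13400170), (12819219, 12427366), (12088545, 10196165), (6873405, 3157931), (4656099, 5607924), (13130201, 6173573), (3605980, 5702396), (10544604, 5473006), (15260707, 15602090), (10138247, 1767577), (12523140, 14124705), (14796173, 15223502), (14738668, 15762670), (10549042, 8889902),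 (3685143, 1681533), (10081736, 5929672), (15763370, 15263276), (7652743, 741097), (11578567, 1041705), (15744169, 15526021), (13801410, 6219297), (6686141, 2645748), (1223803, 3072279), (13508985, 4021507), (11024881, 4700549), (943082, 5299231), (13740993, 6155009), (1222606, 4384527), (1253077, 7627879), (14739669, 15742062), (2903383, 871549), (1752737, 8034439), (15769971, 15032619), (13509608, 6085912), (5554619, 2834923), (7675192, 3092320), (7062342, 10571673), (7947240, 5820248), (3335619, 5431545), (6760495, 1359666), (7807436, 5705483), (1887123, 13221999), (14804321, 15801030), (16321249, 16356676), (11772467, 11002138), (8324449, 13967044), (10193610, 12186636), (11498508, 9931978), (10594430, 2341654), (9117507, 7696801), (16033542, 14886697), (12693093, 8133398), (6651176, 9219952), (5667851, 9392586), (13639514, 8217125), (6150193, 12991426), (5345711, 584675), (5937400, 3847648), (2244270, 6346942), (3901611, 12103868), (7547848, 5631752), (1274973, 9724631), (13736632, 4057760), (5737697, 11474372), (9991849, 10024581),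 (10549658, 9155118), (881573, 8920415), (6746530, 9084467), (883113, 8961351), (7886970, 3816981), (14772828, 15827798), (2901367, 347389), (13501117, 3955868), (3552647, 743673), (8331820, 13930266), (14767921, 15083334), (10247258, 13529621), (15326276, 15600529), (12477465, 13882050), (8104460, 12160778)]
noncomputable def EL : List (UG C) := UG.litL (List.map (sq2 DL) [(0, 0), (1, 2), (3, 4), (5, 6), (7, 8), (9, 10), (11, 12), (13, 14), (15, 16), (17, 18), (19, 20), (21, 22), (23, 24), (25, 26), (27, 28), (29, 30), (31, 32), (33, 34), (35, 36), (37, 38), (39, 40), (41, 42), (43, 44), (45, 46), (47, 48), (49, 50), (51, 52), (53, 54), (55, 56), (57, 58), (59, 60), (61, 62), (63, 64), (65, 66), (67, 68), (69, 70), (71, 72), (73, 74), (75, 76), (77, 78), (79, 80), (81, 82), (83, 84), (85, 86), (87, 88), (89, 90), (91, 92), (93, 94), (95, 96), (97, 98), (99, 100), (101, 102), (103, 104), (105, 106), (107, 108)]) [(16434824, 16434824), (14427945, 14460677), (3851911, 1754809), (16433354, 16434187), (15402765, 16000908), (14590492, 14582554),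 (15386126, 14862218), (6781474, 9805362), (9378488, 3538080), (11333154, 7576618), (6970824, 5136264), (14424858, 14524965), (10978982, 10720948), (8453011, 9039982), (16307872, 16389800), (4085298, 12998202), (9708447, 750365), (6050590, 12723165), (5474126, 10577868), (4349177, 3036614), (14486115, 14520660), (2775024, 4609976), (16352609, 16325316), (8855931, 3502387), (3385256, 11069240), (13882008, 12477080), (10211411, 12218451), (11252640, 11245976), (5948943, 1755082), (11788931, 11788441), (12296732, 12288794), (7404712, 9236136), (3567256, 7557816), (13944378, 4146730), (9806391, 490266), (9040437, 8682394), (15132320, 15898288), (8112776, 12177032), (14141064, 12535432), (11764627, 11264092), (10740499, 11771998), (1013845, 9714775), (10610145, 5479110), (14968674, 15799861), (7999663, 1629859), (9929626, 11235868), (7432775, 1175377), (630630, 6364071), (4409321, 5556166), (1170554, 3041815), (9405333, 11041884), (9937438, 10711834), (3689427, 5881981), (12219970, 10212881), (13908433, 6240325)]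
theorem EL_mem : ∀ e ∈ EL, e ∈ M0 := mem_of_sq2 (sq_mem_of_two two) _ _ _
noncomputable def B0 : List (UG C) := UG.mkL C [(14599816, 14599816), (16406152, 16406152), (14571144, 14571144), (11789960, 11789960), (9926280, 9926280), (16433816, 16433816), (14598808, 14598808), (16405144, 16405144), (14570136, 14570136), (11788952, 11788952), (9925272, 9925272), (14599361, 14599361), (16405697, 16405697), (14570689, 14570689), (11789505, 11789505), (9925825, 9925825), (16434698, 16434698), (14599690, 14599690), (16406026, 16406026), (14571018, 14571018), (11789834, 11789834), (9926154, 9926154), (14598682, 14598682), (16405018, 16405018), (14570010, 14570010), (11788826, 11788826), (9925146, 9925146), (14598227, 14598227), (16404563, 16404563), (14569555, 14569555), (11788371, 11788371), (9924691, 9924691), (14598353, 14599235), (16404689, 16405571), (14569681, 14570563), (11788497, 11789379), (9924817, 9925699), (14599235, 14598353), (16405571, 16404689), (14570563, 14569681), (11789379, 11788497), (9925699, 9924817)]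
theorem B0_bad : ∀ w ∈ B0, Bad M0 x0 w := bad_of_list EL_mem (Z := [(0, 0, 1, 0, 3, 1), (0, 0, 2, 0, 3, 1), (0, 0, 3, 0, 3, 1), (0, 0, 3, 0, 3, 1), (0, 0, 3, 0, 3, 1), (0, 0, 4, 0, 3, 1), (0, 0, 5, 0, 3, 1), (0, 0, 6, 0, 3, 1), (0, 0, 7, 0, 3, 1), (0, 0, 8, 0, 3, 1), (0, 0, 9, 0, 3, 1), (0, 0, 10, 0, 3, 1), (0, 0, 11, 0, 3, 1), (0, 0, 10, 0, 3, 1), (0, 0, 12, 0, 3, 1), (0, 0, 13, 0, 3, 1), (0, 0, 7, 0, 3, 1), (0, 0, 14, 0, 3, 1), (0, 0, 15, 0, 3, 1), (0, 0, 16, 0, 3, 1), (0, 0, 17, 0, 3, 1), (0, 0, 18, 0, 3, 1), (0, 0, 19, 0, 3, 1), (0, 0, 20, 0, 3, 1), (0, 0, 7, 0, 3, 1), (0, 0, 8, 0, 3, 1), (0, 0, 9, 0, 3, 1), (0, 0, 21, 0, 3, 1), (0, 0, 22, 0, 3, 1), (0, 0, 21, 0, 3, 1), (0, 0, 23, 0, 3, 1), (0, 0, 24, 0, 3, 1), (25, 0, 7, 0, 0, 1), (25, 0, 7, 0, 0, 1), (26, 0, 8, 0, 0, 1), (26, 0, 9, 0, 0, 1), (26, 0, 7, 0, 0, 1), (25, 0, 7, 0, 0, 1), (25, 0, 7, 0, 0, 1), (26, 0, 8, 0, 0, 1), (26, 0, 9, 0, 0, 1), (26, 0, 7, 0, 0, 1)]) (by decide +kernel)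
noncomputable def B1 : List (UG C) := UG.mkL C [(12306056, 12306056), (15918728, 15918728), (11789960, 11789960), (16433816, 16433816), (12305048, 12305048), (15917720, 15917720), (11788952, 11788952), (15637664, 15637664), (11508896, 11508896), (15120560, 15120560), (10991792, 10991792), (14570689, 14570689), (9925825, 9925825), (16434698, 16434698), (12305930, 12305930), (15918602, 15918602), (11789834, 11789834), (16433690, 16433690), (12304922, 12304922), (15917594, 15917594), (15637538, 15637538), (11508770, 11508770), (15120434, 15120434), (10991666, 10991666), (14569555, 14569555), (9924691, 9924691), (6852524, 6852524), (2722748, 2722748), (5785549, 5785549), (5269453, 5269453), (5784541, 5784541), (5268445, 5268445), (4988389, 4988389), (4471285, 4471285), (6336302, 6336302), (2206526, 2206526), (1656655, 1656655), (1140559, 1140559), (1655647, 1655647), (1139551, 1139551), (859495, 859495), (342391, 342391)]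
theorem B1_bad : ∀ w ∈ B1, Bad M0 x1 w := bad_of_list EL_mem (Z := [(0, 0, 27, 0, 3, 1), (0, 0, 28, 0, 3, 1), (0, 0, 29, 0, 3, 1), (0, 0, 28, 0, 3, 1), (0, 0, 30, 0, 3, 1), (0, 0, 28, 0, 3, 1), (0, 0, 31, 1, 3, 1), (0, 0, 28, 0, 3, 1), (0, 0, 32, 0, 3, 1), (0, 0, 28, 0, 3, 1), (0, 0, 33, 0, 3, 1), (0, 0, 34, 0, 3, 1), (0, 0, 35, 0, 3, 1), (0, 0, 31, 0, 3, 1), (0, 0, 36, 0, 3, 1), (0, 0, 37, 0, 3, 1), (0, 0, 28, 1, 3, 1), (0, 0, 38, 0, 3, 1), (0, 0, 28, 1, 3, 1), (0, 0, 27, 1, 3, 1), (0, 0, 39, 0, 3, 1), (0, 0, 32, 0, 3, 1), (0, 0, 40, 0, 3, 1), (0, 0, 33, 0, 3, 1), (0, 0, 41, 0, 3, 1), (0, 0, 42, 0, 3, 1), (0, 0, 43, 0, 3, 1), (0, 0, 44, 0, 3, 1), (0, 0, 36, 0, 3, 1), (0, 0, 45, 0, 3, 1), (0, 0, 46, 0, 3, 1), (0, 0, 45, 0, 3, 1), (0, 0, 47, 0, 3, 1), (0, 0, 48, 0, 3, 1), (0, 0, 49, 0, 3, 1), (0, 0, 50, 0, 3, 1), (0, 0, 36, 0, 3, 1), (0, 0, 51, 0, 3, 1), (0, 0, 52, 0, 3, 1), (0, 0, 51, 0, 3, 1), (0, 0, 53, 0, 3, 1), (0, 0, 54, 0, 3, 1)]) (by decide +kernel)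
noncomputable def A2 : List (UG C) := UG.mkL C [(16434369, 16434369), (16433235, 16433235)]
theorem A2_sq : ∀ w ∈ A2, w * w = 1 := fun w hw =>
  eqB_iff.mp (allB_iff.mp (show allB (fun w => eqB (w * w) 1) A2 = true by decide +kernel) w hw)
noncomputable def AF : List (UG C) := UG.mkL C [(16433361, 16434243), (16434243, 16433361)]
theorem AF_cj : ∀ w ∈ AF, ∃ h, h * x0 * h⁻¹ = x0 ∧ h * w * h⁻¹ = F := fun w hw => by
  obtain ⟨h, k⟩ := allZ_spec (show allZ (fun w h => andB (eqB (h * x0 * h⁻¹) x0) (eqB (h * w * h⁻¹) F)) AF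
    (UG.mkL C [(16434824, 16434824), (10154648, 10154648)]) = true by decide +kernel) w hw
  exact ⟨h, eqB_iff.mp (andB_iff.mp k).1, eqB_iff.mp (andB_iff.mp k).2⟩
noncomputable def AG : List (UG C) := UG.mkL C [(10440913, 14054467), (14053585, 10441795), (10441795, 14053585), (14054467, 10440913), (2207660, 6851390), (6335420, 2723630), (343525, 4987255), (858613, 4472167), (2723630, 6335420), (6851390, 2207660), (4472167, 858613), (4987255, 343525)]
theorem AG_cj : ∀ w ∈ AG, ∃ h, h * x1 * h⁻¹ = F2 * F2 ∧ h * w * h⁻¹ = F2 := fun w hw => by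
  obtain ⟨h, k⟩ := allZ_spec (show allZ (fun w h => andB (eqB (h * x1 * h⁻¹) (F2 * F2)) (eqB (h * w * h⁻¹) F2)) AG
    (UG.mkL C [(2281370, 6996542), (10538906, 7062062), (8673210, 2782773), (415674, 2774583), (10236842, 13170717), (1979306, 13162527), (15827882, 15264284), (14795690, 15256094), (9204650, 8977437), (947114, 8969247), (7570346, 11071004), (6538154, 11062814)]) = true by decide +kernel) w hw
  exact ⟨h, eqB_iff.mp (andB_iff.mp k).1, eqB_iff.mp (andB_iff.mp k).2⟩
noncomputable def m3 : UG C := (pm 15917594 15917594)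
theorem sw0 : ∃ w, Sq M0 x0 w ∧ IsConj x0 w :=
  ⟨(pm 9926280 9926280), sq_of_chk two (pm 16434824 16434824) (pm 16434824 16434824) (pm 12627692 8160558) (pm 12186692 10193617) (by decide +kernel),
    conj_of_chk (pm 4242924 5016046) (by decide +kernel)⟩
theorem sw1 : ∃ w, Sq M0 x1 w ∧ IsConj x0 w :=
  ⟨(pm 11789960 11789960), sq_of_chk two (pm 16434824 16434824) (pm 16434824 16434824) (pm 15263976 15775144) (pm 12444768 13867728) (by decide +kernel),
    conj_of_chk (pm 342391 342391) (by decide +kernel)⟩
theorem sw2 : ∃ w, Sq M0 tau w ∧ IsConj x0 w :=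
  ⟨(pm 9926280 9926280), sq_of_chk two (pm 16434824 16434824) (pm 16434824 16434824) (pm 13750415 1993355) (pm 8448699 3272878) (by decide +kernel),
    conj_of_chk (pm 4243302 6363630) (by decide +kernel)⟩
theorem sw3 : ∃ w, Sq M0 m3 w ∧ IsConj x0 w :=
  ⟨(pm 15917720 15917720), sq_of_chk two (pm 16434824 16434824) (pm 16434824 16434824) (pm 12465537 13359297) (pm 8775144 5307120) (by decide +kernel),
    conj_of_chk (pm 4445966 10627022) (by decide +kernel)⟩
theorem n3 : m3 ∉ M0 := not_mem_of_sq (a := (pm 11641840 4713240)) (b := (pm 5235496 11578840)) two t0 (by decide +kernel)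
noncomputable def KL : List (Cl C) := [⟨x0, 1 :: x0 :: (A2 ++ (AF ++ B0)), B0, false⟩,
  ⟨x1, 1 :: x1 :: (AG ++ B1), B1, false⟩,
  ⟨tau, [], [], true⟩,
  ⟨m3, [], [], true⟩]
theorem KL_ok : ∀ c ∈ KL, c.OK (AP M0 x0 x1 F F2) := by
  intro c hc
  simp only [KL, List.mem_cons, List.not_mem_nil, or_false] at hc
  rcases hc with rfl | rfl | rfl | rfl
  · refine ⟨fun a ha => ⟨sw0, Or.inr ⟨Or.inl (IsConj.refl _), ?_⟩⟩,
      fun w hw => ⟨sw0, Or.inr ⟨Or.inl (IsConj.refl _), Or.inr (Or.inr (Or.inl (B0_bad _ hw).of_sq))⟩⟩,
      fun h => absurd h (by simp)⟩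
    simp only [List.mem_cons, List.mem_append] at ha
    rcases ha with h | h | h | h | h
    exacts [Or.inl h, Or.inr (Or.inl h), Or.inr (Or.inr (Or.inr (Or.inl ⟨IsConj.refl _, A2_sq _ h⟩))),
      Or.inr (Or.inr (Or.inr (Or.inr (Or.inl (AF_cj _ h))))), Or.inr (Or.inr (Or.inl (B0_bad _ h)))]
  · refine ⟨fun a ha => ⟨sw1, Or.inr ⟨Or.inr (IsConj.refl _), ?_⟩⟩,
      fun w hw => ⟨sw1, Or.inr ⟨Or.inr (IsConj.refl _), Or.inr (Or.inr (Or.inl (B1_bad _ hw).of_sq))⟩⟩,
      fun h => absurd h (by simp)⟩
    simp only [List.mem_cons, List.mem_append] at ha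
    rcases ha with h | h | h | h
    exacts [Or.inl h, Or.inr (Or.inl h), Or.inr (Or.inr (Or.inr (Or.inr (Or.inr (AG_cj _ h))))),
      Or.inr (Or.inr (Or.inl (B1_bad _ h)))]
  · exact ⟨by simp, by simp, fun _ _ => ⟨sw2, Or.inl t0⟩⟩
  · exact ⟨by simp, by simp, fun _ _ => ⟨sw3, Or.inl n3⟩⟩
noncomputable def HL : List (UG C) := UG.mkL C [(16434824, 16434824), (670607, 645519), (8137829, 13377301), (571767, 342447), (6335294, 2207534), (830270, 2207023), (8344609, 14032578), (4449893, 11540438), (11544183, 517909), (572733, 2894255), (1140349, 3172183), (5016893, 2895340), (16405200, 16405592), (708057, 5161863), (16300802, 16361513), (4410315, 5620174), (3787714, 5884473), (4558708, 6622196), (11761232, 9954896), (4389259, 9089486), (16094260, 15141602), (6713168, 7429744), (10725785, 11252486), (11039462, 8623517), (14598227, 14598227), (4445084, 11142110), (12426274, 13605410), (6769210, 3526194), (11241230, 10725260), (12960213, 6048371), (7959301, 9973593), (8824760, 2815792), (9925139, 9924698), (719054, 8566159), (12369028, 13600937),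 (3042949, 7363769), (8862231, 1439858), (1551564, 11470095), (15329825, 15833986), (14816606, 14766822), (5564167, 1255401), (14805098, 15776278), (9407118, 10615948), (14889749, 16001118)]
theorem pair_ok : pairB SL HL KL [(0, 0), (1, 2), (2, 2), (3, 0), (4, 0), (0, 0), (0, 0), (5, 0), (6, 2), (7, 0), (8, 0), (9, 3), (10, 3), (0, 0), (0, 0), (11, 3), (12, 2), (13, 0), (14, 0), (15, 3), (16, 3), (0, 0), (0, 0), (17, 3), (18, 0), (19, 3), (20, 3), (21, 1), (22, 1), (0, 0), (0, 0), (23, 1), (24, 0), (25, 3), (26, 3), (27, 1), (28, 1), (0, 0), (0, 0), (29, 1), (0, 0), (0, 0), (0, 0), (0, 0), (0, 0), (0, 0), (0, 0), (0, 0), (30, 1), (0, 0), (0, 0), (0, 0), (0, 0), (0, 0), (0, 0), (0, 0), (0, 0), (31, 1), (0, 0), (0, 0), (0, 0), (0, 0), (0, 0), (0, 0), (0, 0), (0, 0), (0, 0), (0, 0), (0, 0), (0, 0), (0, 0), (0, 0), (32, 0), (33, 3), (34, 3), (35, 1), (36, 1), (0, 0), (0, 0), (37, 1), (0, 0), (0, 0), (38, 1), (0, 0), (0, 0), (0, 0), (0, 0), (0, 0), (0, 0), (0, 0), (0, 0), (39, 1), (0, 0), (0, 0), (0, 0), (0, 0), (0, 0), (0, 0), (0, 0),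 (0, 0), (40, 1), (0, 0), (0, 0), (0, 0), (0, 0), (0, 0), (0, 0), (0, 0), (0, 0), (0, 0), (41, 1), (0, 0), (0, 0), (0, 0), (0, 0), (0, 0), (0, 0), (42, 1), (0, 0), (0, 0), (0, 0), (0, 0), (0, 0), (0, 0), (0, 0), (0, 0), (0, 0), (43, 1)] = true := by decide +kernel
theorem cls (x f : UG C) (h1 : x * x = 1) (h0 : x ≠ 1) (h2 : Commute f x) (h3 : f ^ 4 = 1) :
    AP M0 x0 x1 F F2 x f :=
  have := normal_of_two two
  forall_of_pairB (a := 7) (n := 315) sy_card (by
    rw [Nat.card_congr eqv.toEquiv, Nat.card_perm, Nat.card_fin]; decide +kernel) (by decide) SL_all pair_ok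
    AP.of_conj KL_ok h1 h0 h2 h3
noncomputable def e2 : UG C := (pm 15917720 15917720)
noncomputable def e3 : UG C := (pm 11789960 11789960)
theorem ad : AD M0 x0 x1 F F2 tau y1 where
  two := two
  cls := cls
  t0 := t0
  t1 := by decide +kernel
  t2 := cmB_iff.mp (by decide +kernel)
  t3 := cmB_iff.mp (by decide +kernel)
  sp := ⟨(pm 16434369 16434369), (pm 16405144 16405144), (pm 14571144 14571144), (pm 14599816 14599816),
    (show (pm 16434369 16434369) = (pm 12457494 12834402) * (pm 12457494 12834402) * ((pm 6187531 13750730) * (pm 6187531 13750730)) by decide +kernel) ▸ mul_mem (sq_mem_of_two two _) (sq_mem_of_two two _),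
    by decide +kernel, cmB_iff.mp (by decide +kernel), by decide +kernel,
    sq_of_chk two (pm 12153568 10196312) (pm 5913208 3791312) (pm 4047029 12864187) (pm 5000814 6344149) (by decide +kernel),
    sq_of_chk two (pm 16434824 16434824) (pm 16434824 16434824) (pm 13084197 12326706) (pm 5214580 10816995) (by decide +kernel),
    conj_of_chk (pm 2042467 13996311) (by decide +kernel), conj_of_chk (pm 6822382 4243365) (by decide +kernel), conj_of_chk (pm 11029627 3129749) (by decide +kernel)⟩
  sp' := ⟨cmB_iff.mp (by decide +kernel), sq_of_chk two (pm 16434824 16434824) (pm 16434824 16434824) (pm 13680170 8185898) (pm 3832472 10080952) (by decide +kernel),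
    sq_of_chk two (pm 16434824 16434824) (pm 16434824 16434824) (pm 11036767 1291157) (pm 6167280 12965344) (by decide +kernel),
    (show x1 = (pm 13005139 10309747) * (pm 13005139 10309747) * ((pm 6472634 2805278) * (pm 6472634 2805278)) by decide +kernel) ▸ mul_mem (sq_mem_of_two two _) (sq_mem_of_two two _), by decide +kernel⟩
  x0 := (show x0 = (pm 15741866 15263773) * (pm 15741866 15263773) * ((pm 15764826 15557164) * (pm 15764826 15557164)) by decide +kernel) ▸ mul_mem (sq_mem_of_two two _) (sq_mem_of_two two _)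
  y1 := cmB_iff.mp (by decide +kernel)
  y2 := conj_of_chk (pm 11759818 9954315) (by decide +kernel)
  y3 := conj_of_chk (pm 9114077 5534627) (by decide +kernel)
  odd := ⟨[x0, e2, e3], by
    intro e he
    simp only [List.mem_cons, List.not_mem_nil, or_false] at he
    rcases he with rfl | rfl | rfl
    · exact ⟨sq_of_chk two (pm 16434824 16434824) (pm 16434824 16434824) (pm 15264536 15836072) (pm 16266537 16296133) (by decide +kernel), by decide +kernel⟩
    · exact ⟨sq_of_chk two (pm 16434824 16434824) (pm 16434824 16434824) (pm 10961055 1557171) (pm 12646557 10236590) (by decide +kernel), by decide +kernel⟩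
    · exact ⟨sq_of_chk two (pm 16434824 16434824) (pm 16434824 16434824) (pm 16368170 16304666) (pm 11746952 7858312) (by decide +kernel), by decide +kernel⟩,
    fun a ha h => eqv.injective (by
      rw [map_mul, map_mul]
      exact comm_of_odd (by rwa [eqv.orderOf_eq]) ((h x0 (by simp)).map eqv) ((h e2 (by simp)).map eqv)
        ((h e3 (by simp)).map eqv) (by decide +kernel))⟩

/-- A standard double cover of the alternating group in a simple group is an involution centraliser. -/
theorem main {G : Type*} [Group G] [Finite G] [IsSimpleGroup G] (hG : ¬ IsMulCommutative G)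
    {L : Subgroup G} (hL : Cfsg.IsStandardSubgroup L)
    (hX : Cfsg.IsNonsplitDoubleCover L (alternatingGroup (Fin 8))) : ∃ t : G, orderOf t = 2 ∧
      Cfsg.IsNonsplitDoubleCover (Subgroup.centralizer ({t} : Set G)) (alternatingGroup (Fin 8)) := by
  obtain ⟨t, r, D⟩ := exists_dat_alt (m := 6) (by decide) hL hX (i := 0) (j := 1) (by decide)
  have D' := D.equiv eqv
  rw [show eqv.symm _ = x0 from eqv.symm_apply_eq.mpr (Equiv.ext (by decide +kernel))] at D'
  exact exists_cen_of_eq D.e (ad.cen1_eq D' hG) hX

end H69.Std.A8
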