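import Cfsg.Agent.H69.StdRu1

/-! Tower STD: the enumeration of a Sylow 2-subgroup of the double cover of the Rudvalis group. -/

set_option autoImplicit false
set_option Elab.async false
set_option maxRecDepth 100000

namespace H69.Ru
open Subgroup H49 H69.Std

theorem pc0 : piece 0 = true := by decide +kernel
theorem pc1 : piece 1 = true := by decide +kernel
theorem pc2 : piece 2 = true := by decide +kernel
theorem pc3 : piece 3 = true := by decide +kernel
theorem pc4 : piece 4 = true := by decide +kernel
theorem pc5 : piece 5 = true := by decide +kernel
theorem pc6 : piece 6 = true := by decide +kernel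
theorem pc7 : piece 7 = true := by decide +kernel

theorem chk_all {x : UG CH} (hx : x ∈ closure {x | x ∈ sg}) : chk x = true :=
  of_pieces (T := (trs syL).headD []) (L := (trs syL).tail) 8 8 (by decide +kernel) (fun i hi => by
    interval_cases i
    exacts [pc0, pc1, pc2, pc3, pc4, pc5, pc6, pc7])
    (inProd_of_ubOK syL_ub (by rwa [syL_top]))

end H69.Ru
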