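import Cfsg.Agent.H96.U2ISpec

/-! S3275, chapter U2I, slot B5b: the symplectic section is too small. -/

set_option autoImplicit false

namespace H69.U2IB

open Subgroup Cfsg H98 H48.DP H57.DPC H48.DP2 H96.U2I
open scoped commutatorElement

universe u

variable {G : Type u} [Group G]

open Classical in
/-- the commutator form -/
noncomputable def ph (a b : G) : ZMod 2 := if Commute a b then 0 else 1

theorem ph_zero {a b : G} : ph a b = 0 ↔ Commute a b := by
  unfold ph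
  split_ifs with h
  · simp [h]
  · simp [h]

theorem ph_one {a b : G} (h : ¬ Commute a b) : ph a b = 1 := if_neg h

theorem ph_congr {a b c d : G} (h : Commute a b ↔ Commute c d) : ph a b = ph c d := by
  unfold ph
  rw [h]

variable {M T U : Subgroup G} {z v u : G}

theorem ph_mul (h : Sy M T U z v u) {a b c : G} (ha : a ∈ U) (hb : b ∈ U) (hc : c ∈ U) :
    ph (a * b) c = ph a c + ph b c := by
  by_cases h1 : Commute a c <;> by_cases h2 : Commute b c
  · rw [ph_zero.2 h1, ph_zero.2 h2, ph_zero.2 (h1.mul_left h2), add_zero]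
  · rw [ph_zero.2 h1, ph_one h2, ph_one fun k => h2 (by simpa using h1.inv_left.mul_left k), zero_add]
  · rw [ph_zero.2 h2, ph_one h1, ph_one fun k => h1 (by simpa using k.mul_left h2.inv_left), add_zero]
  · have e1 := (h.com a ha c hc).resolve_left fun e => h1 (commutatorElement_eq_one_iff_commute.1 e)
    have e2 := (h.com b hb c hc).resolve_left fun e => h2 (commutatorElement_eq_one_iff_commute.1 e)
    have e3 : ⁅a * b, c⁆ = a * ⁅b, c⁆ * a⁻¹ * ⁅a, c⁆ := by simp only [commutatorElement_def]; group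
    rw [e1, e2, (h.zM a (h.syl.le (h.UT ha))).eq, mul_inv_cancel_right, h.zz] at e3
    rw [ph_one h1, ph_one h2, ph_zero.2 (commutatorElement_eq_one_iff_commute.1 e3)]
    rfl

theorem com_le (h : Sy M T U z v u) : ⁅U, U⁆ ≤ U ⊓ Ce U := by
  refine commutator_le.2 fun a ha b hb => ⟨commutator_le_of_le le_rfl le_rfl
    (commutator_mem_commutator ha hb), ?_⟩
  rcases h.com a ha b hb with e | e <;> rw [e]
  · exact one_mem _
  · exact mem_centralizer_iff.2 fun m hm => (h.zM m (h.syl.le (h.UT hm))).eq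

theorem le_nn (h : Sy M T U z v u) : M ≤ nn U (U ⊓ Ce U) :=
  le_inf h.MU (le_normalizer_inf h.MU (h.MU.trans (normalizer_le_normalizer_centralizer U)))

variable {W : Type u} [AddCommGroup W] (s : Sec W U (U ⊓ Ce U))

theorem comm_of_eq {a b c : G} (ha : a ∈ U) (hb : b ∈ U) (hc : c ∈ U) (e : s.ψ a = s.ψ b)
    (k : Commute a c) : Commute b c := by
  have h1 : Commute (a⁻¹ * b) c := (mem_centralizer_iff.1 ((s.eq_iff ha hb).1 e).2 c hc).symm
  simpa using k.mul_left h1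

theorem ph_ψ {a b : G} (ha : a ∈ U) (hb : b ∈ U) : ph (s.σ (s.ψ a)) (s.σ (s.ψ b)) = ph a b :=
  ph_congr ⟨fun k => (comm_of_eq s (s.σ_mem _) hb ha (s.ψ_σ _)
      (comm_of_eq s (s.σ_mem _) ha (s.σ_mem _) (s.ψ_σ _) k).symm).symm,
    fun k => (comm_of_eq s hb (s.σ_mem _) (s.σ_mem _) (s.ψ_σ _).symm
      (comm_of_eq s ha (s.σ_mem _) hb (s.ψ_σ _).symm k).symm).symm⟩

include s in
theorem two (h : Sy M T U z v u) (w : W) : w + w = 0 := by
  obtain ⟨a, ha, rfl⟩ := s.surj w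
  rw [← s.mul a ha a ha, s.ker _ (mul_mem ha ha)]
  refine ⟨mul_mem ha ha, mem_centralizer_iff.2 fun c hc => (ph_zero.1 ?_).symm.eq⟩
  rw [ph_mul h ha ha hc]
  exact CharTwo.add_self_eq_zero _

theorem act (h : Sy M T U z v u) {m p : G} (hm : m ∈ M) (hp : p ∈ U) :
    s.α m • s.ψ p = s.ψ p + s.ψ ⁅m, p⁆ := by
  rw [s.α_ψ (le_nn h hm) hp, add_comm, ← s.mul _ (Sec.cmem (le_nn h hm) hp) _ hp,
    commutatorElement_def, inv_mul_cancel_right]

theorem eq_of_mul (h : Sy M T U z v u) {a b : G} (ha : a ∈ U) (hb : b ∈ U) (e : a * b ∈ Ce U) :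
    s.ψ a = s.ψ b := by
  have h1 := (s.ker _ (mul_mem ha hb)).2 ⟨mul_mem ha hb, e⟩
  rw [s.mul a ha b hb] at h1
  exact add_right_cancel (h1.trans (two s h _).symm)

theorem geo [Finite G] (h : Sy M T U z v u) :
    Geo (fun a b => ph (s.σ a) (s.σ b)) (s.bar M) (s.bar T) (s.ψ v) (s.ψ u) where
  two := two s h
  add a b c := by
    obtain ⟨a, ha, rfl⟩ := s.surj a
    obtain ⟨b, hb, rfl⟩ := s.surj b
    obtain ⟨c, hc, rfl⟩ := s.surj c
    rw [← s.mul a ha b hb, ph_ψ s (mul_mem ha hb) hc, ph_ψ s ha hc, ph_ψ s hb hc, ph_mul h ha hb hc]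
  sym a b := ph_congr Commute.symm_iff
  alt a := ph_zero.2 (Commute.refl _)
  nd a k := by
    obtain ⟨a, ha, rfl⟩ := s.surj a
    refine (s.ker a ha).2 ⟨ha, mem_centralizer_iff.2 fun c hc => (ph_zero.1 ?_).symm.eq⟩
    rw [← ph_ψ s ha hc]
    exact k _
  inv g hg a b := by
    obtain ⟨m, hm, rfl⟩ := s.exists_α hg
    obtain ⟨a, ha, rfl⟩ := s.surj a
    obtain ⟨b, hb, rfl⟩ := s.surj b
    rw [s.α_ψ (le_nn h hm) ha, s.α_ψ (le_nn h hm) hb, ph_ψ s ha hb,
      ph_ψ s (conj_mem_of_mem_normalizer (h.MU hm) ha) (conj_mem_of_mem_normalizer (h.MU hm) hb)]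
    exact ph_congr (Commute.conj_iff m)
  syl := s.isSyl_bar h.syl (le_nn h)
  uv := (ph_ψ s h.uU h.vU).trans (ph_one h.uv)
  tr t ht p k := by
    obtain ⟨t, ht', rfl⟩ := s.exists_α ht
    clear ht
    rename' ht' => ht
    obtain ⟨p, hp, rfl⟩ := s.surj p
    have hm := h.syl.le ht
    have hc := Sec.cmem (le_nn h hm) hp
    rw [act s h hm hp]
    refine (h.tr t ht p hp (ph_zero.1 ((ph_ψ s hp h.vU).symm.trans k))).imp (fun e => ?_) fun e => ?_
    · rw [(s.ker _ hc).2 ⟨hc, e⟩, add_zero]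
    · rw [eq_of_mul s h hc h.vU e]
  sur r k := by
    obtain ⟨r, hr, rfl⟩ := s.surj r
    obtain ⟨t, ht, e⟩ := h.sur r hr (ph_zero.1 ((ph_ψ s hr h.vU).symm.trans k))
    have hm := h.syl.le ht
    have hc := Sec.cmem (le_nn h hm) h.uU
    refine ⟨s.α t, s.α_mem (h.syl.le.trans (le_nn h)) ht, ?_⟩
    rw [act s h hm h.uU]
    refine e.imp (fun e => ?_) fun e => ?_
    · rw [eq_of_mul s h hc hr e]
    · rw [mul_assoc] at e
      rw [eq_of_mul s h hc (mul_mem hr h.vU) e, s.mul r hr v h.vU, add_assoc]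

theorem jobB5b : JobB5b.{u} := by
  intro ga gb G _ _ M T U z v u h
  obtain ⟨W, _, ⟨s⟩⟩ := exists_sec (U := U) (U₀ := U ⊓ Ce U) inf_le_left (com_le h)
  have := s.finite
  have g := geo s h
  obtain ⟨B, hB, eB, cB⟩ := h.e27
  have h1 : ∀ x ∈ B, s.α x • s.ψ v = s.ψ v → x = 1 := fun x hx e => by
    by_contra x1
    have := Fact.mk Nat.prime_three
    exact h.fix x (hB hx) (orderOf_eq_prime (eB.2 x hx) x1)
      ((s.smul_eq_iff (le_nn h (hB hx)) h.vU).1 e).2
  have h2 : Function.Injective fun b : B => s.α b • s.ψ v := fun a b e => by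
    have ha := le_nn h (hB a.2)
    have hb := le_nn h (hB b.2)
    have := h1 _ (mul_mem (inv_mem b.2) a.2) (by
      rw [s.α_mul (inv_mem hb) ha, s.α_inv hb, mul_smul, inv_smul_eq_iff]; exact e)
    exact Subtype.ext (inv_mul_eq_one.1 this).symm
  have h3 := Nat.card_le_card_of_injective _ h2
  have : Nontrivial B := Finite.one_lt_card_iff_nontrivial.1 (by omega)
  obtain ⟨b, b1⟩ := exists_ne (1 : B)
  have h4 : s.α b • s.ψ v ≠ s.ψ v := fun e => b1 (Subtype.ext (h1 _ b.2 e))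
  have h5 : Nat.card W ≤ 16 := by
    by_cases k : ∀ x ∈ s.bar M, x • s.ψ v ≠ s.ψ v → ph (s.σ (x • s.ψ v)) (s.σ (s.ψ v)) = 1
    · exact gb W _ _ _ _ _ g k _ (s.α_mem (le_nn h) (hB b.2)) h4
    · push Not at k
      obtain ⟨x, hx, k1, k2⟩ := k
      exact ga W _ _ _ _ _ g x hx k1 (ph_zero.2 (not_not.1 fun e => k2 (ph_one e)))
  omega

end H69.U2IB
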