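import Cfsg.Agent.H76.N6Fam
import Cfsg.Prelude.Def_Balance
import Cfsg.Prelude.Def_IsolatedElements

/-! S2997 (three-locally central elements): interface. See `blueprints/Z3.md`. -/

set_option autoImplicit false

namespace H69.Z3

open Cfsg Subgroup H7 H16
open H76.N6 (JJ)
open scoped commutatorElement

universe u

/-- `X` has a normal `3`-complement. -/
def Nil (X : Type*) [Group X] : Prop :=
  ∃ K : Subgroup X, K.Normal ∧ ¬ 3 ∣ Nat.card K ∧ ∀ g : X, ∃ j, g ^ 3 ^ j ∈ K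

theorem Nil.of_inj {X Y : Type*} [Group X] [Group Y] [Finite Y] (h : Nil Y) (f : X →* Y)
    (hf : Function.Injective f) : Nil X := by
  obtain ⟨K, hK, h3, hp⟩ := h
  refine ⟨K.comap f, inferInstance, fun e => h3 (e.trans ?_), fun g => (hp (f g)).imp fun j hj => by
    rwa [mem_comap, map_pow]⟩
  rw [← card_map_of_injective hf]
  exact card_dvd_of_le (map_comap_le f K)

theorem Nil.of_surj {X Y : Type*} [Group X] [Group Y] [Finite X] (h : Nil X) (f : X →* Y)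
    (hf : Function.Surjective f) : Nil Y := by
  obtain ⟨K, hK, h3, hp⟩ := h
  refine ⟨K.map f, hK.map f hf, fun e => h3 (e.trans (card_map_dvd K f)), fun g => ?_⟩
  obtain ⟨g, rfl⟩ := hf g
  obtain ⟨j, hj⟩ := hp g
  exact ⟨j, by rw [← map_pow]; exact mem_map_of_mem f hj⟩

theorem Nil.mono {G : Type*} [Group G] [Finite G] {H L : Subgroup G} (h : Nil L) (hl : H ≤ L) :
    Nil H :=
  h.of_inj (inclusion hl) (inclusion_injective hl)

theorem Nil.section {X : Type*} [Group X] [Finite X] (h : Nil X) (H : Subgroup X) (N : Subgroup H)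
    [N.Normal] : Nil (H ⧸ N) :=
  (h.of_inj H.subtype H.subtype_injective).of_surj _ (QuotientGroup.mk'_surjective N)

/-- A simple group with a normal `3`-complement is a `3'`-group or abelian. -/
theorem Nil.not_three {X : Type*} [Group X] [Finite X] [IsSimpleGroup X] (h : Nil X)
    (hn : ¬ IsMulCommutative X) : ¬ 3 ∣ Nat.card X := by
  obtain ⟨K, hK, h3, hp⟩ := h
  rcases hK.eq_bot_or_eq_top with rfl | rfl
  · have : Fact (Nat.Prime 3) := ⟨Nat.prime_three⟩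
    have h1 : IsPGroup 3 X := fun g => hp g
    have := h1.isNilpotent
    exact absurd (IsSimpleGroup.comm_iff_isSolvable.2 inferInstance) fun e => hn ⟨⟨e⟩⟩
  · rwa [card_top] at h3

/-- Job LB: two facts about the simple `3'`-groups (the Suzuki groups). -/
def JobLB : Prop :=
  ∀ (X : Type u) [Group X] [Finite X], IsSimpleGroup X → ¬ IsMulCommutative X →
    ¬ 3 ∣ Nat.card X → IsLocallyBalanced X ∧ ∀ (S : Subgroup X) (δ : MulAut X),
      IsSylowIn 2 S ⊤ → Odd (orderOf δ) → (∀ s ∈ S, δ s = s) → δ = 1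

/-- Job KF: an element of order three centralizing a Sylow `2`-subgroup of a `3'`-group. -/
def JobKF : Prop :=
  ∀ (G : Type u) [Group G] [Finite G] (K T : Subgroup G) (x : G), orderOf x = 3 → x ∈ Nm K →
    ¬ 3 ∣ Nat.card K → IsSylowIn 2 T K → T ≤ centralizer {x} →
      Odd (Nat.card (⁅K, zpowers x⁆ : Subgroup G))

/-- Job BAL: balance at an involution whose centralizer has a normal `3`-complement. -/
def JobBal : Prop :=
  ∀ (G : Type u) [Group G] [Finite G] (a b : G), orderOf a = 2 → orderOf b = 2 → a * b = b * a →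
    Nil (centralizer {b} : Subgroup G) →
      centralizerPPrimeCore 2 a ⊓ centralizer {b} ≤ centralizerPPrimeCore 2 b

/-- Job GEN: `[Y, x]` is generated by the `[C_Y(w), x]`. -/
def JobGen : Prop :=
  ∀ (G : Type u) [Group G] [Finite G] (Y U W : Subgroup G) (x : G), orderOf x = 3 →
    Odd (Nat.card Y) → ¬ 3 ∣ Nat.card Y → IsElementaryAbelian 2 U → 4 ≤ Nat.card U → U ≤ Nm Y →
    x ∈ Nm Y → x ∈ Ce U → (∀ w ∈ U, w ≠ 1 → ⁅Y ⊓ centralizer {w}, zpowers x⁆ ≤ W) →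
      ⁅Y, zpowers x⁆ ≤ W

/-- Job B1: a four-group containing all involutions of its centralizer, permuted transitively. -/
def JobB1 : Prop :=
  ∀ (G : Type u) [Group G] [Finite G] (V : Subgroup G), IsElementaryAbelian 2 V → Nat.card V = 4 →
    (∀ t ∈ Ce V, t ^ 2 = 1 → t ∈ V) →
    (∀ a ∈ V, a ≠ 1 → ∀ b ∈ V, b ≠ 1 → ∃ n ∈ Nm V, n * a * n⁻¹ = b) → PRankLE 2 2 G

/-- A good local subgroup. -/
def Good {G : Type u} [Group G] (L T : Subgroup G) : Prop :=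
  Nil L ∨ ∀ (A : Set G) (g : G), g ∈ L → A ⊆ T → (∀ a ∈ A, g * a * g⁻¹ ∈ T) →
    ∃ n ∈ L ⊓ Nm (JJ T), ∀ a ∈ A, n * a * n⁻¹ = g * a * g⁻¹

/-- Job FUS: `H76.N6.sc_of_not_three` with `Nil` in place of `3'`. -/
def JobFus : Prop :=
  ∀ (G : Type u) [Group G] [Finite G] (S : Subgroup G), IsSylowIn 2 S ⊤ → S ≠ ⊥ →
    (∀ U T : Subgroup G, IsPGroup 2 U → U ≠ ⊥ → IsSylowIn 2 T (Nm U) → Good (Nm U) T) →
    Nil (Nm (JJ S)) → ∃ A : Subgroup G, A ≠ ⊥ ∧ A ≤ Ce A ∧ IsStronglyClosed A S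

/-- The properties of a minimal counterexample that are used. -/
structure Hy {G : Type u} [Group G] (x : G) : Prop where
  ord : orderOf x = 3
  iso : IsIsolated x
  lc : ∀ y ∈ centralizer {x}, orderOf y = 3 → centralizer {y} ≤ centralizer {x}
  f0 : ∀ H : Subgroup G, H ≠ ⊤ → x ∈ H → ¬ 3 ∣ Nat.card (⁅H, zpowers x⁆ : Subgroup G)
  nil : ∀ H : Subgroup G, H ≠ ⊤ → x ∈ H → ¬ H ≤ centralizer {x} →
    Nil H ∧ ∀ y ∈ H ⊓ centralizer {x}, y ^ 3 = 1 → y ∈ zpowers x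
  prop : ∀ W : Subgroup G, W ≠ ⊥ → ¬ 3 ∣ Nat.card W → Nm W ≠ ⊤
  rank : ¬ PRankLE 2 2 G
  sc : ∀ S A : Subgroup G, IsSylowIn 2 S ⊤ → A ≤ Ce A → IsStronglyClosed A S → A = ⊥
  syl : ∀ Q : Subgroup G, IsPGroup 2 Q → x ∈ Nm Q → ∃ S, IsSylowIn 2 S ⊤ ∧ Q ≤ S ∧ x ∈ Nm S
  trans : ∀ S T : Subgroup G, IsSylowIn 2 S ⊤ → IsSylowIn 2 T ⊤ → x ∈ Nm S → x ∈ Nm T →
    ∃ m ∈ centralizer {x}, cj m S = T
  holt : ∀ (H S : Subgroup G) (z : G), H ≠ ⊤ → IsSylowIn 2 S ⊤ → orderOf z = 2 → z ∈ S ⊓ Ce S →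
    z ∈ H → ¬ ∀ g, g * z * g⁻¹ ∈ H → g ∈ H

/-- Case B: `x` acts nontrivially on an invariant Sylow `2`-subgroup. -/
def CaseB : Prop :=
  ∀ (G : Type u) [Group G] [Finite G] (x : G), Hy x → ∀ S : Subgroup G, IsSylowIn 2 S ⊤ →
    x ∈ Nm S → S ≤ centralizer {x}

/-- Case C: `x` centralizes a Sylow `2`-subgroup. -/
def CaseC : Prop :=
  ∀ (G : Type u) [Group G] [Finite G] (x : G), Hy x →
    (∀ S : Subgroup G, IsSylowIn 2 S ⊤ → x ∈ Nm S → S ≤ centralizer {x}) → False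

end H69.Z3
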